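import Cfsg.Agent.CoOneType.FrameFix
import Cfsg.Agent.CoOneType.CoOneE
import Cfsg.Agent.S0364
import Cfsg.Agent.S0365
set_option linter.all false

/-!
# The stabiliser `F = 2^11 : M24` in `Co1` of the standard frame class

`F = pr N`, where `N` is the stabiliser in `Co0` of the standard cross: membership, index, the
normal subgroup `E = 2^11` of sign changes, the map onto `M24`, irreducibility of `E` (already for
an element of order 23), `F` is perfect, and every normal 2-subgroup of `F` is contained in `E`.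
-/

set_option autoImplicit false

namespace Cfsg.Agent.MonsterU.CoFrameF

open Cfsg
open Cfsg.Agent.SporadicA.Co0Mono hiding smul_add smul_sub smul_neg smul_zero
open Cfsg.Agent.SporadicA.Co1Simple
open Cfsg.Agent.CoOneType
open Cfsg.Agent.CoOneType.CoOneE (pr pr_surjective E mem_E mem_center_iff card_E)
open Cfsg.Agent.SporadicStructure.Co0Base (e8 e8_coe)
open Cfsg.Spor (Co1)
open scoped Pointwise commutatorElement

/-! ### An automorphism of order 23 without fixed points -/

theorem card_modEq {K : Type*} [Group K] [Finite K] (φ : MulAut K) (hφ : φ ^ 23 = 1)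
    (hfix : ∀ k, φ k = k → k = 1) : Nat.card K ≡ 1 [MOD 23] := by
  have : Fact (Nat.Prime 23) := ⟨by norm_num⟩
  have hp : IsPGroup 23 (Subgroup.zpowers φ) := by
    rintro ⟨g, n, rfl⟩
    refine ⟨1, ?_⟩
    apply Subtype.ext
    show (φ ^ n) ^ 23 ^ 1 = 1
    rw [pow_one, ← zpow_natCast, ← zpow_mul, mul_comm, zpow_mul, zpow_natCast, hφ, one_zpow]
  have h1 := hp.card_modEq_card_fixedPoints K
  have h2 : MulAction.fixedPoints (Subgroup.zpowers φ) K = {1} := by
    ext k
    rw [MulAction.mem_fixedPoints, Set.mem_singleton_iff]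
    constructor
    · intro h
      exact hfix k (h ⟨φ, Subgroup.mem_zpowers φ⟩)
    · rintro rfl ⟨g, hg⟩
      exact map_one g
  rw [h2, Nat.card_coe_set_eq, Set.ncard_singleton] at h1
  exact h1

/-- A subgroup of order dividing `2^11` normalised by an element of order 23 without fixed points
has order `1` or `2^11`. -/
theorem card_cases {G : Type*} [Group G] (K : Subgroup G) (hK : Nat.card K ∣ 2 ^ 11) (x : G)
    (hx : x ^ 23 = 1) (hn : ∀ k ∈ K, x * k * x⁻¹ ∈ K) (hfix : ∀ k ∈ K, x * k = k * x → k = 1) :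
    Nat.card K = 1 ∨ Nat.card K = 2 ^ 11 := by
  have hfin : Finite K := by
    apply Nat.finite_of_card_ne_zero
    intro h
    rw [h] at hK
    exact absurd hK (by norm_num)
  -- `x` normalises `K`
  have hpow : ∀ n : ℕ, ∀ k ∈ K, x ^ n * k * (x ^ n)⁻¹ ∈ K := by
    intro n
    induction n with
    | zero => intro k hk; simpa using hk
    | succ n ih =>
      intro k hk
      have h1 := hn _ (ih k hk)
      have e : x ^ (n + 1) * k * (x ^ (n + 1))⁻¹ = x * (x ^ n * k * (x ^ n)⁻¹) * x⁻¹ := by
        rw [pow_succ']; group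
      rw [e]; exact h1
  have hx' : x⁻¹ = x ^ 22 := by
    rw [inv_eq_iff_mul_eq_one, ← pow_succ', hx]
  have hinv : ∀ k ∈ K, x⁻¹ * k * x ∈ K := by
    intro k hk
    have h1 := hpow 22 k hk
    rwa [← hx', inv_inv] at h1
  let φ : MulAut K :=
    { toFun k := ⟨x * k * x⁻¹, hn k k.2⟩
      invFun k := ⟨x⁻¹ * k * x, hinv k k.2⟩
      left_inv k := Subtype.ext (by show x⁻¹ * (x * k * x⁻¹) * x = k; group)
      right_inv k := Subtype.ext (by show x * (x⁻¹ * k * x) * x⁻¹ = k; group)
      map_mul' k l := Subtype.ext (by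
        show x * (k * l) * x⁻¹ = x * k * x⁻¹ * (x * l * x⁻¹); group) }
  have hφ : ∀ n : ℕ, ∀ k : K, ((φ ^ n) k : G) = x ^ n * k * (x ^ n)⁻¹ := by
    intro n
    induction n with
    | zero => intro k; simp
    | succ n ih =>
      intro k
      rw [pow_succ', MulAut.mul_apply]
      show x * ((φ ^ n) k : G) * x⁻¹ = _
      rw [ih, pow_succ']; group
  have h1 := card_modEq φ (by
    ext k
    rw [hφ, hx]; simp) (by
    intro k hk
    have h2 : x * k * x⁻¹ = k := congrArg Subtype.val hk
    apply Subtype.ext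
    exact hfix k k.2 (by rw [mul_inv_eq_iff_eq_mul] at h2; exact h2))
  obtain ⟨d, hd, hd'⟩ := (Nat.dvd_prime_pow Nat.prime_two).1 hK
  rw [hd'] at h1 ⊢
  interval_cases d
  · left; norm_num
  all_goals first | (right; rfl) | (exfalso; revert h1; decide)

/-! ### The projection to `Co1` and the group `F` -/

theorem pr_eq_one {t : Co0} : pr t = 1 ↔ t = 1 ∨ t = signCo0 allOne := by
  have h := CoOneE.pr_eq_iff 1 t
  rw [map_one, one_mul] at h
  rw [eq_comm, h]

theorem pr_eq {s t : Co0} : pr s = pr t ↔ s = t ∨ s = t * signCo0 allOne := by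
  have h1 : pr s = pr t ↔ pr (t⁻¹ * s) = 1 := by
    rw [map_mul, map_inv, inv_mul_eq_one, eq_comm]
  rw [h1, pr_eq_one, inv_mul_eq_one, inv_mul_eq_iff_eq_mul, eq_comm]

theorem center_le_N : Subgroup.center Co0 ≤ N := by
  intro t ht
  rcases (mem_center_iff t).1 ht with rfl | rfl
  · exact N.one_mem
  · exact sign_mem_N allOne

/-- The stabiliser in `Co1` of the standard frame. -/
def F : Subgroup Co1 := N.map pr

theorem comap_F : F.comap pr = N := by
  unfold F
  rw [Subgroup.comap_map_eq]
  apply sup_eq_left.2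
  unfold pr
  rw [QuotientGroup.ker_mk']
  exact center_le_N

theorem pr_mem_F {g : Co0} : pr g ∈ F ↔ g ∈ N := by
  rw [← Subgroup.mem_comap, comap_F]

/-- Membership in `N` in terms of the frame class modulo `2 Λ`. -/
theorem mem_N_iff_congr (g : Co0) (i j : GolayPt) :
    g ∈ N ↔ ∃ u : leechLattice, g • e8 i = e8 j + (2 : ℕ) • u := by
  constructor
  · intro hg
    have h1 : g • e8 i ∈ crossSet := (mem_N_iff g).1 hg (e8 i) (e8_mem i)
    obtain ⟨k, hk | hk⟩ := (mem_crossSet _).1 h1
    · obtain ⟨u, hu⟩ := e8_sub k j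
      exact ⟨u, by rw [hk, hu]⟩
    · obtain ⟨u, hu⟩ := e8_sub k j
      refine ⟨u - e8 k, ?_⟩
      rw [hk, nsmul_sub, ← add_sub_assoc, ← hu, two_nsmul]
      abel
  · rintro ⟨u, hu⟩
    apply mem_N_of_e8
    intro k
    obtain ⟨w, hw⟩ := e8_sub k i
    apply mem_crossSet_of_congr (g • e8 k) (u + g • w) j
    · rw [sqNorm_smul]
      exact sqNorm_e8 k
    · rw [hw, Cfsg.Agent.SporadicA.Co0Mono.smul_add, smul_nsmul, hu, nsmul_add, add_assoc]

theorem index_F : F.index = 8292375 := by
  have h := Subgroup.index_comap_of_surjective F pr_surjective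
  rw [comap_F, Cfsg.Agent.CoOneType.FrameFix.index_N] at h
  exact h.symm

theorem odd_index_F : Odd F.index := by rw [index_F]; decide

theorem sp_mem_F (c : golayCode) (σ : M24) : pr (signCo0 c * permCo0 σ) ∈ F :=
  pr_mem_F.2 (N.mul_mem (sign_mem_N c) (perm_mem_N σ))

theorem exists_of_mem_F {x : Co1} (hx : x ∈ F) :
    ∃ (c : golayCode) (σ : M24), x = pr (signCo0 c * permCo0 σ) := by
  obtain ⟨g, hg, rfl⟩ := hx
  obtain ⟨c, σ, h⟩ := exists_sign_perm hg
  exact ⟨c, σ, by rw [h]⟩

theorem sign_inj {c d : golayCode} (h : signCo0 c = signCo0 d) : c = d := by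
  apply Subtype.ext
  funext i
  have h1 : ((signCo0 c • e8 i : leechLattice) : GolayPt → ℤ) i =
      ((signCo0 d • e8 i : leechLattice) : GolayPt → ℤ) i := by rw [h]
  rw [signCo0_smul, signCo0_smul, signMap_apply, signMap_apply, e8_coe] at h1
  rcases Cfsg.Agent.SporadicStructure.LeechBase.zmod2_cases ((c : GolayPt → ZMod 2) i) with h2 | h2 <;>
  rcases Cfsg.Agent.SporadicStructure.LeechBase.zmod2_cases ((d : GolayPt → ZMod 2) i) with h3 | h3 <;>
  rw [h2, h3] at h1 ⊢ <;> simp [sgn_zero, sgn_one] at h1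

theorem sp_inj {c d : golayCode} {σ τ : M24}
    (h : signCo0 c * permCo0 σ = signCo0 d * permCo0 τ) : c = d ∧ σ = τ := by
  have h1 : signCo0 (d + c) * permCo0 (σ * τ⁻¹) = 1 := by
    rw [signCo0_add, map_mul, mul_assoc, ← mul_assoc (signCo0 c), h, map_inv, mul_assoc,
      mul_inv_cancel, mul_one, signCo0_mul_self]
  have h2 : σ = τ := by
    have := perm_eq_one h1
    rwa [mul_inv_eq_one] at this
  subst h2
  exact ⟨sign_inj (mul_right_cancel h), rfl⟩

theorem pr_sp_eq {c d : golayCode} {σ τ : M24}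
    (h : pr (signCo0 c * permCo0 σ) = pr (signCo0 d * permCo0 τ)) :
    σ = τ ∧ (c = d ∨ c = d + allOne) := by
  rcases pr_eq.1 h with h1 | h1
  · obtain ⟨h2, h3⟩ := sp_inj h1
    exact ⟨h3, Or.inl h2⟩
  · have h4 : signCo0 d * permCo0 τ * signCo0 allOne = signCo0 (d + allOne) * permCo0 τ := by
      have h5 := Subgroup.mem_center_iff.1 allOne_mem_center (signCo0 d * permCo0 τ)
      rw [h5, ← mul_assoc, ← signCo0_add, add_comm]
    rw [h4] at h1
    obtain ⟨h2, h3⟩ := sp_inj h1
    exact ⟨h3, Or.inr h2⟩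

theorem sp_mul (c d : golayCode) (σ τ : M24) :
    (signCo0 c * permCo0 σ) * (signCo0 d * permCo0 τ) =
      signCo0 (c + wordPerm σ d) * permCo0 (σ * τ) := by
  rw [mul_assoc, ← mul_assoc (permCo0 σ), perm_mul_sign, mul_assoc, ← map_mul, ← mul_assoc,
    ← signCo0_add]

/-- the permutation part of an element of `F` -/
noncomputable def permPt (x : F) : M24 := (exists_of_mem_F x.2).choose_spec.choose

theorem permPt_spec (x : F) : ∃ c, (x : Co1) = pr (signCo0 c * permCo0 (permPt x)) :=
  ⟨_, (exists_of_mem_F x.2).choose_spec.choose_spec⟩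

theorem permPt_eq {x : F} {c : golayCode} {σ : M24}
    (h : (x : Co1) = pr (signCo0 c * permCo0 σ)) : permPt x = σ := by
  obtain ⟨d, hd⟩ := permPt_spec x
  exact (pr_sp_eq (hd.symm.trans h)).1

/-- The map of `F` onto `M24`. -/
noncomputable def toM24 : F →* M24 where
  toFun := permPt
  map_one' := permPt_eq (c := 0) (by rw [signCo0_zero, map_one, one_mul, map_one]; rfl)
  map_mul' x y := by
    obtain ⟨c, hc⟩ := permPt_spec x
    obtain ⟨d, hd⟩ := permPt_spec y
    refine permPt_eq (c := c + wordPerm (permPt x) d) ?_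
    rw [← sp_mul, map_mul, ← hc, ← hd]
    rfl

theorem toM24_eq {x : F} {c : golayCode} {σ : M24} (h : (x : Co1) = pr (signCo0 c * permCo0 σ)) :
    toM24 x = σ := permPt_eq h

theorem toM24_surjective : Function.Surjective toM24 := fun σ =>
  ⟨⟨pr (signCo0 0 * permCo0 σ), sp_mem_F 0 σ⟩, toM24_eq rfl⟩

/-! ### The normal subgroup `E` -/

theorem pr_sign_mem_E (c : golayCode) : pr (signCo0 c) ∈ E := ⟨c, rfl⟩

theorem E_le_F : E ≤ F := by
  rintro _ ⟨c, rfl⟩
  exact pr_mem_F.2 (sign_mem_N c)

theorem sq_of_mem_E {x : Co1} (hx : x ∈ E) : x * x = 1 := by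
  obtain ⟨c, rfl⟩ := hx
  rw [← map_mul, signCo0_mul_self, map_one]

theorem comm_of_mem_E {x y : Co1} (hx : x ∈ E) (hy : y ∈ E) : x * y = y * x := by
  obtain ⟨c, rfl⟩ := hx
  obtain ⟨d, rfl⟩ := hy
  rw [← map_mul, ← map_mul, ← signCo0_add, ← signCo0_add, add_comm]

theorem conj_sign (σ : M24) (c d : golayCode) :
    pr (signCo0 d * permCo0 σ) * pr (signCo0 c) * (pr (signCo0 d * permCo0 σ))⁻¹ =
      pr (signCo0 (wordPerm σ c)) := by
  rw [← map_inv, ← map_mul, ← map_mul]
  congr 1
  rw [mul_inv_rev, mul_assoc (signCo0 d), perm_mul_sign, ← mul_assoc, ← mul_assoc,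
    mul_inv_cancel_right, signCo0_inv, ← signCo0_add, ← signCo0_add, add_comm d, add_assoc,
    signCo0_add_self, add_zero]

theorem conj_mem_E {f : Co1} (hf : f ∈ F) {x : Co1} (hx : x ∈ E) : f * x * f⁻¹ ∈ E := by
  obtain ⟨d, σ, rfl⟩ := exists_of_mem_F hf
  obtain ⟨c, rfl⟩ := hx
  rw [conj_sign]
  exact pr_sign_mem_E _

theorem ker_toM24 : toM24.ker = E.subgroupOf F := by
  ext x
  rw [MonoidHom.mem_ker, Subgroup.mem_subgroupOf]
  obtain ⟨c, σ, h⟩ := exists_of_mem_F x.2
  rw [toM24_eq h, h]
  constructor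
  · rintro rfl
    rw [map_one, mul_one]
    exact pr_sign_mem_E c
  · rintro ⟨d, hd⟩
    have h1 : pr (signCo0 c * permCo0 σ) = pr (signCo0 d * permCo0 1) := by
      rw [hd, map_one, mul_one]
    exact (pr_sp_eq h1).1

theorem toM24_eq_one_iff (x : F) : toM24 x = 1 ↔ (x : Co1) ∈ E := by
  rw [← MonoidHom.mem_ker, ker_toM24, Subgroup.mem_subgroupOf]

theorem card_center : Nat.card (Subgroup.center Co0) = 2 := by
  have h1 : ((Subgroup.center Co0 : Subgroup Co0) : Set Co0) = {1, signCo0 allOne} := by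
    ext t
    rw [SetLike.mem_coe, mem_center_iff]
    rfl
  have h2 : (1 : Co0) ≠ signCo0 allOne := by
    intro h
    rw [← signCo0_zero] at h
    have h3 := congrArg (fun c : golayCode => (c : GolayPt → ZMod 2) none) (sign_inj h)
    exact absurd h3 (by decide)
  have h3 : Nat.card (Subgroup.center Co0) = ((Subgroup.center Co0 : Subgroup Co0) : Set Co0).ncard :=
    Nat.card_coe_set_eq _
  rw [h3, h1, Set.ncard_pair h2]

theorem card_Co1 : Nat.card Co1 = 4157776806543360000 := by
  have h := Subgroup.card_eq_card_quotient_mul_card_subgroup (Subgroup.center Co0)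
  rw [Cfsg.Agent.S0397.result, card_center] at h
  have h' : Nat.card Co1 = Nat.card (Co0 ⧸ Subgroup.center Co0) := rfl
  omega

theorem card_F : Nat.card F = 2048 * 244823040 := by
  have h := F.card_mul_index
  rw [index_F, card_Co1] at h
  exact Nat.eq_of_mul_eq_mul_right (by norm_num : 0 < 8292375) (h.trans (by norm_num))

/-! ### Irreducibility -/

/-- The element of order 23. -/
noncomputable def x : Co1 := pr x23

theorem x_pow : x ^ 23 = 1 := by
  unfold x
  rw [← map_pow, x23_pow, map_one]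

theorem x_mem_F : x ∈ F := pr_mem_F.2 x23_mem_N

theorem x_eq : x = pr (signCo0 0 * permCo0 shift) := by
  rw [signCo0_zero, one_mul]; rfl

/-- A code word fixed by the shift is constant. -/
theorem eq_of_shift {c : golayCode} (h : wordPerm shift c = c) : c = 0 ∨ c = allOne := by
  have h1 : ∀ a : ZMod 23, (c : GolayPt → ZMod 2) (some (a + 1)) = (c : GolayPt → ZMod 2) (some a) := by
    intro a
    have h2 := congrArg (fun d : golayCode => (d : GolayPt → ZMod 2) (some (a + 1))) h
    have h3 : ((shift : M24) : Equiv.Perm GolayPt).symm (some (a + 1)) = some a := by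
      rw [Equiv.symm_apply_eq]; rfl
    have h4 : (wordPerm shift c : GolayPt → ZMod 2) (some (a + 1)) = (c : GolayPt → ZMod 2) (some a) := by
      rw [wordPerm_apply, h3]
    exact h2.symm.trans h4
  have h2 : ∀ n : ℕ, (c : GolayPt → ZMod 2) (some (n : ZMod 23)) = (c : GolayPt → ZMod 2) (some 0) := by
    intro n
    induction n with
    | zero => rw [Nat.cast_zero]
    | succ n ih => rw [Nat.cast_succ, h1, ih]
  have h3 : ∀ a : ZMod 23, (c : GolayPt → ZMod 2) (some a) = (c : GolayPt → ZMod 2) (some 0) := by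
    intro a
    have := h2 a.val
    rwa [ZMod.natCast_zmod_val] at this
  -- orthogonality with the all-one word
  have h4 := Cfsg.Agent.SporadicA.Co0Basic.code_dot c.2 allOne.2
  have h5 : ∑ p, (c : GolayPt → ZMod 2) p * (allOne : GolayPt → ZMod 2) p =
      (c : GolayPt → ZMod 2) none + (c : GolayPt → ZMod 2) (some 0) := by
    have h6 : ∀ p, (c : GolayPt → ZMod 2) p * (allOne : GolayPt → ZMod 2) p =
        (c : GolayPt → ZMod 2) p := fun p => mul_one _
    rw [Finset.sum_congr rfl fun p _ => h6 p]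
    have h7 : ∑ p : GolayPt, (c : GolayPt → ZMod 2) p =
        (c : GolayPt → ZMod 2) none + ∑ a : ZMod 23, (c : GolayPt → ZMod 2) (some a) :=
      Fintype.sum_option _
    rw [h7, Finset.sum_congr rfl fun a _ => h3 a, Finset.sum_const, Finset.card_univ, ZMod.card,
      nsmul_eq_mul]
    have : ((23 : ℕ) : ZMod 2) = 1 := by decide
    rw [this, one_mul]
  rw [h5] at h4
  have h6 : (c : GolayPt → ZMod 2) none = (c : GolayPt → ZMod 2) (some 0) := by
    have h7 : ∀ a b : ZMod 2, a + b = 0 → a = b := by decide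
    exact h7 _ _ h4
  rcases Cfsg.Agent.SporadicStructure.LeechBase.zmod2_cases ((c : GolayPt → ZMod 2) (some 0)) with h7 | h7
  · left
    apply Subtype.ext
    funext i
    cases i with
    | none => rw [h6, h7]; rfl
    | some a => rw [h3 a, h7]; rfl
  · right
    apply Subtype.ext
    funext i
    cases i with
    | none => rw [h6, h7]; rfl
    | some a => rw [h3 a, h7]; rfl

/-- `x` centralises no element of `E` except `1`. -/
theorem eq_one_of_comm {k : Co1} (hk : k ∈ E) (h : x * k = k * x) : k = 1 := by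
  obtain ⟨c, rfl⟩ := hk
  have h1 : x * pr (signCo0 c) * x⁻¹ = pr (signCo0 (wordPerm shift c)) := by
    rw [x_eq]; exact conj_sign shift c 0
  rw [h, mul_inv_cancel_right] at h1
  -- the shift fixes `c` up to the all-one word
  have h2 : pr (signCo0 c * permCo0 1) = pr (signCo0 (wordPerm shift c) * permCo0 1) := by
    rw [map_one, mul_one, mul_one, h1]
  rw [pr_eq_one]
  rcases (pr_sp_eq h2).2 with h3 | h3
  · rcases eq_of_shift h3.symm with h4 | h4
    · left; rw [h4, signCo0_zero]
    · right; rw [h4]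
  · exfalso
    -- 23 times
    have h4 : wordPerm shift c = c + allOne := by
      have h5 : c + allOne = wordPerm shift c + (allOne + allOne) := by
        rw [← add_assoc, ← h3]
      rw [h5, signCo0_add_self, add_zero]
    have hall : ∀ σ : M24, wordPerm σ allOne = allOne := fun σ => rfl
    have h5 : ∀ n : ℕ, wordPerm (shift ^ n) c = c + n • allOne := by
      intro n
      induction n with
      | zero => rw [pow_zero, zero_smul, add_zero]; rfl
      | succ n ih =>
        have hadd : ∀ a b : golayCode, wordPerm shift (a + b) = wordPerm shift a + wordPerm shift b :=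
          fun a b => rfl
        have hn : ∀ m : ℕ, wordPerm shift (m • allOne) = m • allOne := fun m => rfl
        rw [pow_succ', wordPerm_mul, ih, hadd, hn, h4, succ_nsmul]
        abel
    have h6 := h5 23
    rw [shift_pow_23] at h6
    have h7 : (23 : ℕ) • allOne = 0 := by
      have h8 : c = c + (23 : ℕ) • allOne := h6
      exact (left_eq_add.1 h8)
    have h8 := congrArg (fun d : golayCode => (d : GolayPt → ZMod 2) none) h7
    exact absurd h8 (by decide)

/-- **`E` is irreducible**, already for the element of order 23. -/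
theorem E_irred (K : Subgroup Co1) (hK : K ≤ E) (hn : ∀ k ∈ K, x * k * x⁻¹ ∈ K) :
    K = ⊥ ∨ K = E := by
  have hfinE : Finite E := Nat.finite_of_card_ne_zero (by rw [card_E]; norm_num)
  have h1 : Nat.card K ∣ 2 ^ 11 := by
    have := Subgroup.card_dvd_of_le hK
    rwa [card_E] at this
  rcases card_cases K h1 x x_pow hn (fun k hk h => eq_one_of_comm (hK hk) h) with h2 | h2
  · left; exact Subgroup.eq_bot_of_card_eq K h2
  · right
    apply Subgroup.eq_of_le_of_card_ge hK
    rw [card_E, h2]
    norm_num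

/-- **Every normal 2-subgroup of `F` is contained in `E`.** -/
theorem le_E_of_normal (K : Subgroup Co1) (hK : K ≤ F)
    (hn : ∀ f ∈ F, ∀ k ∈ K, f * k * f⁻¹ ∈ K) (h2 : IsPGroup 2 K) : K ≤ E := by
  let L : Subgroup M24 := (K.subgroupOf F).map toM24
  have hL : L.Normal := by
    have h3 : (K.subgroupOf F).Normal := by
      constructor
      intro k hk f
      exact hn f f.2 k hk
    exact h3.map toM24 toM24_surjective
  have hLp : IsPGroup 2 L := by
    have h3 : IsPGroup 2 (K.subgroupOf F) := h2.comap_subtype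
    exact h3.map toM24
  rcases Cfsg.Agent.S0365.result.eq_bot_or_eq_top_of_normal L hL with h3 | h3
  · intro k hk
    have h4 : toM24 ⟨k, hK hk⟩ ∈ L := Subgroup.mem_map_of_mem _ (show _ ∈ K.subgroupOf F from hk)
    rw [h3, Subgroup.mem_bot] at h4
    exact (toM24_eq_one_iff _).1 h4
  · exfalso
    rw [h3] at hLp
    obtain ⟨n, hn⟩ := IsPGroup.iff_card.1 hLp
    rw [Subgroup.card_top, Cfsg.Agent.S0364.result] at hn
    have h5 : 23 ∣ 2 ^ n := by rw [← hn]; norm_num
    have h6 := (by norm_num : Nat.Prime 23).dvd_of_dvd_pow h5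
    exact absurd h6 (by norm_num)

theorem commutator_M24 : commutator M24 = ⊤ := by
  rcases Cfsg.Agent.S0365.result.eq_bot_or_eq_top_of_normal (commutator M24) inferInstance with
    h | h
  · exfalso
    have hcomm : ∀ a b : M24, a * b = b * a := by
      intro a b
      have h1 : ⁅a, b⁆ ∈ commutator M24 :=
        Subgroup.commutator_mem_commutator (Subgroup.mem_top a) (Subgroup.mem_top b)
      rw [h, Subgroup.mem_bot, commutatorElement_eq_one_iff_mul_comm] at h1
      exact h1
    let _ : CommGroup M24 := { (inferInstance : Group M24) with mul_comm := hcomm }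
    have : IsSimpleGroup M24 := Cfsg.Agent.S0365.result
    have h2 : (Nat.card M24).Prime := IsSimpleGroup.prime_card
    rw [Cfsg.Agent.S0364.result] at h2
    exact absurd h2 (by norm_num)
  · exact h

theorem exists_sign_ne : ∃ e ∈ E, e ≠ 1 := by
  by_contra h
  push Not at h
  have h1 : E = ⊥ := (Subgroup.eq_bot_iff_forall _).2 h
  have h2 := card_E
  rw [h1, Subgroup.card_bot] at h2
  exact absurd h2 (by norm_num)

theorem E_le_commutator : E ≤ ⁅F, F⁆ := by
  have hle : ⁅F, F⁆ ≤ F := by
    rw [Subgroup.commutator_le]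
    intro a ha b hb
    exact F.mul_mem (F.mul_mem (F.mul_mem ha hb) (F.inv_mem ha)) (F.inv_mem hb)
  have hconj : ∀ d ∈ ⁅F, F⁆, x * d * x⁻¹ ∈ ⁅F, F⁆ := by
    intro d hd
    have h1 : ⁅x, d⁆ ∈ ⁅F, F⁆ := Subgroup.commutator_mem_commutator x_mem_F (hle hd)
    have h2 := (⁅F, F⁆ : Subgroup Co1).mul_mem h1 hd
    rwa [commutatorElement_def, inv_mul_cancel_right] at h2
  rcases E_irred (⁅F, F⁆ ⊓ E) inf_le_right (fun k hk => ⟨hconj k hk.1, conj_mem_E x_mem_F hk.2⟩)
    with h | h
  · exfalso
    obtain ⟨e, he, hne⟩ := exists_sign_ne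
    have h1 : ⁅x, e⁆ ∈ ⁅F, F⁆ := Subgroup.commutator_mem_commutator x_mem_F (E_le_F he)
    have h2 : ⁅x, e⁆ ∈ E := E.mul_mem (conj_mem_E x_mem_F he) (E.inv_mem he)
    have h3 : ⁅x, e⁆ ∈ ⁅F, F⁆ ⊓ E := ⟨h1, h2⟩
    rw [h, Subgroup.mem_bot, commutatorElement_eq_one_iff_mul_comm] at h3
    exact hne (eq_one_of_comm he h3)
  · rw [← h]; exact inf_le_left

/-- **`F` is perfect.** -/
theorem perfect_F : ⁅F, F⁆ = F := by
  apply le_antisymm
  · rw [Subgroup.commutator_le]
    intro a ha b hb
    exact F.mul_mem (F.mul_mem (F.mul_mem ha hb) (F.inv_mem ha)) (F.inv_mem hb)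
  · intro f hf
    have h1 : (commutator F).map toM24 = ⊤ := by
      have h2 : (commutator F).map toM24 = commutator M24 := by
        unfold commutator
        rw [Subgroup.map_commutator, Subgroup.map_top_of_surjective _ toM24_surjective]
      rw [h2, commutator_M24]
    have h3 : toM24 ⟨f, hf⟩ ∈ (commutator F).map toM24 := by rw [h1]; exact Subgroup.mem_top _
    obtain ⟨d, hd, hd'⟩ := h3
    have h4 : (commutator F).map F.subtype = ⁅F, F⁆ := by
      unfold commutator
      rw [Subgroup.map_commutator, ← MonoidHom.range_eq_map, Subgroup.range_subtype]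
    have h5 : (d : Co1) ∈ ⁅F, F⁆ := by
      rw [← h4]; exact Subgroup.mem_map_of_mem _ hd
    have h6 : toM24 (⟨f, hf⟩ * d⁻¹) = 1 := by rw [map_mul, map_inv, hd', mul_inv_cancel]
    have h7 : f * (d : Co1)⁻¹ ∈ E := (toM24_eq_one_iff _).1 h6
    have h8 := (⁅F, F⁆ : Subgroup Co1).mul_mem (E_le_commutator h7) h5
    rwa [inv_mul_cancel_right] at h8

end Cfsg.Agent.MonsterU.CoFrameF
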