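import Cfsg.Agent.MonsterU.Chart
import Cfsg.Agent.Transfer.Extraspecial
set_option linter.all false

-- part: MonsterU/ChartIso
section
/-!
# The isomorphism of two charted extraspecial groups

For charts `(Q, z, eta, pi)`, `(Q', z', eta', pi')` there is `psi : Q ≃* Q'` with `eta' (psi x) = eta x`; it induces an
isomorphism `C_G(z) / ⟨z⟩ ≃ C_G'(z') / ⟨z'⟩` (relation `Rel`).
-/

set_option autoImplicit false

namespace Cfsg.Agent.MonsterU.Ch

open Cfsg Cfsg.Spor Cfsg.Agent.LeechMat.Core Cfsg.Agent.MonsterU.Lam2 Cfsg.Agent.Co2Type.Quad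

/-- a complement of index two -/
theorem exists_index_two {T : Type*} [Group T] [Finite T] (d e : T) (hd : ∀ t, d * t = t * d)
    (he : ∀ t, e * t = t * e) (hd2 : d * d = 1) (hne : e ≠ 1) (hned : e ≠ d)
    (hsq : ∀ t : T, t * t = 1 ∨ t * t = d) (hcomm : ∀ s t : T, s * t = t * s ∨ s * t = t * s * d) :
    ∃ S : Subgroup T, d ∈ S ∧ e ∉ S ∧ ∀ t, t ∈ S ∨ t * e ∈ S := by
  let P : Set (Subgroup T) := {S | d ∈ S ∧ e ∉ S}
  have hP : ({ carrier := {x | x = 1 ∨ x = d}
               one_mem' := Or.inl rfl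
               mul_mem' := by
                rintro a b (rfl | rfl) (rfl | rfl)
                · left; simp
                · right; simp
                · right; simp
                · left; exact hd2
               inv_mem' := by
                rintro a (rfl | rfl)
                · left; simp
                · right; exact inv_eq_of_mul_eq_one_left hd2 } : Subgroup T) ∈ P :=
    ⟨Or.inr rfl, fun h => by
      rcases h with h | h
      · exact hne h
      · exact hned h⟩
  obtain ⟨S, hS⟩ := (Set.toFinite P).exists_maximal ⟨_, hP⟩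
  obtain ⟨hdS, heS⟩ := hS.1
  have hsqS : ∀ t : T, t * t ∈ S := fun t => by
    rcases hsq t with h | h
    · rw [h]; exact S.one_mem
    · rw [h]; exact hdS
  -- commute modulo `S`
  have hswap : ∀ a s t : T, a * (s * t) ∈ S ↔ a * (t * s) ∈ S := by
    intro a s t
    rcases hcomm s t with h | h
    · rw [h]
    · rw [h, ← mul_assoc a (t * s) d]
      exact Subgroup.mul_mem_cancel_right S hdS
  refine ⟨S, hdS, heS, fun t => ?_⟩
  by_cases ht : t ∈ S
  · exact Or.inl ht
  right
  let S' : Subgroup T :=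
    { carrier := {x | x ∈ S ∨ x * t ∈ S}
      one_mem' := Or.inl S.one_mem
      mul_mem' := by
        rintro x y (hx | hx) (hy | hy)
        · exact Or.inl (S.mul_mem hx hy)
        · right
          show x * y * t ∈ S
          rw [mul_assoc]; exact S.mul_mem hx hy
        · right
          show x * y * t ∈ S
          rw [mul_assoc, hswap, ← mul_assoc]
          exact S.mul_mem hx hy
        · left
          have h1 : x * t * (y * t) ∈ S := S.mul_mem hx hy
          have h2 : x * t * (y * t) = x * (t * (y * t)) := by group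
          have h3 : x * (y * t * t) ∈ S := by rw [← hswap, ← h2]; exact h1
          have h4 : x * (y * t * t) = x * y * (t * t) := by group
          rw [h4, Subgroup.mul_mem_cancel_right S (hsqS t)] at h3
          exact h3
      inv_mem' := by
        rintro x (hx | hx)
        · exact Or.inl (S.inv_mem hx)
        · right
          show x⁻¹ * t ∈ S
          have h1 : t * t * (x * t)⁻¹ ∈ S := S.mul_mem (hsqS t) (S.inv_mem hx)
          have h2 : t * t * (x * t)⁻¹ = 1 * (t * x⁻¹) := by group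
          rw [h2, hswap, one_mul] at h1
          exact h1 }
  have hle : S ≤ S' := fun x hx => Or.inl hx
  have htS' : t ∈ S' := Or.inr (hsqS t)
  have heS' : e ∈ S' := by
    by_contra hno
    have : S' ≤ S := hS.2 ⟨hle hdS, hno⟩ hle
    exact ht (this htS')
  rcases heS' with h | h
  · exact absurd h heS
  · have h' : e * t ∈ S := h
    rwa [he] at h'

section two

variable {G G' : Type*} [Group G] [Group G'] {Q : Subgroup G} {Q' : Subgroup G'} {z : G} {z' : G'}
  {eta : G → L2} {eta' : G' → L2} {pi : Subgroup.centralizer ({z} : Set G) →* Co1}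
  {pi' : Subgroup.centralizer ({z'} : Set G') →* Co1}

/-- the fibre product -/
def fib (h : Chart Q z eta pi) (h' : Chart Q' z' eta' pi') : Subgroup (Q × Q') where
  carrier := {p | eta p.1 = eta' p.2}
  one_mem' := by
    show eta ((1 : Q) : G) = eta' ((1 : Q') : G')
    rw [Subgroup.coe_one, Subgroup.coe_one, h.eta_one, h'.eta_one]
  mul_mem' := by
    rintro ⟨a, a'⟩ ⟨b, b'⟩ ha hb
    show eta ((a * b : Q) : G) = eta' ((a' * b' : Q') : G')
    have ha1 : eta a = eta' a' := ha
    have hb1 : eta b = eta' b' := hb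
    rw [Subgroup.coe_mul, Subgroup.coe_mul, h.eta_mul a a.2 b b.2, h'.eta_mul a' a'.2 b' b'.2, ha1, hb1]
  inv_mem' := by
    rintro ⟨a, a'⟩ ha
    show eta ((a⁻¹ : Q) : G) = eta' ((a'⁻¹ : Q') : G')
    have ha1 : eta a = eta' a' := ha
    rw [Subgroup.coe_inv, Subgroup.coe_inv, h.eta_inv a.2, h'.eta_inv a'.2, ha1]

/-- **The isomorphism of the extraspecial groups.** -/
theorem exists_psi (h : Chart Q z eta pi) (h' : Chart Q' z' eta' pi') :
    ∃ psi : Q ≃* Q', ∀ x : Q, eta' (psi x) = eta x := by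
  have := h.fin
  have := h'.fin
  have hL := h.large
  have hL' := h'.large
  let T := fib h h'
  have mem : ∀ {p : Q × Q'}, p ∈ T ↔ eta p.1 = eta' p.2 := Iff.rfl
  let d : T := ⟨(⟨z, hL.z_mem⟩, ⟨z', hL'.z_mem⟩), by
    rw [mem]; show eta z = eta' z'; rw [h.eta_z, h'.eta_z]⟩
  let e : T := ⟨(⟨z, hL.z_mem⟩, 1), by
    rw [mem]; show eta z = eta' ((1 : Q') : G'); rw [h.eta_z, Subgroup.coe_one, h'.eta_one]⟩
  have ext : ∀ {s t : T}, ((s : Q × Q').1 : G) = (t : Q × Q').1 → ((s : Q × Q').2 : G') = (t : Q × Q').2 → s = t := by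
    intro s t h1 h2
    exact Subtype.ext (Prod.ext (Subtype.ext h1) (Subtype.ext h2))
  have hd : ∀ t : T, d * t = t * d := by
    intro t
    apply ext
    · exact (hL.comm_z _ (t : Q × Q').1.2).symm
    · exact (hL'.comm_z _ (t : Q × Q').2.2).symm
  have he : ∀ t : T, e * t = t * e := by
    intro t
    apply ext
    · exact (hL.comm_z _ (t : Q × Q').1.2).symm
    · show (1 : G') * (t : Q × Q').2 = (t : Q × Q').2 * 1
      rw [one_mul, mul_one]
  have hd2 : d * d = 1 := by
    apply ext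
    · exact hL.z_sq
    · exact hL'.z_sq
  have hne : e ≠ 1 := by
    intro h1
    exact hL.z_ne (congrArg (fun t : T => ((t : Q × Q').1 : G)) h1)
  have hned : e ≠ d := by
    intro h1
    exact hL'.z_ne (congrArg (fun t : T => ((t : Q × Q').2 : G')) h1).symm
  have hsq : ∀ t : T, t * t = 1 ∨ t * t = d := by
    rintro ⟨⟨x, x'⟩, hx⟩
    have hx1 : eta x = eta' x' := hx
    have h01 : ∀ a : ZMod 2, a = 0 ∨ a = 1 := by decide
    rcases h01 (qf (eta x)) with h2 | h2
    · left
      apply ext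
      · exact (h.sq_one x.2).2 h2
      · exact (h'.sq_one x'.2).2 (by rw [← hx1]; exact h2)
    · right
      apply ext
      · exact (h.sq_z x.2).2 h2
      · exact (h'.sq_z x'.2).2 (by rw [← hx1]; exact h2)
  have hcomm : ∀ s t : T, s * t = t * s ∨ s * t = t * s * d := by
    rintro ⟨⟨x, x'⟩, hx⟩ ⟨⟨y, y'⟩, hy⟩
    have hx1 : eta x = eta' x' := hx
    have hy1 : eta y = eta' y' := hy
    have h01 : ∀ a : ZMod 2, a = 0 ∨ a = 1 := by decide
    rcases h01 (bf (eta x) (eta y)) with h2 | h2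
    · left
      apply ext
      · exact (h.comm_iff x.2 y.2).2 h2
      · exact (h'.comm_iff x'.2 y'.2).2 (by rw [← hx1, ← hy1]; exact h2)
    · right
      apply ext
      · exact (h.comm_z_iff x.2 y.2).2 h2
      · exact (h'.comm_z_iff x'.2 y'.2).2 (by rw [← hx1, ← hy1]; exact h2)
  obtain ⟨S, hdS, heS, hS⟩ := exists_index_two d e hd he hd2 hne hned hsq hcomm
  let f : S →* Q := (MonoidHom.fst Q Q').comp (T.subtype.comp S.subtype)
  let g : S →* Q' := (MonoidHom.snd Q Q').comp (T.subtype.comp S.subtype)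
  have hf : Function.Bijective f := by
    constructor
    · rw [injective_iff_map_eq_one]
      rintro ⟨⟨⟨x, x'⟩, hx⟩, hxS⟩ hfx
      have hx1 : x = 1 := hfx
      subst hx1
      have hx2 : eta ((1 : Q) : G) = eta' x' := hx
      rw [Subgroup.coe_one, h.eta_one] at hx2
      rcases (h'.eta_zero x' x'.2).1 hx2.symm with h3 | h3
      · apply Subtype.ext
        apply ext
        · rfl
        · exact h3
      · exfalso
        apply heS
        have h4 : e = (⟨(1, x'), hx⟩ : T) * d := by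
          apply ext
          · show z = 1 * z
            rw [one_mul]
          · show (1 : G') = x' * z'
            rw [h3, hL'.z_sq]
        rw [h4]
        exact S.mul_mem hxS hdS
    · intro x
      obtain ⟨x', hx', hxe⟩ := h'.eta_surj (eta x)
      let t : T := ⟨(x, ⟨x', hx'⟩), hxe.symm⟩
      rcases hS t with h3 | h3
      · exact ⟨⟨t, h3⟩, rfl⟩
      · refine ⟨⟨t * e * d, S.mul_mem h3 hdS⟩, ?_⟩
        apply Subtype.ext
        show (x : G) * z * z = x
        rw [mul_assoc, hL.z_sq, mul_one]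
  have hg : Function.Bijective g := by
    constructor
    · rw [injective_iff_map_eq_one]
      rintro ⟨⟨⟨x, x'⟩, hx⟩, hxS⟩ hgx
      have hx1 : x' = 1 := hgx
      subst hx1
      have hx2 : eta x = eta' ((1 : Q') : G') := hx
      rw [Subgroup.coe_one, h'.eta_one] at hx2
      rcases (h.eta_zero x x.2).1 hx2 with h3 | h3
      · apply Subtype.ext
        apply ext
        · exact h3
        · rfl
      · exfalso
        apply heS
        have h4 : e = (⟨(x, 1), hx⟩ : T) := by
          apply ext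
          · exact h3.symm
          · rfl
        rw [h4]
        exact hxS
    · intro x'
      obtain ⟨x, hx, hxe⟩ := h.eta_surj (eta' x')
      let t : T := ⟨(⟨x, hx⟩, x'), hxe⟩
      rcases hS t with h3 | h3
      · exact ⟨⟨t, h3⟩, rfl⟩
      · refine ⟨⟨t * e, h3⟩, ?_⟩
        apply Subtype.ext
        show (x' : G') * 1 = x'
        rw [mul_one]
  let F : S ≃* Q := MulEquiv.ofBijective f hf
  let K : S ≃* Q' := MulEquiv.ofBijective g hg
  refine ⟨F.symm.trans K, fun x => ?_⟩
  obtain ⟨s, rfl⟩ := F.surjective x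
  show eta' ((K (F.symm (F s)) : Q') : G') = eta ((F s : Q) : G)
  rw [F.symm_apply_apply]
  exact ((s : T).2).symm

end two

/-! ### inner automorphisms -/

/-- a homomorphism `Q → Q` fixing `z` which is trivial modulo `⟨z⟩` is conjugation by an element of `Q` -/
theorem exists_inner {G : Type*} [Group G] {z : G} {Q : Subgroup G} [Finite Q] (h : Large Q z) (F : Q →* Q)
    (h1 : ∀ x : Q, (F x : G) = x ∨ (F x : G) = x * z) (hz : ∀ x : Q, (x : G) = z → (F x : G) = z) :
    ∃ y ∈ Q, ∀ x : Q, (F x : G) = y * x * y⁻¹ := by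
  classical
  have hval : ∀ x : Q, (F x : G) * (x : G)⁻¹ = 1 ∨ (F x : G) * (x : G)⁻¹ = z := by
    intro x
    rcases h1 x with h2 | h2
    · left; rw [h2]; group
    · right; rw [h2, (h.commz x.2).eq]; group
  let f0 : Q → ZMod 2 := fun x => Large.val ((F x : G) * (x : G)⁻¹)
  have f0_mul : ∀ x y, f0 (x * y) = f0 x + f0 y := by
    intro x y
    show Large.val ((F (x * y) : G) * ((x * y : Q) : G)⁻¹) = _
    have e : (F (x * y) : G) * ((x * y : Q) : G)⁻¹ =
        ((F x : G) * (x : G)⁻¹) * (x * ((F y : G) * (y : G)⁻¹) * (x : G)⁻¹) := by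
      rw [map_mul, Subgroup.coe_mul, Subgroup.coe_mul]; group
    rw [e]
    show _ = Large.val ((F x : G) * (x : G)⁻¹) + Large.val ((F y : G) * (y : G)⁻¹)
    have hxz : (x : G) * z * (x : G)⁻¹ = z := by rw [(h.commz x.2).eq]; group
    rcases hval x with h2 | h2 <;> rcases hval y with h3 | h3 <;> rw [h2, h3]
    · simp [Large.val_one]
    · rw [hxz, one_mul, Large.val_one, zero_add]
    · rw [mul_one, mul_inv_cancel, mul_one, Large.val_one, add_zero]
    · rw [hxz, h.z_sq, h.val_z, Large.val_one]; decide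
  have f0_one : f0 1 = 0 := by
    have h0 := f0_mul 1 1
    rw [mul_one] at h0
    simpa using h0
  have f0_z : ∀ c : Q, (c : G) = z → f0 c = 0 := by
    intro c hc
    show Large.val ((F c : G) * (c : G)⁻¹) = 0
    rw [hz c hc, hc, mul_inv_cancel, Large.val_one]
  have f0_congr : ∀ x y : Q, h.pr x = h.pr y → f0 x = f0 y := by
    intro x y hxy
    rcases h.pr_eq_pr.1 hxy with h2 | h2
    · rw [Subtype.ext h2]
    · have h3 : x = y * ⟨z, h.z_mem⟩ := Subtype.ext h2
      rw [h3, f0_mul, f0_z ⟨z, h.z_mem⟩ rfl, add_zero]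
  let f : h.V → ZMod 2 := fun v => f0 (Function.surjInv h.pr_surjective v)
  have hf : ∀ x : Q, f (h.pr x) = f0 x := fun x => f0_congr _ _ (Function.surjInv_eq h.pr_surjective (h.pr x))
  have hadd : ∀ v w, f (v + w) = f v + f w := by
    intro v w
    obtain ⟨x, rfl⟩ := h.pr_surjective v
    obtain ⟨y, rfl⟩ := h.pr_surjective w
    rw [← h.pr_mul, hf, hf, hf, f0_mul]
  obtain ⟨v, hv⟩ := h.exists_b_eq (AddMonoidHom.toZModLinearMap 2
    { toFun := f
      map_zero' := by
        have := hadd 0 0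
        simpa using this
      map_add' := hadd } : h.V →ₗ[ZMod 2] ZMod 2)
  obtain ⟨y, rfl⟩ := h.pr_surjective v
  refine ⟨y, y.2, fun x => ?_⟩
  have h2 : h.b0 (h.pr y) (h.pr x) = f0 x := by
    have h3 : h.b (h.pr y) (h.pr x) = f (h.pr x) := hv _
    rw [hf] at h3
    exact h3
  rcases h1 x with h3 | h3
  · have h4 : f0 x = 0 := by
      show Large.val ((F x : G) * (x : G)⁻¹) = 0
      rw [h3, mul_inv_cancel, Large.val_one]
    rw [h4, h.b0_eq_zero] at h2
    rw [h3, h2, mul_inv_cancel_right]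
  · have h4 : f0 x = 1 := by
      show Large.val ((F x : G) * (x : G)⁻¹) = 1
      rw [h3, (h.commz x.2).eq, mul_inv_cancel_right, h.val_z]
    rw [h4, h.b0_eq_one] at h2
    rw [h3, h2, mul_assoc _ z, ← (h.commz y.2).inv_left.eq]
    group

/-- noncentral elements are moved by conjugation -/
theorem exists_flip {G : Type*} [Group G] {z : G} {Q : Subgroup G} (h : Large Q z) {y : G} (hy : y ∈ Q) (h1 : y ≠ 1)
    (h2 : y ≠ z) : ∃ w ∈ Q, w * y * w⁻¹ = y * z := by
  by_contra hno
  push Not at hno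
  rcases h.cent y hy (fun w hw => by
    rcases h.comm w hw y hy with h3 | h3
    · exact h3.symm
    · exfalso
      apply hno w hw
      rw [h3, mul_assoc _ z, ← (h.commz hw).inv_left.eq]
      group) with h3 | h3
  · exact h1 h3
  · exact h2 h3

section two

variable {G G' : Type*} [Group G] [Group G'] {Q : Subgroup G} {Q' : Subgroup G'} {z : G} {z' : G'}
  {eta : G → L2} {eta' : G' → L2} {pi : Subgroup.centralizer ({z} : Set G) →* Co1}
  {pi' : Subgroup.centralizer ({z'} : Set G') →* Co1}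

/-- `psi` may be chosen with a given value at one noncentral element -/
theorem exists_psi_of (h : Chart Q z eta pi) (h' : Chart Q' z' eta' pi') {y : G} {y' : G'} (hy : y ∈ Q) (hy' : y' ∈ Q')
    (he : eta y = eta' y') (hne : eta y ≠ 0) :
    ∃ psi : Q ≃* Q', (∀ x : Q, eta' (psi x) = eta x) ∧ (psi ⟨y, hy⟩ : G') = y' := by
  obtain ⟨psi, hpsi⟩ := exists_psi h h'
  have h1 : eta' (psi ⟨y, hy⟩) = eta' y' := by rw [hpsi]; exact he
  rcases (h'.eta_eq (psi ⟨y, hy⟩).2 hy').1 h1 with h2 | h2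
  · exact ⟨psi, hpsi, h2⟩
  · have hy1 : y' ≠ 1 := by
      intro h3
      apply hne
      rw [he, h3, h'.eta_one]
    have hy2 : y' ≠ z' := by
      intro h3
      apply hne
      rw [he, h3, h'.eta_z]
    obtain ⟨w, hw, hwy⟩ := exists_flip h'.large hy' hy1 hy2
    refine ⟨psi.trans (MulAut.conj (⟨w, hw⟩ : Q')), fun x => ?_, ?_⟩
    · show eta' (w * (psi x : G') * w⁻¹) = eta x
      rw [h'.eta_mul _ (Q'.mul_mem hw (psi x).2) _ (Q'.inv_mem hw), h'.eta_mul _ hw _ (psi x).2, h'.eta_inv hw,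
        add_comm (eta' w), add_assoc, add_self, add_zero, hpsi]
    · show w * (psi ⟨y, hy⟩ : G') * w⁻¹ = y'
      rw [h2]
      have hwz : z' * w⁻¹ = w⁻¹ * z' := (h'.large.commz hw).inv_left.eq.symm
      calc w * (y' * z') * w⁻¹ = w * y' * (z' * w⁻¹) := by group
        _ = (w * y' * w⁻¹) * z' := by rw [hwz]; group
        _ = y' := by rw [hwy, mul_assoc, h'.large.z_sq, mul_one]

/-- the identification is possible for any two elements of the same type, after a change of the second chart -/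
theorem exists_psi_type (h : Chart Q z eta pi) (h' : Chart Q' z' eta' pi') {y : G} {y' : G'} (hy : y ∈ Q) (hy' : y' ∈ Q')
    {n : ℤ} (hn : n = 2 ∨ n = 3 ∨ n = 4) (ht : IsType n (eta y)) (ht' : IsType n (eta' y')) (hne : eta y ≠ 0) :
    ∃ (eta'' : G' → L2) (pi'' : Subgroup.centralizer ({z'} : Set G') →* Co1), Chart Q' z' eta'' pi'' ∧
      ∃ psi : Q ≃* Q', (∀ x : Q, eta'' (psi x) = eta x) ∧ (psi ⟨y, hy⟩ : G') = y' := by
  obtain ⟨g, hg⟩ := IsType.trans hn ht' ht
  have h'' := h'.smul (QuotientGroup.mk g)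
  refine ⟨_, _, h'', exists_psi_of h h'' hy hy' ?_ hne⟩
  exact hg.symm

/-! ### the induced correspondence of the centralisers -/

/-- `c` and `c'` act in the same way -/
def Rel (psi : Q ≃* Q') (z : G) (z' : G') (c : G) (c' : G') : Prop :=
  c * z = z * c ∧ c' * z' = z' * c' ∧ ∀ x y : Q, (y : G) = c * x * c⁻¹ → (psi y : G') = c' * psi x * c'⁻¹

/-- hypotheses on `psi` -/
structure Good (h : Chart Q z eta pi) (h' : Chart Q' z' eta' pi') (psi : Q ≃* Q') : Prop where
  eta_psi : ∀ x : Q, eta' (psi x) = eta x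

namespace Good

variable {h : Chart Q z eta pi} {h' : Chart Q' z' eta' pi'} {psi : Q ≃* Q'}

theorem psi_z (H : Good h h' psi) {x : Q} (hx : (x : G) = z) : (psi x : G') = z' := by
  have h1 : eta' (psi x) = 0 := by rw [H.eta_psi, hx, h.eta_z]
  rcases (h'.eta_zero _ (psi x).2).1 h1 with h2 | h2
  · exfalso
    have h3 : psi x = 1 := Subtype.ext h2
    rw [MulEquiv.map_eq_one_iff] at h3
    apply h.large.z_ne
    rw [← hx, h3, Subgroup.coe_one]
  · exact h2

theorem symm (H : Good h h' psi) : Good h' h psi.symm :=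
  ⟨fun x => by rw [← H.eta_psi, psi.apply_symm_apply]⟩

theorem psi_mul_z (H : Good h h' psi) {x y : Q} (hxy : (y : G) = x * z) : (psi y : G') = psi x * z' := by
  have h1 : y = x * ⟨z, h.large.z_mem⟩ := Subtype.ext hxy
  rw [h1, map_mul, Subgroup.coe_mul, H.psi_z (x := ⟨z, h.large.z_mem⟩) rfl]

end Good

namespace Rel

variable {psi : Q ≃* Q'}

theorem one (psi : Q ≃* Q') : Rel psi z z' 1 1 := by
  refine ⟨by simp, by simp, fun x y hxy => ?_⟩
  have : y = x := Subtype.ext (by rw [hxy]; simp)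
  rw [this]; simp

theorem mul (h : Large Q z) {c d : G} {c' d' : G'} (h1 : Rel psi z z' c c') (h2 : Rel psi z z' d d') :
    Rel psi z z' (c * d) (c' * d') := by
  refine ⟨?_, ?_, fun x y hxy => ?_⟩
  · rw [mul_assoc, h2.1, ← mul_assoc, h1.1, mul_assoc]
  · rw [mul_assoc, h2.2.1, ← mul_assoc, h1.2.1, mul_assoc]
  · have h3 := h2.2.2 x ⟨_, h.conj_mem d h2.1 x x.2⟩ rfl
    have h4 := h1.2.2 ⟨_, h.conj_mem d h2.1 x x.2⟩ y (by rw [hxy]; group)
    rw [h4, h3]; group

theorem inv {c : G} {c' : G'} (h1 : Rel psi z z' c c') : Rel psi z z' c⁻¹ c'⁻¹ := by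
  refine ⟨?_, ?_, fun x y hxy => ?_⟩
  · exact (Commute.inv_left (show Commute c z from h1.1)).eq
  · exact (Commute.inv_left (show Commute c' z' from h1.2.1)).eq
  · have h3 := h1.2.2 y x (by rw [hxy]; group)
    rw [h3]; group

theorem symm (h : Large Q z) {c : G} {c' : G'} (h1 : Rel psi z z' c c') : Rel psi.symm z' z c' c := by
  refine ⟨h1.2.1, h1.1, fun x y hxy => ?_⟩
  have h2 := h1.2.2 (psi.symm x) ⟨_, h.conj_mem c h1.1 _ (psi.symm x).2⟩ rfl
  rw [psi.apply_symm_apply, ← hxy] at h2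
  have h3 : y = psi ⟨_, h.conj_mem c h1.1 _ (psi.symm x).2⟩ := Subtype.ext h2.symm
  rw [h3, psi.symm_apply_apply]

/-- elements of `Q` correspond by `psi` -/
theorem of_mem (h : Large Q z) (h' : Large Q' z') (psi : Q ≃* Q') (x : Q) : Rel psi z z' x (psi x) := by
  refine ⟨h.comm_z x x.2, h'.comm_z _ (psi x).2, fun y w hw => ?_⟩
  have : w = x * y * x⁻¹ := Subtype.ext hw
  rw [this, map_mul, map_mul, map_inv]
  rfl

/-- `c'` is determined up to the centre -/
theorem unique_right (h : Large Q z) (h' : Large Q' z') {c : G} {c' d' : G'} (h1 : Rel psi z z' c c')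
    (h2 : Rel psi z z' c d') : d' = c' ∨ d' = c' * z' := by
  have h3 := mul h (inv h1) h2
  rw [inv_mul_cancel] at h3
  have h4 : ∀ x : Q', (c'⁻¹ * d') * x = x * (c'⁻¹ * d') := by
    intro x
    have := h3.2.2 (psi.symm x) (psi.symm x) (by simp)
    rw [psi.apply_symm_apply] at this
    rw [eq_mul_inv_iff_mul_eq] at this
    exact this.symm
  have h5 : c'⁻¹ * d' ∈ Q' := h'.self _ h3.2.1 fun x hx => h4 ⟨x, hx⟩
  rcases h'.cent _ h5 (fun y hy => h4 ⟨y, hy⟩) with h6 | h6
  · left; exact (inv_mul_eq_one.1 h6).symm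
  · right; rw [← h6]; group

theorem unique_left (h : Large Q z) (h' : Large Q' z') {c d : G} {c' : G'} (h1 : Rel psi z z' c c')
    (h2 : Rel psi z z' d c') : d = c ∨ d = c * z :=
  unique_right h' h (h1.symm h) (h2.symm h)

/-- multiplication by the central involutions -/
theorem mul_z_right (h' : Large Q' z') {c : G} {c' : G'} (h1 : Rel psi z z' c c') :
    Rel psi z z' c (c' * z') := by
  refine ⟨h1.1, ?_, fun x y hxy => ?_⟩
  · rw [h1.2.1, mul_assoc, h1.2.1]
  · rw [h1.2.2 x y hxy]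
    have h2 : z' * (psi x : G') * z'⁻¹ = psi x := by
      rw [← h'.comm_z _ (psi x).2, mul_inv_cancel_right]
    have : c' * z' * (psi x : G') * (c' * z')⁻¹ = c' * (z' * (psi x : G') * z'⁻¹) * c'⁻¹ := by group
    rw [this, h2]

theorem mul_z_left (h : Large Q z) (h' : Large Q' z') {c : G} {c' : G'} (h1 : Rel psi z z' c c') :
    Rel psi z z' (c * z) c' := by
  have h2 := mul_z_right h (h1.symm h)
  have h3 := h2.symm h'
  rwa [MulEquiv.symm_symm] at h3

end Rel

namespace Good

variable {h : Chart Q z eta pi} {h' : Chart Q' z' eta' pi'} {psi : Q ≃* Q'}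

/-- corresponding elements have the same image in `Co1` -/
theorem pi_eq (H : Good h h' psi) {c : Subgroup.centralizer ({z} : Set G)} {c' : Subgroup.centralizer ({z'} : Set G')}
    (h1 : Rel psi z z' (c : G) (c' : G')) : pi c = pi' c' := by
  apply eq_of_smul
  intro v
  obtain ⟨x, hx, rfl⟩ := h.eta_surj v
  have h2 := h1.2.2 ⟨x, hx⟩ ⟨_, h.large.conj_mem c h1.1 x hx⟩ rfl
  have h3 : pi c • eta x = eta' (psi ⟨(c : G) * x * (c : G)⁻¹, h.large.conj_mem c h1.1 x hx⟩) := by
    rw [H.eta_psi]; exact (h.eta_conj c x hx).symm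
  rw [h3, h2, h'.eta_conj c' _ (psi ⟨x, hx⟩).2, H.eta_psi]

/-- **every element of `C_G(z)` has a partner** -/
theorem exists_right (H : Good h h' psi) {c : G} (hc : c * z = z * c) : ∃ c', Rel psi z z' c c' := by
  have := h'.fin
  have hL := h.large
  have hL' := h'.large
  let cc : Subgroup.centralizer ({z} : Set G) := ⟨c, Subgroup.mem_centralizer_singleton_iff.2 hc⟩
  obtain ⟨c₁, hc₁⟩ := h'.pi_surj (pi cc)
  have hc₁z : (c₁ : G') * z' = z' * c₁ := Subgroup.mem_centralizer_singleton_iff.1 c₁.2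
  have hc₁z' : (c₁ : G')⁻¹ * z' = z' * (c₁ : G')⁻¹ := (Commute.inv_left (show Commute (c₁ : G') z' from hc₁z)).eq
  -- the map on `Q'`
  let A : Q' →* Q :=
    { toFun := fun x => ⟨c * (psi.symm x) * c⁻¹, hL.conj_mem c hc _ (psi.symm x).2⟩
      map_one' := by apply Subtype.ext; simp
      map_mul' := fun x y => by
        apply Subtype.ext
        show c * ((psi.symm (x * y) : Q) : G) * c⁻¹ = (c * (psi.symm x) * c⁻¹) * (c * (psi.symm y) * c⁻¹)
        rw [map_mul, Subgroup.coe_mul]; group }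
  let B : Q' →* Q' :=
    { toFun := fun x => ⟨(c₁ : G')⁻¹ * x * (c₁ : G')⁻¹⁻¹, hL'.conj_mem _ hc₁z' _ x.2⟩
      map_one' := by apply Subtype.ext; simp
      map_mul' := fun x y => by
        apply Subtype.ext
        show (c₁ : G')⁻¹ * ((x * y : Q') : G') * (c₁ : G')⁻¹⁻¹ =
          ((c₁ : G')⁻¹ * x * (c₁ : G')⁻¹⁻¹) * ((c₁ : G')⁻¹ * y * (c₁ : G')⁻¹⁻¹)
        rw [Subgroup.coe_mul]; group }
  let F : Q' →* Q' := B.comp (psi.toMonoidHom.comp A)
  have hF : ∀ x, (F x : G') = (c₁ : G')⁻¹ * (psi (A x)) * (c₁ : G') := fun x => by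
    show (c₁ : G')⁻¹ * (psi (A x)) * (c₁ : G')⁻¹⁻¹ = _
    rw [inv_inv]
  have hA : ∀ x, ((A x : Q) : G) = c * (psi.symm x) * c⁻¹ := fun x => rfl
  have hFeta : ∀ x, eta' (F x) = eta' x := by
    intro x
    have h1 : eta' (psi (A x)) = pi cc • eta' x := by
      rw [H.eta_psi, hA]
      have h2 := h.eta_conj cc (psi.symm x) (psi.symm x).2
      have h3 : eta (psi.symm x) = eta' x := by rw [← H.eta_psi, psi.apply_symm_apply]
      rw [h3] at h2
      exact h2
    have h4 := h'.eta_conj c₁⁻¹ (psi (A x)) (psi (A x)).2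
    rw [h1, map_inv, hc₁, inv_smul_smul] at h4
    exact h4
  have hF1 : ∀ x : Q', (F x : G') = x ∨ (F x : G') = x * z' := fun x => (h'.eta_eq (F x).2 x.2).1 (hFeta x)
  have hFz : ∀ x : Q', (x : G') = z' → (F x : G') = z' := by
    intro x hx
    have h2 : ((psi.symm x : Q) : G) = z := H.symm.psi_z hx
    have h3 : ((A x : Q) : G) = z := by rw [hA, h2, hc, mul_inv_cancel_right]
    rw [hF, H.psi_z h3, hc₁z', mul_assoc, inv_mul_cancel, mul_one]
  obtain ⟨y, hy, hyF⟩ := exists_inner hL' F hF1 hFz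
  refine ⟨(c₁ : G') * y, hc, ?_, fun x w hw => ?_⟩
  · rw [mul_assoc, hL'.comm_z y hy, ← mul_assoc, hc₁z, mul_assoc]
  · have h2 := hyF (psi x)
    have h3 : A (psi x) = w := by
      apply Subtype.ext
      rw [hA, psi.symm_apply_apply, hw]
    rw [hF, h3] at h2
    calc (psi w : G') = (c₁ : G') * ((c₁ : G')⁻¹ * (psi w) * (c₁ : G')) * (c₁ : G')⁻¹ := by group
      _ = _ := by rw [h2]; group

theorem exists_left (H : Good h h' psi) {c' : G'} (hc : c' * z' = z' * c') : ∃ c, Rel psi z z' c c' := by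
  obtain ⟨c, hcc⟩ := H.symm.exists_right hc
  have := hcc.symm h'.large
  rw [MulEquiv.symm_symm] at this
  exact ⟨c, this⟩

end Good

end two

end Cfsg.Agent.MonsterU.Ch
end

-- part: MonsterU/ChartOf
section
/-!
# Charts from the hypotheses of the statements

`large_of_raw`: a self-centralising extraspecial normal subgroup of `C_G(z)` is `Large`.
`exists_chart`: with `Co1` on top and order `2 ^ 25` there is a chart, given the uniqueness of the module.
-/

set_option autoImplicit false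

universe u

namespace Cfsg.Agent.MonsterU.Ch

open Cfsg Cfsg.Spor Cfsg.Agent.LeechMat.Core Cfsg.Agent.MonsterU.Lam2 Cfsg.Agent.Co2Type.Quad

theorem large_of_raw_aux {G : Type*} [Group G] (z : G) (hz : orderOf z = 2) (C : Subgroup G)
    (hC : ∀ c, c ∈ C ↔ c * z = z * c) (Q : Subgroup C) [hn : Q.Normal] (hE : Cfsg.IsExtraspecial 2 Q)
    (hcc : Subgroup.centralizer (Q : Set C) ≤ Q) : Large (Q.map C.subtype) z := by
  classical
  have htt : z * z = 1 := by rw [← pow_two, ← hz]; exact pow_orderOf_eq_one z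
  have ht1 : z ≠ 1 := by
    intro h; rw [h, orderOf_one] at hz; exact absurd hz (by norm_num)
  have htC : z ∈ C := (hC z).2 rfl
  have hcomm : ∀ c : C, (c : G) * z = z * c := fun c => (hC c).1 c.2
  have htQ : (⟨z, htC⟩ : C) ∈ Q := by
    apply hcc
    rw [Subgroup.mem_centralizer_iff]
    intro c _
    exact Subtype.ext (hcomm c)
  have hZ : ∀ x : Q, x ∈ Subgroup.center Q → (x : C) = 1 ∨ (x : C) = ⟨z, htC⟩ := by
    intro x hx
    have hcard2 := hE.2
    have htz : (⟨⟨z, htC⟩, htQ⟩ : Q) ∈ Subgroup.center Q := by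
      rw [Subgroup.mem_center_iff]
      intro y
      exact Subtype.ext (Subtype.ext (hcomm (y : C)))
    obtain ⟨a, b, hab, huniv⟩ := Nat.card_eq_two_iff.1 hcard2
    have h1 : (⟨⟨⟨z, htC⟩, htQ⟩, htz⟩ : Subgroup.center Q) ≠ 1 := by
      intro h
      apply ht1
      exact congrArg (fun y : Subgroup.center Q => (((y : Q) : C) : G)) h
    have key : ∀ y : Subgroup.center Q, y = 1 ∨ y = ⟨⟨⟨z, htC⟩, htQ⟩, htz⟩ := by
      intro y
      have ha : ∀ w : Subgroup.center Q, w = a ∨ w = b := by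
        intro w
        have : w ∈ ({a, b} : Set (Subgroup.center Q)) := by rw [huniv]; trivial
        simpa using this
      rcases ha y with hy | hy <;> rcases ha 1 with h2 | h2 <;>
        rcases ha ⟨⟨⟨z, htC⟩, htQ⟩, htz⟩ with h3 | h3
      · exact absurd (h3.trans h2.symm) h1
      · left; exact hy.trans h2.symm
      · right; exact hy.trans h3.symm
      · exact absurd (h3.trans h2.symm) h1
      · exact absurd (h3.trans h2.symm) h1
      · right; exact hy.trans h3.symm
      · left; exact hy.trans h2.symm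
      · exact absurd (h3.trans h2.symm) h1
    rcases key ⟨x, hx⟩ with h | h
    · left; exact congrArg (fun y : Subgroup.center Q => ((y : Q) : C)) h
    · right; exact congrArg (fun y : Subgroup.center Q => ((y : Q) : C)) h
  refine ⟨⟨⟨z, htC⟩, htQ, rfl⟩, ht1, htt, ?_, ?_, ?_, ?_, ?_, ?_⟩
  · rintro _ ⟨x, _, rfl⟩
    exact hcomm x
  · rintro g hg _ ⟨x, hx, rfl⟩
    have hgC : g ∈ C := (hC g).2 hg
    exact ⟨⟨g, hgC⟩ * x * ⟨g, hgC⟩⁻¹, hn.conj_mem x hx _, rfl⟩
  · rintro _ ⟨x, hx, rfl⟩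
    have h1 : (⟨x, hx⟩ : Q) ^ 2 ∈ Subgroup.center Q :=
      Cfsg.Agent.Transfer.Extraspecial.pow_mem_center hE ⟨x, hx⟩
    rcases hZ _ h1 with h | h
    · left
      have := congrArg (fun y : C => (y : G)) h
      rw [← pow_two]
      exact this
    · right
      have := congrArg (fun y : C => (y : G)) h
      rw [← pow_two]
      exact this
  · rintro _ ⟨x, hx, rfl⟩ _ ⟨y, hy, rfl⟩
    have h1 := Cfsg.Agent.Transfer.Extraspecial.comm_mem_center hE (⟨y, hy⟩ : Q)⁻¹ (⟨x, hx⟩ : Q)⁻¹
    rcases hZ _ h1 with h | h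
    · left
      have h2 := congrArg (fun y : C => (y : G)) h
      have h3 : (y : G)⁻¹ * (x : G)⁻¹ * ((y : G)⁻¹)⁻¹ * ((x : G)⁻¹)⁻¹ = 1 := h2
      have h4 : (x : G) * y = (x * y : G) * ((y : G)⁻¹ * (x : G)⁻¹ * ((y : G)⁻¹)⁻¹ * ((x : G)⁻¹)⁻¹) := by
        rw [h3, mul_one]
      calc (x : G) * y = (x * y : G) * ((y : G)⁻¹ * (x : G)⁻¹ * ((y : G)⁻¹)⁻¹ * ((x : G)⁻¹)⁻¹) := h4
        _ = y * x := by group
    · right
      have h2 := congrArg (fun y : C => (y : G)) h
      have h3 : (y : G)⁻¹ * (x : G)⁻¹ * ((y : G)⁻¹)⁻¹ * ((x : G)⁻¹)⁻¹ = z := h2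
      calc (x : G) * y
          = (x * y : G) * ((y : G)⁻¹ * (x : G)⁻¹ * ((y : G)⁻¹)⁻¹ * ((x : G)⁻¹)⁻¹) *
            ((y : G)⁻¹ * (x : G)⁻¹ * ((y : G)⁻¹)⁻¹ * ((x : G)⁻¹)⁻¹)⁻¹ := by group
        _ = y * x * z⁻¹ := by rw [h3]; rw [← h3]; group
        _ = y * x * z := by rw [inv_eq_of_mul_eq_one_left htt]
  · rintro _ ⟨x, hx, rfl⟩ hc
    have h1 : (⟨x, hx⟩ : Q) ∈ Subgroup.center Q := by
      rw [Subgroup.mem_center_iff]
      intro y
      apply Subtype.ext
      apply Subtype.ext
      exact (hc _ ⟨(y : C), y.2, rfl⟩).symm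
    rcases hZ _ h1 with h | h
    · left; exact congrArg (fun y : C => (y : G)) h
    · right; exact congrArg (fun y : C => (y : G)) h
  · intro g hg hc
    have hgC : g ∈ C := (hC g).2 hg
    refine ⟨⟨g, hgC⟩, hcc ?_, rfl⟩
    refine Subgroup.mem_centralizer_iff.2 ?_
    intro y hy
    apply Subtype.ext
    exact (hc _ ⟨y, hy, rfl⟩).symm

/-- the hypotheses of S1647, S1648, S1673 give `Large` -/
theorem large_of_raw {G : Type*} [Group G] (z : G) (hz : orderOf z = 2)
    (Q : Subgroup (Subgroup.centralizer ({z} : Set G))) [Q.Normal] (hE : Cfsg.IsExtraspecial 2 Q)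
    (hcc : Subgroup.centralizer (Q : Set (Subgroup.centralizer ({z} : Set G))) ≤ Q) :
    Large (Q.map (Subgroup.centralizer ({z} : Set G)).subtype) z :=
  large_of_raw_aux z hz _ (fun _ => Subgroup.mem_centralizer_singleton_iff) Q hE hcc

/-- uniqueness of the module (piece (A1)) -/
def ModuleThm : Prop :=
  ∀ (V : Type u) [AddCommGroup V] [Module (ZMod 2) V], Nat.card V = 2 ^ 24 →
    ∀ ρ : Representation (ZMod 2) Co1 V, (∃ g v, ρ g v ≠ v) →
      ∃ f : V ≃ₗ[ZMod 2] L2, ∀ g v, f (ρ g v) = rep1 g (f v)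

/-- a chart for abstract `Q`, `C → Co1` -/
theorem exists_chart_of_large (hA : ModuleThm.{u}) {G : Type u} [Group G] {z : G} {Q : Subgroup G} (h : Large Q z)
    (hcard : Nat.card Q = 2 ^ 25) (π : Subgroup.centralizer ({z} : Set G) →* Co1) (hπ : Function.Surjective π)
    (hker : ∀ c, π c = 1 ↔ (c : G) ∈ Q) : ∃ eta : G → L2, Chart Q z eta π := by
  classical
  have hfin : Finite Q := Nat.finite_of_card_ne_zero (by rw [hcard]; norm_num)
  have hcV : Nat.card h.V = 2 ^ 24 := by
    have := h.card_eq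
    rw [hcard] at this
    have h2 : (2 : ℕ) ^ 25 = 2 * 2 ^ 24 := by norm_num
    rw [h2] at this
    exact (Nat.eq_of_mul_eq_mul_left (by norm_num) this).symm
  -- the action of `Co1`
  obtain ⟨s, hs⟩ := hπ.hasRightInverse
  have hact : ∀ c d, π c = π d → h.act c = h.act d := by
    intro c d hcd
    have h1 : π (c⁻¹ * d) = 1 := by rw [map_mul, map_inv, hcd, inv_mul_cancel]
    have h2 := h.act_mem (c⁻¹ * d) ((hker _).1 h1)
    rw [map_mul, map_inv, inv_mul_eq_one] at h2
    exact h2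
  let ρ : Representation (ZMod 2) Co1 h.V :=
    { toFun := fun g => (h.act (s g)).toLinearMap
      map_one' := by
        have h1 : h.act (s 1) = h.act 1 := hact _ _ (by rw [hs, map_one])
        rw [h1, map_one]; rfl
      map_mul' := fun a b => by
        have h1 : h.act (s (a * b)) = h.act (s a * s b) := hact _ _ (by rw [hs, map_mul, hs, hs])
        rw [h1, map_mul]; rfl }
  have hρ : ∀ c v, ρ (π c) v = h.act c v := by
    intro c v
    show h.act (s (π c)) v = h.act c v
    rw [hact (s (π c)) c (hs _)]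
  have hne : ∃ g v, ρ g v ≠ v := by
    by_contra hno
    push Not at hno
    have hall : ∀ c, π c = 1 := by
      intro c
      rw [hker]
      apply h.mem_of_act
      ext v
      rw [← hρ, hno]
      rfl
    have hs1 : IsSimpleGroup (Co0 ⧸ Subgroup.center Co0) := Cfsg.Agent.S0399.result.1
    obtain ⟨a, b, hab⟩ := hs1.exists_pair_ne
    apply hab
    obtain ⟨c, hc⟩ := hπ a
    obtain ⟨d, hd⟩ := hπ b
    rw [← hc, ← hd, hall, hall]
  obtain ⟨f, hf⟩ := hA h.V hcV ρ hne
  refine ⟨fun x => if hx : x ∈ Q then f (h.pr ⟨x, hx⟩) else 0, ?_⟩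
  have he : ∀ x (hx : x ∈ Q), (if hx : x ∈ Q then f (h.pr ⟨x, hx⟩) else 0) = f (h.pr ⟨x, hx⟩) :=
    fun x hx => dif_pos hx
  refine ⟨h, hfin, ?_, ?_, ?_, ?_, hπ⟩
  · intro x hx y hy
    rw [he x hx, he y hy, he _ (Q.mul_mem hx hy), ← map_add, ← h.pr_mul]
    rfl
  · intro x hx
    rw [he x hx, LinearEquiv.map_eq_zero_iff, h.pr_eq_zero]
  · intro v
    obtain ⟨x, hx⟩ := h.pr_surjective (f.symm v)
    exact ⟨x, x.2, by rw [he x x.2, Subtype.coe_eta, hx, f.apply_symm_apply]⟩
  · intro c x hx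
    have hc : (c : G) * z = z * c := Subgroup.mem_centralizer_singleton_iff.1 c.2
    rw [he x hx, he _ (h.conj_mem c hc x hx), ← rep1_apply, ← hf, hρ, h.act_pr]
    rfl

/-- **The chart** from the hypotheses of the statements. -/
theorem exists_chart (hA : ModuleThm.{u}) {G : Type u} [Group G] (z : G) (hz : orderOf z = 2)
    (Q : Subgroup (Subgroup.centralizer ({z} : Set G))) [Q.Normal] (hE : Cfsg.IsExtraspecial 2 Q)
    (hcard : Nat.card Q = 2 ^ 25)
    (hcc : Subgroup.centralizer (Q : Set (Subgroup.centralizer ({z} : Set G))) ≤ Q)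
    (hCo1 : Cfsg.Spor.IsoCo1 ((Subgroup.centralizer ({z} : Set G)) ⧸ Q)) :
    ∃ (eta : G → L2) (π : Subgroup.centralizer ({z} : Set G) →* Co1),
      Chart (Q.map (Subgroup.centralizer ({z} : Set G)).subtype) z eta π := by
  obtain ⟨e⟩ := hCo1
  have h := large_of_raw z hz Q hE hcc
  have hcard' : Nat.card (Q.map (Subgroup.centralizer ({z} : Set G)).subtype) = 2 ^ 25 := by
    rw [← hcard]
    exact Nat.card_congr (Q.equivMapOfInjective _ (Subgroup.subtype_injective _)).toEquiv.symm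
  obtain ⟨eta, hchart⟩ := exists_chart_of_large hA h hcard' (e.toMonoidHom.comp (QuotientGroup.mk' Q))
    (e.surjective.comp (QuotientGroup.mk'_surjective Q)) (by
      intro c
      show e (QuotientGroup.mk' Q c) = 1 ↔ _
      rw [map_eq_one_iff e e.injective]
      refine (QuotientGroup.eq_one_iff c).trans ⟨fun hc => ⟨c, hc, rfl⟩, ?_⟩
      rintro ⟨d, hd, hdc⟩
      have : d = c := Subtype.ext hdc
      rwa [← this])
  exact ⟨eta, _, hchart⟩

end Cfsg.Agent.MonsterU.Ch
end
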