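import Mathlib
import Cfsg.Agent.MonsterX.LeechIrr
import Cfsg.Agent.MonsterX.Psi
import Cfsg.Agent.SporadicA.Co0Basic
import Cfsg.Agent.S0399
set_option linter.all false

/-!
# The lattice modulo two

`L2 = Λ / 2Λ` as a module for `Co0` and `Co1`, with its quadratic form `qf` and symplectic form `bf`.
-/

set_option autoImplicit false

namespace Cfsg.Agent.MonsterU.Lam2

open Cfsg Cfsg.Spor Cfsg.Agent.LeechMat.Core

/-- `2 Λ` -/
def twoL : AddSubgroup leechLattice := (nsmulAddMonoidHom (α := leechLattice) 2).range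

theorem mem_twoL {v : leechLattice} : v ∈ twoL ↔ ∃ u : leechLattice, v = 2 • u := by
  constructor
  · rintro ⟨u, hu⟩; exact ⟨u, hu.symm⟩
  · rintro ⟨u, hu⟩; exact ⟨u, hu.symm⟩

/-- `Λ / 2 Λ` -/
def L2 : Type := leechLattice ⧸ twoL

noncomputable instance : AddCommGroup L2 := inferInstanceAs (AddCommGroup (leechLattice ⧸ twoL))

/-- the class of a lattice vector -/
def cl : leechLattice →+ L2 := QuotientAddGroup.mk' twoL

theorem cl_surjective : Function.Surjective cl := QuotientAddGroup.mk'_surjective twoL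

theorem cl_eq_zero {v : leechLattice} : cl v = 0 ↔ ∃ u : leechLattice, v = 2 • u := by
  rw [← mem_twoL]; exact QuotientAddGroup.eq_zero_iff v

theorem cl_eq {v w : leechLattice} : cl v = cl w ↔ ∃ u : leechLattice, v - w = 2 • u := by
  rw [← sub_eq_zero, ← map_sub, cl_eq_zero]

theorem cl_two (v : leechLattice) : cl (2 • v) = 0 := cl_eq_zero.2 ⟨v, rfl⟩

theorem add_self (x : L2) : x + x = 0 := by
  obtain ⟨v, rfl⟩ := cl_surjective x
  rw [← map_add, ← two_smul ℕ, cl_two]

theorem neg_eq (x : L2) : -x = x := by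
  rw [neg_eq_iff_add_eq_zero]; exact add_self x

theorem cl_neg (v : leechLattice) : cl (-v) = cl v := by rw [map_neg, neg_eq]

theorem cl_sub (v w : leechLattice) : cl (v - w) = cl v + cl w := by
  rw [map_sub, sub_eq_add_neg, neg_eq]

theorem eq_of_add_eq_zero {x y : L2} (h : x + y = 0) : x = y := by
  rw [← neg_eq y]; exact eq_neg_of_add_eq_zero_left h

noncomputable instance : Module (ZMod 2) L2 :=
  AddCommGroup.zmodModule (n := 2) (by intro x; rw [two_nsmul]; exact add_self x)

/-! ### the action -/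

/-- `v ↦ g • v` -/
def smulHom (g : Co0) : leechLattice →+ leechLattice where
  toFun v := g • v
  map_zero' := co0_smul_zero g
  map_add' := co0_smul_add g

theorem smul_two (g : Co0) (v : leechLattice) : g • (2 • v : leechLattice) = 2 • (g • v) := by
  rw [two_smul, two_smul, co0_smul_add]

/-- the action on `Λ / 2Λ` -/
def act (g : Co0) : L2 →+ L2 :=
  QuotientAddGroup.map twoL twoL (smulHom g) (by
    intro v hv
    obtain ⟨u, rfl⟩ := mem_twoL.1 hv
    exact mem_twoL.2 ⟨g • u, smul_two g u⟩)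

theorem act_cl (g : Co0) (v : leechLattice) : act g (cl v) = cl (g • v) := rfl

noncomputable instance : DistribMulAction Co0 L2 where
  smul g x := act g x
  one_smul x := by
    obtain ⟨v, rfl⟩ := cl_surjective x
    show act 1 (cl v) = cl v
    rw [act_cl, one_smul]
  mul_smul g h x := by
    obtain ⟨v, rfl⟩ := cl_surjective x
    show act (g * h) (cl v) = act g (act h (cl v))
    rw [act_cl, act_cl, act_cl, mul_smul]
  smul_zero g := map_zero (act g)
  smul_add g := map_add (act g)

theorem smul_cl (g : Co0) (v : leechLattice) : g • cl v = cl (g • v) := rfl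

/-- the representation of `Co0` on `Λ / 2Λ` -/
noncomputable def rep0 : Representation (ZMod 2) Co0 L2 where
  toFun g := AddMonoidHom.toZModLinearMap 2 (act g)
  map_one' := by
    ext x
    exact one_smul Co0 x
  map_mul' g h := by
    ext x
    exact mul_smul g h x

theorem rep0_apply (g : Co0) (x : L2) : rep0 g x = g • x := rfl

theorem rep0_cl (g : Co0) (v : leechLattice) : rep0 g (cl v) = cl (g • v) := rfl

open Cfsg.Agent.SporadicA.Co0Basic in
theorem negCo0_smul (x : L2) : negCo0 • x = x := by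
  obtain ⟨v, rfl⟩ := cl_surjective x
  rw [smul_cl]
  have : negCo0 • v = -v := rfl
  rw [this, cl_neg]

open Cfsg.Agent.SporadicA.Co0Basic in
theorem center_smul {g : Co0} (hg : g ∈ Subgroup.center Co0) (x : L2) : g • x = x := by
  rcases eq_one_or_neg_of_mem_center hg with rfl | rfl
  · exact one_smul _ _
  · exact negCo0_smul x

theorem mk_eq_mk {g h : Co0} : (QuotientGroup.mk g : Co1) = QuotientGroup.mk h ↔
    ∃ c ∈ Subgroup.center Co0, h = g * c := by
  rw [QuotientGroup.eq]
  constructor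
  · intro hc
    exact ⟨_, hc, by group⟩
  · rintro ⟨c, hc, rfl⟩
    simpa using hc

theorem smul_eq_of_mk {g h : Co0} (hgh : (QuotientGroup.mk g : Co1) = QuotientGroup.mk h) (x : L2) :
    g • x = h • x := by
  obtain ⟨c, hc, rfl⟩ := mk_eq_mk.1 hgh
  rw [mul_smul, center_smul hc]

/-- the representation of `Co1` on `Λ / 2Λ` -/
noncomputable def rep1 : Representation (ZMod 2) Co1 L2 :=
  QuotientGroup.lift (Subgroup.center Co0) rep0 (by
    intro g hg
    ext x
    exact center_smul hg x)

theorem rep1_mk (g : Co0) (x : L2) : rep1 (QuotientGroup.mk g) x = g • x := rfl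

theorem rep1_mk_cl (g : Co0) (v : leechLattice) : rep1 (QuotientGroup.mk g) (cl v) = cl (g • v) := rfl

noncomputable instance : DistribMulAction Co1 L2 where
  smul g x := rep1 g x
  one_smul x := by
    show rep1 1 x = x
    rw [map_one]; rfl
  mul_smul g h x := by
    show rep1 (g * h) x = rep1 g (rep1 h x)
    rw [map_mul]; rfl
  smul_zero g := map_zero (rep1 g)
  smul_add g := map_add (rep1 g)

theorem mk_smul (g : Co0) (x : L2) : (QuotientGroup.mk g : Co1) • x = g • x := rfl

theorem rep1_apply (g : Co1) (x : L2) : rep1 g x = g • x := rfl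

/-! ### size -/

open Cfsg.Agent.MonsterX.Psi in
/-- coordinates -/
theorem exists_coord : Nonempty (L2 ≃ Cfsg.Agent.Monster.PauliBasic.B 12 × Cfsg.Agent.Monster.PauliBasic.B 12) := by
  let f : L2 →+ Cfsg.Agent.Monster.PauliBasic.B 12 × Cfsg.Agent.Monster.PauliBasic.B 12 :=
    QuotientAddGroup.lift twoL psi (by
      intro v hv
      obtain ⟨u, rfl⟩ := mem_twoL.1 hv
      exact psi_two u)
  have hf : ∀ v, f (cl v) = psi v := fun v => rfl
  refine ⟨Equiv.ofBijective f ⟨?_, ?_⟩⟩
  · rw [injective_iff_map_eq_zero]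
    intro x hx
    obtain ⟨v, rfl⟩ := cl_surjective x
    rw [hf] at hx
    exact cl_eq_zero.2 (psi_eq_zero hx)
  · intro p
    obtain ⟨v, hv⟩ := psi_surjective p
    exact ⟨cl v, hv⟩

instance : Finite L2 := by
  obtain ⟨e⟩ := exists_coord
  exact Finite.of_equiv _ e.symm

theorem card_L2 : Nat.card L2 = 2 ^ 24 := by
  obtain ⟨e⟩ := exists_coord
  rw [Nat.card_congr e]
  simp [Nat.card_eq_fintype_card, Fintype.card_prod, ZMod.card]

/-! ### the forms -/

theorem dvd_dot (v w : leechLattice) : (8 : ℤ) ∣ dotInt (v : GolayPt → ℤ) (w : GolayPt → ℤ) :=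
  Cfsg.Agent.Leech.Basic.eight_dvd_dotInt v.2 w.2

theorem dvd_norm (v : leechLattice) : (16 : ℤ) ∣ sqNorm (v : GolayPt → ℤ) :=
  Cfsg.Agent.Leech.Basic.sixteen_dvd_sqNorm v.2

/-- the quadratic form on the lattice -/
def q0 (v : leechLattice) : ZMod 2 := ((sqNorm (v : GolayPt → ℤ) / 16 : ℤ) : ZMod 2)

/-- the bilinear form on the lattice -/
def b0 (v w : leechLattice) : ZMod 2 := ((dotInt (v : GolayPt → ℤ) (w : GolayPt → ℤ) / 8 : ℤ) : ZMod 2)

theorem q0_add (v w : leechLattice) : q0 (v + w) = q0 v + q0 w + b0 v w := by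
  obtain ⟨a, ha⟩ := dvd_norm v
  obtain ⟨b, hb⟩ := dvd_norm w
  obtain ⟨c, hc⟩ := dvd_dot v w
  have h : sqNorm ((v + w : leechLattice) : GolayPt → ℤ) = 16 * (a + b + c) := by
    rw [AddSubgroup.coe_add, sqNorm_add, ha, hb, hc]; ring
  rw [q0, q0, q0, b0, h, ha, hb, hc, Int.mul_ediv_cancel_left _ (by norm_num),
    Int.mul_ediv_cancel_left _ (by norm_num), Int.mul_ediv_cancel_left _ (by norm_num),
    Int.mul_ediv_cancel_left _ (by norm_num)]
  push_cast; rfl

theorem b0_two (v w : leechLattice) : b0 v (2 • w) = 0 := by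
  obtain ⟨c, hc⟩ := dvd_dot v w
  have h : dotInt (v : GolayPt → ℤ) ((2 • w : leechLattice) : GolayPt → ℤ) = 8 * (2 * c) := by
    rw [two_smul, AddSubgroup.coe_add, dotInt_add_right, hc]; ring
  rw [b0, h, Int.mul_ediv_cancel_left _ (by norm_num)]
  push_cast
  rw [show (2 : ZMod 2) = 0 from rfl, zero_mul]

theorem q0_two (v : leechLattice) : q0 (2 • v) = 0 := by
  obtain ⟨a, ha⟩ := dvd_norm v
  have h : sqNorm ((2 • v : leechLattice) : GolayPt → ℤ) = 16 * (2 * (2 * a)) := by
    rw [two_smul, AddSubgroup.coe_add, sqNorm_add, ← sqNorm_eq_dotInt, ha]; ring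
  rw [q0, h, Int.mul_ediv_cancel_left _ (by norm_num)]
  push_cast
  rw [show (2 : ZMod 2) = 0 from rfl, zero_mul]

theorem q0_congr {v w : leechLattice} (h : cl v = cl w) : q0 v = q0 w := by
  obtain ⟨u, hu⟩ := cl_eq.1 h
  have : v = w + 2 • u := by rw [← hu]; abel
  rw [this, q0_add, q0_two, b0_two, add_zero, add_zero]

/-- the quadratic form on `Λ / 2Λ` -/
noncomputable def qf (x : L2) : ZMod 2 := q0 (Function.surjInv cl_surjective x)

theorem qf_cl (v : leechLattice) : qf (cl v) = q0 v :=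
  q0_congr (Function.surjInv_eq cl_surjective (cl v))

/-- the bilinear form on `Λ / 2Λ` -/
noncomputable def bf (x y : L2) : ZMod 2 := qf (x + y) + qf x + qf y

theorem bf_cl (v w : leechLattice) : bf (cl v) (cl w) = b0 v w := by
  rw [bf, ← map_add, qf_cl, qf_cl, qf_cl, q0_add]
  generalize q0 v = a
  generalize q0 w = b
  generalize b0 v w = c
  revert a b c; decide

theorem qf_add (x y : L2) : qf (x + y) = qf x + qf y + bf x y := by
  rw [bf]
  generalize qf (x + y) = a
  generalize qf x = b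
  generalize qf y = c
  revert a b c; decide

theorem bf_comm (x y : L2) : bf x y = bf y x := by
  rw [bf, bf, add_comm x y, add_assoc, add_comm (qf x), ← add_assoc]

theorem bf_add_left (x x' y : L2) : bf (x + x') y = bf x y + bf x' y := by
  obtain ⟨v, rfl⟩ := cl_surjective x
  obtain ⟨v', rfl⟩ := cl_surjective x'
  obtain ⟨w, rfl⟩ := cl_surjective y
  rw [← map_add, bf_cl, bf_cl, bf_cl]
  exact Cfsg.Agent.MonsterX.Psi.bl_add_left v v' w

theorem bf_add_right (x y y' : L2) : bf x (y + y') = bf x y + bf x y' := by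
  rw [bf_comm, bf_add_left, bf_comm y, bf_comm y']

theorem bf_zero_left (x : L2) : bf 0 x = 0 := by
  have := bf_add_left 0 0 x
  rw [add_zero] at this
  simpa using this

theorem bf_zero_right (x : L2) : bf x 0 = 0 := by rw [bf_comm, bf_zero_left]

theorem qf_zero : qf 0 = 0 := by
  rw [← map_zero cl, qf_cl]
  have := q0_two 0
  rwa [smul_zero] at this

theorem bf_self (x : L2) : bf x x = 0 := by
  rw [bf, add_self, qf_zero, zero_add]
  generalize qf x = a
  revert a; decide

theorem qf_smul (g : Co0) (x : L2) : qf (g • x) = qf x := by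
  obtain ⟨v, rfl⟩ := cl_surjective x
  rw [smul_cl, qf_cl, qf_cl, q0, q0, co0_sqNorm]

theorem bf_smul (g : Co0) (x y : L2) : bf (g • x) (g • y) = bf x y := by
  rw [bf, bf, ← smul_add, qf_smul, qf_smul, qf_smul]

theorem qf_smul1 (g : Co1) (x : L2) : qf (g • x) = qf x := by
  obtain ⟨h, rfl⟩ := QuotientGroup.mk_surjective g
  exact qf_smul h x

theorem bf_smul1 (g : Co1) (x y : L2) : bf (g • x) (g • y) = bf x y := by
  obtain ⟨h, rfl⟩ := QuotientGroup.mk_surjective g
  exact bf_smul h x y

/-- `qf` vanishes on the classes of vectors of norm divisible by 32 -/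
theorem qf_cl_eq_zero {v : leechLattice} : qf (cl v) = 0 ↔ (32 : ℤ) ∣ sqNorm (v : GolayPt → ℤ) := by
  obtain ⟨a, ha⟩ := dvd_norm v
  rw [qf_cl, q0, ha, Int.mul_ediv_cancel_left _ (by norm_num), ZMod.intCast_zmod_eq_zero_iff_dvd]
  push_cast
  omega

theorem bf_cl_eq_zero {v w : leechLattice} :
    bf (cl v) (cl w) = 0 ↔ (16 : ℤ) ∣ dotInt (v : GolayPt → ℤ) (w : GolayPt → ℤ) := by
  obtain ⟨a, ha⟩ := dvd_dot v w
  rw [bf_cl, b0, ha, Int.mul_ediv_cancel_left _ (by norm_num), ZMod.intCast_zmod_eq_zero_iff_dvd]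
  push_cast
  omega

/-! ### types -/

/-- class of type `n` : represented by a vector of norm `16 n` -/
def IsType (n : ℤ) (x : L2) : Prop := ∃ v : leechLattice, sqNorm (v : GolayPt → ℤ) = 16 * n ∧ cl v = x

theorem type_cases (x : L2) : x = 0 ∨ IsType 2 x ∨ IsType 3 x ∨ IsType 4 x := by
  obtain ⟨v, rfl⟩ := cl_surjective x
  obtain ⟨y, hy, hyn, z, hz, hxyz⟩ := Cfsg.Agent.S1570.result v v.2
  have hcl : cl v = cl ⟨y, hy⟩ := cl_eq.2 ⟨⟨z, hz⟩, Subtype.ext hxyz⟩
  by_cases hy0 : y = 0
  · left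
    rw [hcl]
    have : (⟨y, hy⟩ : leechLattice) = 0 := Subtype.ext hy0
    rw [this, map_zero]
  · right
    have h32 := Cfsg.Agent.S0391.result y hy hy0
    obtain ⟨m, hm⟩ := Cfsg.Agent.Leech.Basic.sixteen_dvd_sqNorm hy
    have hcase : sqNorm y = 32 ∨ sqNorm y = 48 ∨ sqNorm y = 64 := by omega
    rcases hcase with h | h | h
    · exact Or.inl ⟨⟨y, hy⟩, h, hcl.symm⟩
    · exact Or.inr (Or.inl ⟨⟨y, hy⟩, h, hcl.symm⟩)
    · exact Or.inr (Or.inr ⟨⟨y, hy⟩, h, hcl.symm⟩)

theorem IsType.smul {n : ℤ} {x : L2} (h : IsType n x) (g : Co0) : IsType n (g • x) := by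
  obtain ⟨v, hv, rfl⟩ := h
  exact ⟨g • v, by rw [co0_sqNorm, hv], rfl⟩

theorem IsType.smul1 {n : ℤ} {x : L2} (h : IsType n x) (g : Co1) : IsType n (g • x) := by
  obtain ⟨k, rfl⟩ := QuotientGroup.mk_surjective g
  exact h.smul k

/-- transitivity of `Co0` on each type -/
theorem IsType.trans {n : ℤ} (hn : n = 2 ∨ n = 3 ∨ n = 4) {x y : L2} (hx : IsType n x) (hy : IsType n y) :
    ∃ g : Co0, g • x = y := by
  obtain ⟨v, hv, rfl⟩ := hx
  obtain ⟨w, hw, rfl⟩ := hy
  rcases hn with rfl | rfl | rfl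
  · obtain ⟨g, hg⟩ := Cfsg.Agent.S0400.result v w (by rw [hv]; norm_num) (by rw [hw]; norm_num)
    exact ⟨g, by rw [smul_cl, hg]⟩
  · obtain ⟨g, hg⟩ := Cfsg.Agent.S0401.result v w (by rw [hv]; norm_num) (by rw [hw]; norm_num)
    exact ⟨g, by rw [smul_cl, hg]⟩
  · obtain ⟨g, hg⟩ := Cfsg.Agent.Leech.Trans64.trans64 v w (by rw [hv]; norm_num) (by rw [hw]; norm_num)
    exact ⟨g, by rw [smul_cl, hg]⟩

/-! ### irreducibility and faithfulness -/

/-- `Λ / 2Λ` is irreducible -/
theorem irreducible (U : AddSubgroup L2) (hU : ∀ g : Co0, ∀ x ∈ U, g • x ∈ U) : U = ⊥ ∨ U = ⊤ := by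
  rcases Cfsg.Agent.MonsterX.LeechIrr.irreducible (U.comap cl) (fun z => by
      rw [AddSubgroup.mem_comap, cl_two]; exact U.zero_mem)
    (fun g v hv => by
      rw [AddSubgroup.mem_comap, ← smul_cl]; exact hU g _ hv) with h | h
  · left
    rw [eq_bot_iff]
    intro x hx
    obtain ⟨v, rfl⟩ := cl_surjective x
    rw [AddSubgroup.mem_bot]
    exact cl_eq_zero.2 (h v hx)
  · right
    rw [eq_top_iff]
    intro x _
    obtain ⟨v, rfl⟩ := cl_surjective x
    have : v ∈ U.comap cl := by rw [h]; trivial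
    exact this

/-- the form is not degenerate -/
theorem bf_nondeg {x : L2} (hx : ∀ y, bf x y = 0) : x = 0 := by
  let R : AddSubgroup L2 :=
    { carrier := {x | ∀ y, bf x y = 0}
      zero_mem' := fun y => bf_zero_left y
      add_mem' := fun {a b} ha hb y => by
        rw [bf_add_left, ha y, hb y, add_zero]
      neg_mem' := fun {a} ha y => by rw [neg_eq]; exact ha y }
  have hR : R = ⊥ ∨ R = ⊤ := irreducible R fun g x hx y => by
    have : bf (g • x) (g • (g⁻¹ • y)) = 0 := by rw [bf_smul]; exact hx _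
    rwa [smul_inv_smul] at this
  rcases hR with h | h
  · have : x ∈ R := hx
    rwa [h, AddSubgroup.mem_bot] at this
  · exfalso
    have h1 : cl leechU ∈ R := by rw [h]; trivial
    have h2 : bf (cl leechU) (cl leechV) = 0 := h1 _
    rw [bf_cl_eq_zero] at h2
    have h3 : dotInt (leechU : GolayPt → ℤ) (leechV : GolayPt → ℤ) = -24 := by
      show dotInt vecU vecV = -24; decide
    rw [h3] at h2
    norm_num at h2

/-- an element acting trivially on `Λ / 2Λ` is central -/
theorem mem_center_of_trivial {g : Co0} (hg : ∀ x : L2, g • x = x) : g ∈ Subgroup.center Co0 := by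
  have hs : IsSimpleGroup (Co0 ⧸ Subgroup.center Co0) := Cfsg.Agent.S0399.result.1
  let N : Subgroup Co0 :=
    { carrier := {g | ∀ x : L2, g • x = x}
      one_mem' := fun x => one_smul _ x
      mul_mem' := fun {a b} ha hb x => by rw [mul_smul, hb x, ha x]
      inv_mem' := fun {a} ha x => by
        rw [inv_smul_eq_iff]; exact (ha x).symm }
  have hN : N.Normal := ⟨fun n hn g x => by
    rw [mul_smul, mul_smul, hn, smul_inv_smul]⟩
  have hmap : (N.map (QuotientGroup.mk' (Subgroup.center Co0))).Normal :=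
    hN.map _ (QuotientGroup.mk'_surjective _)
  rcases hmap.eq_bot_or_eq_top with h1 | h1
  · have h2 : QuotientGroup.mk' (Subgroup.center Co0) g ∈ N.map (QuotientGroup.mk' (Subgroup.center Co0)) :=
      ⟨g, hg, rfl⟩
    rw [h1, Subgroup.mem_bot] at h2
    exact (QuotientGroup.eq_one_iff g).1 h2
  · exfalso
    -- everything is trivial
    have hall : ∀ (g : Co0) (x : L2), g • x = x := by
      intro g x
      have h2 : QuotientGroup.mk' (Subgroup.center Co0) g ∈ N.map (QuotientGroup.mk' (Subgroup.center Co0)) := by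
        rw [h1]; trivial
      obtain ⟨n, hn, hne⟩ := h2
      have h3 : n • x = g • x := smul_eq_of_mk hne x
      rw [← h3]; exact hn x
    -- a nontrivial proper subgroup
    rcases irreducible (AddSubgroup.zmultiples (cl leechU)) (fun g x hx => by rw [hall]; exact hx) with h | h
    · have h2 : cl leechU = 0 := by
        have : cl leechU ∈ AddSubgroup.zmultiples (cl leechU) := AddSubgroup.mem_zmultiples _
        rwa [h, AddSubgroup.mem_bot] at this
      have h3 : bf (cl leechU) (cl leechV) = 0 := by rw [h2, bf_zero_left]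
      rw [bf_cl_eq_zero] at h3
      have h4 : dotInt (leechU : GolayPt → ℤ) (leechV : GolayPt → ℤ) = -24 := by
        show dotInt vecU vecV = -24; decide
      rw [h4] at h3
      norm_num at h3
    · have h2 : cl leechV ∈ AddSubgroup.zmultiples (cl leechU) := by rw [h]; trivial
      obtain ⟨n, hn⟩ := AddSubgroup.mem_zmultiples_iff.1 h2
      have h3 : bf (cl leechU) (cl leechV) = 0 := by
        rw [← hn]
        rcases Int.even_or_odd' n with ⟨k, rfl | rfl⟩
        · rw [mul_comm, mul_smul, two_smul, add_self, smul_zero, bf_zero_right]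
        · rw [add_smul, mul_comm, mul_smul, two_smul, add_self, smul_zero, zero_add, one_smul, bf_self]
      rw [bf_cl_eq_zero] at h3
      have h4 : dotInt (leechU : GolayPt → ℤ) (leechV : GolayPt → ℤ) = -24 := by
        show dotInt vecU vecV = -24; decide
      rw [h4] at h3
      norm_num at h3

theorem mk_eq_of_smul {g h : Co0} (hgh : ∀ x : L2, g • x = h • x) :
    (QuotientGroup.mk g : Co1) = QuotientGroup.mk h := by
  rw [QuotientGroup.eq]
  refine mem_center_of_trivial fun x => ?_
  rw [mul_smul, ← hgh, inv_smul_smul]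

/-- `Co1` acts faithfully -/
theorem eq_of_smul {g h : Co1} (hgh : ∀ x : L2, g • x = h • x) : g = h := by
  obtain ⟨a, rfl⟩ := QuotientGroup.mk_surjective g
  obtain ⟨b, rfl⟩ := QuotientGroup.mk_surjective h
  exact mk_eq_of_smul hgh

end Cfsg.Agent.MonsterU.Lam2
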