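import Cfsg.Agent.MonsterX.FrameInst
import Cfsg.Agent.Leech.Co0Elts
import Cfsg.Agent.SporadicStructure.XiMap
import Mathlib.Algebra.Group.Basic
import Mathlib.Algebra.BigOperators.Group.Finset.Basic
import Mathlib.RepresentationTheory.Basic
import Mathlib.LinearAlgebra.Dimension.Constructions
import Mathlib.LinearAlgebra.FiniteDimensional.Lemmas
import Mathlib.FieldTheory.Finiteness
import Mathlib.Data.ZMod.Basic
import Mathlib.GroupTheory.Perm.Cycle.Type
import Mathlib.GroupTheory.SpecificGroups.Cyclic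
import Mathlib.Algebra.CharP.Two
import Mathlib.Tactic
import Mathlib.Tactic.IntervalCases
import Mathlib.Logic.Function.Iterate
import Cfsg.Agent.MonsterU.ChartOf
import Cfsg.Agent.MonsterU.Lam2
import Cfsg.Agent.MonsterX.FrameCover
import Cfsg.Agent.S1572
set_option linter.all false

-- part: MonsterU/ModLet
section
/-!
# The letters as elements of `Co0`

Existence of elements of `Co0` inducing the sign changes at the basis `cb` of the code, the three standard permutations
and the sextet element `ξ`.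
-/

set_option autoImplicit false

namespace Cfsg.Agent.MonsterU.ModLet

open Cfsg
open Cfsg.Agent.LeechMat.Code (pos pos_lt)
open Cfsg.Agent.MonsterX.FrameStab Cfsg.Agent.MonsterX.FrameLet
open Cfsg.Agent.SporadicA.M24Gens

theorem exists_sign {m : ℕ} (h : word m ∈ golayCode) : ∃ A : Co0, IsSign A m := by
  have hc : support₂ (word m) ∈ Cfsg.Agent.Leech.Code.Words := ⟨word m, h, rfl⟩
  refine ⟨Cfsg.Agent.Leech.Co0Elts.sgn _ hc, fun v p => ?_⟩
  rw [Cfsg.Agent.Leech.Co0Elts.sgn_coe, Cfsg.Agent.Leech.Co0Elts.sgnMap_apply]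
  have h1 : p ∈ support₂ (word m) ↔ m.testBit (pidx p) = true := by
    unfold support₂ word
    rw [Finset.mem_filter]
    cases m.testBit (pidx p) <;> simp
  by_cases h2 : m.testBit (pidx p) = true
  · rw [if_pos (h1.2 h2), if_pos h2]
  · rw [if_neg (fun h => h2 (h1.1 h)), if_neg h2]

/-- the basis of the code in terms of the standard generators -/
def cbL : List (List ℕ) :=
  [[23], [2, 3, 7], [3, 4, 8], [2, 3, 4, 5, 7, 9], [3, 4, 5, 6, 8, 10], [0, 1, 2, 3, 4, 7], [1, 4, 5, 7, 8],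
    [3, 5, 6, 7, 8, 9], [4, 6, 7, 8, 9, 10], [0, 1, 6, 8, 10], [0, 2, 5, 6], [1, 2, 6]]

theorem cb_eq : ∀ i < 12, cb.getD i 0 = combo (cbL.getD i []) := by decide +kernel

theorem exists_y (i : ℕ) (hi : i < 12) : ∃ A : Co0, IsSign A (cb.getD i 0) := by
  apply exists_sign
  rw [cb_eq i hi]
  exact word_combo_mem _

theorem exists_perm {σ : Equiv.Perm GolayPt} (h : σ ∈ M24) : ∃ A : Co0, IsPerm A σ :=
  ⟨Cfsg.Agent.Leech.Co0Elts.perm σ h, fun v p => by
    rw [Cfsg.Agent.Leech.Co0Elts.perm_coe, Cfsg.Agent.Leech.Co0Elts.permMap_apply]⟩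

/-! ### The sextet element -/

/-- the colouring of the points by the tetrads of the sextet -/
def T (p : GolayPt) : Fin 6 := if h : tetL.getD (pos p) 0 < 6 then ⟨_, h⟩ else 0

theorem T_val (p : GolayPt) : (T p).val = tetL.getD (pos p) 0 := by
  unfold T
  rw [dif_pos (tet_lt _ (pos_lt p))]

/-- the octads `t ∪ u` in terms of the standard generators -/
def octL (t u : ℕ) : List ℕ :=
  ([[], [0, 3, 4, 6, 8], [0, 1, 2, 6, 7, 8, 23], [0, 2, 3, 4, 6, 7, 8, 10], [0, 1, 4, 8, 9], [4, 6, 9, 10],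
    [0, 3, 4, 6, 8], [], [1, 2, 3, 4, 7, 23], [2, 7, 10], [1, 3, 6, 9], [0, 3, 8, 9, 10],
    [0, 1, 2, 6, 7, 8, 23], [1, 2, 3, 4, 7, 23], [], [1, 3, 4, 10, 23], [2, 4, 6, 7, 9, 23],
    [0, 1, 2, 4, 7, 8, 9, 10, 23],
    [0, 2, 3, 4, 6, 7, 8, 10], [2, 7, 10], [1, 3, 4, 10, 23], [], [1, 2, 3, 6, 7, 9, 10], [0, 2, 3, 7, 8, 9],
    [0, 1, 4, 8, 9], [1, 3, 6, 9], [2, 4, 6, 7, 9, 23], [1, 2, 3, 6, 7, 9, 10], [], [0, 1, 6, 8, 10],
    [4, 6, 9, 10], [0, 3, 8, 9, 10], [0, 1, 2, 4, 7, 8, 9, 10, 23], [0, 2, 3, 7, 8, 9], [0, 1, 6, 8, 10], []] :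
    List (List ℕ)).getD (6 * t + u) []

theorem oct_ok : ∀ t < 6, ∀ u < 6, t ≠ u → ∀ i < 24,
    (combo (octL t u)).testBit i = (Nat.beq (tetL.getD i 0) t || Nat.beq (tetL.getD i 0) u) := by
  decide +kernel

theorem card_ok : ∀ t : Fin 6, (Finset.univ.filter fun q => T q = t).card = 4 := by decide +kernel

theorem isSextetMap : Cfsg.Agent.SporadicStructure.XiMap.IsSextetMap T where
  card_fiber := card_ok
  union_mem := by
    intro t u htu
    have h : (fun p => if T p = t ∨ T p = u then (1 : ZMod 2) else 0) = word (combo (octL t.val u.val)) := by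
      funext p
      unfold word
      rw [show pidx p = pos p from pidx_eq p,
        oct_ok t.val t.isLt u.val u.isLt (fun h => htu (Fin.ext h)) (pos p) (pos_lt p)]
      have h1 : T p = t ↔ Nat.beq (tetL.getD (pos p) 0) t.val = true := by
        rw [Nat.beq_eq, ← T_val]
        exact Fin.ext_iff
      have h2 : T p = u ↔ Nat.beq (tetL.getD (pos p) 0) u.val = true := by
        rw [Nat.beq_eq, ← T_val]
        exact Fin.ext_iff
      have h12 : (T p = t ∨ T p = u) ↔
          (Nat.beq (tetL.getD (pos p) 0) t.val || Nat.beq (tetL.getD (pos p) 0) u.val) = true := by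
        rw [Bool.or_eq_true, ← h1, ← h2]
      by_cases h3 : (Nat.beq (tetL.getD (pos p) 0) t.val || Nat.beq (tetL.getD (pos p) 0) u.val) = true
      · rw [if_pos h3, if_pos (h12.2 h3)]
      · rw [if_neg h3, if_neg (fun h => h3 (h12.1 h))]
    rw [h]
    exact word_combo_mem _

theorem exists_xi : ∃ A : Co0, IsXi A := by
  refine ⟨Cfsg.Agent.SporadicStructure.XiMap.xiCo0 T isSextetMap, fun v p => ?_⟩
  rw [Cfsg.Agent.SporadicStructure.XiMap.two_mul_xiCo0 isSextetMap v p]
  have h1 : Cfsg.Agent.SporadicStructure.XiMap.sgn (T p) = if tetL.getD (pos p) 0 = 0 then -1 else 1 := by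
    unfold Cfsg.Agent.SporadicStructure.XiMap.sgn
    rw [← T_val]
    by_cases h : T p = 0
    · rw [if_pos h, if_pos (by rw [h]; rfl)]
    · rw [if_neg h, if_neg (fun h' => h (Fin.ext (by rw [h']; rfl)))]
  have h2 : Cfsg.Agent.SporadicStructure.XiMap.blockSum T v (T p) =
      ∑ q : GolayPt, if tetL.getD (pos q) 0 = tetL.getD (pos p) 0 then (v : GolayPt → ℤ) q else 0 := by
    unfold Cfsg.Agent.SporadicStructure.XiMap.blockSum
    rw [Finset.sum_filter]
    refine Finset.sum_congr rfl fun q _ => ?_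
    have h3 : T q = T p ↔ tetL.getD (pos q) 0 = tetL.getD (pos p) 0 := by
      rw [← T_val, ← T_val]
      exact Fin.ext_iff
    by_cases h : T q = T p
    · rw [if_pos h, if_pos (h3.1 h)]
    · rw [if_neg h, if_neg (fun h' => h (h3.2 h'))]
  rw [h1, h2]

end Cfsg.Agent.MonsterU.ModLet
end

-- part: MonsterU/ModEv
section
/-!
# Ternary digits and words in six commuting elements

`ev e c = e 0 ^ c 0 * ⋯ * e 5 ^ c 5`; functionals and vectors of `F₃⁶` are coded by numbers `< 729` with digits `dg`.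
-/

set_option autoImplicit false

namespace Cfsg.Agent.MonsterU.ModEv

/-- ternary digit -/
def dg (n k : ℕ) : ℕ := n / 3 ^ k % 3

/-- `e 0 ^ c 0 * ⋯ * e 5 ^ c 5` -/
def ev {Γ : Type*} [Group Γ] (e : ℕ → Γ) (c : ℕ → ℕ) : Γ :=
  e 0 ^ c 0 * e 1 ^ c 1 * e 2 ^ c 2 * e 3 ^ c 3 * e 4 ^ c 4 * e 5 ^ c 5

/-- the scalar product (not reduced) of two codes -/
def dot (n m : ℕ) : ℕ :=
  dg n 0 * dg m 0 + dg n 1 * dg m 1 + dg n 2 * dg m 2 + dg n 3 * dg m 3 + dg n 4 * dg m 4 + dg n 5 * dg m 5

/-- The functional `n` composed with the matrix `A` (`A k` is the code of the image of the `k`-th basis vector). -/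
def T (A : ℕ → ℕ) (n : ℕ) : ℕ :=
  dot n (A 0) % 3 + dot n (A 1) % 3 * 3 + dot n (A 2) % 3 * 9 + dot n (A 3) % 3 * 27 + dot n (A 4) % 3 * 81 +
    dot n (A 5) % 3 * 243

/-- The negative functional. -/
def neg (n : ℕ) : ℕ :=
  2 * dg n 0 % 3 + 2 * dg n 1 % 3 * 3 + 2 * dg n 2 % 3 * 9 + 2 * dg n 3 % 3 * 27 + 2 * dg n 4 % 3 * 81 +
    2 * dg n 5 % 3 * 243

end Cfsg.Agent.MonsterU.ModEv
end

-- part: MonsterU/ModAbs
section
/-!
# Uniqueness of a monomial-type module in characteristic 2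

Abstract part of the uniqueness of the 24-dimensional module of `Co₁` over `F₂`: `E` is an elementary abelian 3-group,
`j` inverts `E`, the normaliser of `E` permutes transitively `n` hyperplanes `H i` of `E` and every other hyperplane has
more than `n` conjugates.  A module of order `4 ^ n` with nontrivial action of `E` is then determined.
-/

set_option autoImplicit false

namespace Cfsg.Agent.MonsterU.ModAbs

open Finset

variable {Γ : Type*} [Group Γ]

/-- `K` has index 3 in `E`. -/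
structure Hyper (E K : Subgroup Γ) : Prop where
  le : K ≤ E
  ne : ∃ a ∈ E, a ∉ K
  cov : ∀ a ∈ E, a ∉ K → ∀ b ∈ E, b ∈ K ∨ a * b ∈ K ∨ a⁻¹ * b ∈ K

/-- `E` is an elementary abelian 3-group. -/
structure Elem (E : Subgroup Γ) : Prop where
  comm : ∀ a ∈ E, ∀ b ∈ E, a * b = b * a
  cube : ∀ a ∈ E, a * a * a = 1
  fin : Finite E

theorem Elem.sq {E : Subgroup Γ} (hE : Elem E) {a : Γ} (ha : a ∈ E) : a * a = a⁻¹ :=
  eq_inv_of_mul_eq_one_left (hE.cube a ha)

/-- a hyperplane contained in another one is equal to it -/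
theorem Hyper.eq_of_le {E K L : Subgroup Γ} (hK : Hyper E K) (hL : Hyper E L) (h : K ≤ L) : K = L := by
  apply le_antisymm h
  intro b hb
  obtain ⟨a, ha, haL⟩ := hL.ne
  rcases hK.cov a ha (fun h' => haL (h h')) b (hL.le hb) with h1 | h1 | h1
  · exact h1
  · exact absurd (by simpa using L.mul_mem (h h1) (L.inv_mem hb)) haL
  · exact absurd (by simpa using L.mul_mem (h h1) (L.inv_mem hb)) haL

section rep

variable {V : Type*} [AddCommGroup V] [Module (ZMod 2) V] (ρ : Representation (ZMod 2) Γ V)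

theorem add_self (v : V) : v + v = 0 := by
  have h : (2 : ZMod 2) • v = v + v := by rw [two_smul]
  rw [← h, show (2 : ZMod 2) = 0 from rfl, zero_smul]

theorem eq_of_add_eq_zero {v w : V} (h : v + w = 0) : v = w := by
  have : v + w + w = w := by rw [h, zero_add]
  rwa [add_assoc, add_self, add_zero] at this

theorem rho_mul (g h : Γ) (v : V) : ρ (g * h) v = ρ g (ρ h v) := by
  rw [map_mul]; rfl

theorem rho_one (v : V) : ρ 1 v = v := by
  rw [map_one]; rfl

theorem rho_inv (g : Γ) (v : V) : ρ g⁻¹ (ρ g v) = v := by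
  rw [← rho_mul, inv_mul_cancel, rho_one]

theorem rho_inv' (g : Γ) (v : V) : ρ g (ρ g⁻¹ v) = v := by
  rw [← rho_mul, mul_inv_cancel, rho_one]

theorem rho_inj (g : Γ) : Function.Injective (ρ g) := fun v w h => by
  rw [← rho_inv ρ g v, h, rho_inv]

/-- The part of `V` belonging to the hyperplane `K`. -/
def VK (E K : Subgroup Γ) : Submodule (ZMod 2) V where
  carrier := {v | (∀ k ∈ K, ρ k v = v) ∧ ∀ e ∈ E, e ∉ K → v + ρ e v + ρ (e * e) v = 0}
  add_mem' := by
    rintro v w ⟨hv1, hv2⟩ ⟨hw1, hw2⟩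
    refine ⟨fun k hk => by rw [map_add, hv1 k hk, hw1 k hk], fun e he heK => ?_⟩
    rw [map_add, map_add]
    have h1 := hv2 e he heK
    have h2 := hw2 e he heK
    calc v + w + (ρ e v + ρ e w) + (ρ (e * e) v + ρ (e * e) w)
        = (v + ρ e v + ρ (e * e) v) + (w + ρ e w + ρ (e * e) w) := by abel
      _ = 0 := by rw [h1, h2, add_zero]
  zero_mem' := ⟨fun k _ => map_zero _, fun e _ _ => by simp⟩
  smul_mem' := by
    rintro c v ⟨hv1, hv2⟩
    refine ⟨fun k hk => by rw [map_smul, hv1 k hk], fun e he heK => ?_⟩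
    rw [map_smul, map_smul, ← smul_add, ← smul_add, hv2 e he heK, smul_zero]

theorem mem_VK {E K : Subgroup Γ} {v : V} : v ∈ VK ρ E K ↔
    (∀ k ∈ K, ρ k v = v) ∧ ∀ e ∈ E, e ∉ K → v + ρ e v + ρ (e * e) v = 0 := Iff.rfl

variable {ρ}

/-- one element outside `K` suffices -/
theorem mem_VK_of {E K : Subgroup Γ} (hE : Elem E) (hK : Hyper E K) {a : Γ} (ha : a ∈ E) (haK : a ∉ K) {v : V}
    (h1 : ∀ k ∈ K, ρ k v = v) (h2 : v + ρ a v + ρ (a * a) v = 0) : v ∈ VK ρ E K := by
  refine ⟨h1, fun e he heK => ?_⟩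
  rcases hK.cov a ha haK e he with h | h | h
  · exact absurd h heK
  · -- e = a⁻¹ k
    have e1 : ρ e v = ρ (a * a) v := by
      rw [hE.sq ha]
      have : ρ a⁻¹ (ρ (a * e) v) = ρ e v := by rw [← rho_mul]; congr 2; group
      rw [← this, h1 _ h]
    have e2 : ρ (e * e) v = ρ a v := by
      have h3 : ρ e (ρ (a * a) v) = ρ (a * a) (ρ e v) := by
        rw [← rho_mul, ← rho_mul, hE.comm e he _ (E.mul_mem ha ha)]
      rw [rho_mul, e1, h3, e1, ← rho_mul]
      congr 2
      rw [show a * a * (a * a) = a * a * a * a by group, hE.cube a ha, one_mul]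
    rw [e1, e2, ← h2]
    abel
  · -- e = a k
    have e1 : ρ e v = ρ a v := by
      have : ρ a (ρ (a⁻¹ * e) v) = ρ e v := by rw [← rho_mul]; congr 2; group
      rw [← this, h1 _ h]
    have e2 : ρ (e * e) v = ρ (a * a) v := by
      have h3 : ρ e (ρ a v) = ρ a (ρ e v) := by
        rw [← rho_mul, ← rho_mul, hE.comm e he _ ha]
      rw [rho_mul, e1, h3, e1, ← rho_mul]
    rw [e1, e2, ← h2]

/-- on the `K`-part `a⁻¹` is `1 + a` -/
theorem VK.inv {E K : Subgroup Γ} (hE : Elem E) {v : V} (hv : v ∈ VK ρ E K) {a : Γ} (ha : a ∈ E) (haK : a ∉ K) :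
    ρ a⁻¹ v = v + ρ a v := by
  have h := hv.2 a ha haK
  rw [hE.sq ha] at h
  exact (eq_of_add_eq_zero h).symm

/-! ### Independence -/

/-- sum over a finite subgroup -/
noncomputable def sumK (ρ : Representation (ZMod 2) Γ V) (K : Subgroup Γ) [Fintype K] : V →ₗ[ZMod 2] V :=
  ∑ k : K, ρ k

theorem sumK_apply (K : Subgroup Γ) [Fintype K] (v : V) : sumK ρ K v = ∑ k : K, ρ k v := by
  rw [sumK, LinearMap.sum_apply]

theorem sumK_mul (K : Subgroup Γ) [Fintype K] {x : Γ} (hx : x ∈ K) (v : V) : sumK ρ K (ρ x v) = sumK ρ K v := by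
  rw [sumK_apply, sumK_apply]
  refine Fintype.sum_equiv (Equiv.mulRight (⟨x, hx⟩ : K)) _ _ fun k => ?_
  rw [← rho_mul]
  rfl

/-- a finite elementary abelian 3-group has odd order -/
theorem odd_card {E K : Subgroup Γ} (hE : Elem E) (hK : K ≤ E) : Odd (Nat.card K) := by
  have : Finite E := hE.fin
  have : Finite K := Finite.of_injective (Subgroup.inclusion hK) (Subgroup.inclusion_injective hK)
  rw [← Nat.not_even_iff_odd]
  intro h
  obtain ⟨x, hx⟩ := exists_prime_orderOf_dvd_card' (G := K) 2 h.two_dvd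
  have h3 : x ^ 3 = 1 := by
    apply Subtype.ext
    have := hE.cube x (hK x.2)
    rw [pow_succ, pow_two]
    exact this
  have := orderOf_dvd_of_pow_eq_one h3
  rw [hx] at this
  norm_num at this

theorem sumK_fix {E K : Subgroup Γ} [Fintype K] (hE : Elem E) (hK : K ≤ E) {v : V} (hv : ∀ k ∈ K, ρ k v = v) :
    sumK ρ K v = v := by
  rw [sumK_apply, Finset.sum_congr rfl (fun k _ => hv (k : K) k.2), Finset.sum_const, Finset.card_univ,
    ← Nat.card_eq_fintype_card]
  obtain ⟨m, hm⟩ := odd_card hE hK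
  rw [hm, add_nsmul, mul_nsmul, one_nsmul, two_nsmul, add_self, nsmul_zero, zero_add]

theorem sumK_zero {E K L : Subgroup Γ} [Fintype K] (hK : Hyper E K) (hL : Hyper E L) (hne : K ≠ L) {v : V}
    (hv : v ∈ VK ρ E L) : sumK ρ K v = 0 := by
  have hnle : ¬ K ≤ L := fun h => hne (hK.eq_of_le hL h)
  obtain ⟨x, hxK, hxL⟩ := Set.not_subset.mp hnle
  have h := hv.2 x (hK.le hxK) hxL
  have h2 := congrArg (sumK ρ K) h
  rw [map_add, map_add, sumK_mul K hxK, sumK_mul K (K.mul_mem hxK hxK), map_zero, add_self, zero_add] at h2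
  exact h2

/-- the parts of pairwise different hyperplanes are independent -/
theorem indep {E : Subgroup Γ} (hE : Elem E) {ι : Type*} [Fintype ι] (K : ι → Subgroup Γ) (hK : ∀ i, Hyper E (K i))
    (hinj : Function.Injective K) (v : ι → V) (hv : ∀ i, v i ∈ VK ρ E (K i)) (h0 : ∑ i, v i = 0) : ∀ i, v i = 0 := by
  classical
  intro i
  have : Finite E := hE.fin
  have : Finite (K i) := Finite.of_injective (Subgroup.inclusion (hK i).le) (Subgroup.inclusion_injective (hK i).le)
  have : Fintype (K i) := Fintype.ofFinite _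
  have h1 := congrArg (sumK ρ (K i)) h0
  rw [map_sum, map_zero, Finset.sum_eq_single i] at h1
  · rwa [sumK_fix hE (hK i).le (hv i).1] at h1
  · intro l _ hl
    exact sumK_zero (hK i) (hK l) (fun h => hl (hinj h).symm) (hv l)
  · intro h
    exact absurd (mem_univ _) h

theorem indep' {E : Subgroup Γ} (hE : Elem E) {ι : Type*} [Fintype ι] (K : ι → Subgroup Γ) (hK : ∀ i, Hyper E (K i))
    (hinj : Function.Injective K) :
    Function.Injective (fun v : (i : ι) → VK ρ E (K i) => ∑ i, (v i : V)) := by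
  intro v w h
  have h1 : ∑ i, ((v i : V) - w i) = 0 := by
    rw [Finset.sum_sub_distrib]
    exact sub_eq_zero.mpr h
  funext i
  apply Subtype.ext
  exact sub_eq_zero.mp (indep hE K hK hinj (fun i => (v i : V) - w i)
    (fun i => (VK ρ E (K i)).sub_mem (v i).2 (w i).2) h1 i)

/-- `E` preserves its parts -/
theorem VK.rho_mem {E K : Subgroup Γ} (hE : Elem E) (hK : Hyper E K) {v : V} (hv : v ∈ VK ρ E K) {e : Γ} (he : e ∈ E) :
    ρ e v ∈ VK ρ E K := by
  refine ⟨fun k hk => ?_, fun f hf hfK => ?_⟩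
  · rw [← rho_mul, hE.comm k (hK.le hk) e he, rho_mul, hv.1 k hk]
  · have h1 : ρ f (ρ e v) = ρ e (ρ f v) := by rw [← rho_mul, ← rho_mul, hE.comm f hf e he]
    have h2 : ρ (f * f) (ρ e v) = ρ e (ρ (f * f) v) := by
      rw [← rho_mul, ← rho_mul, hE.comm (f * f) (E.mul_mem hf hf) e he]
    rw [h1, h2, ← map_add, ← map_add, hv.2 f hf hfK, map_zero]

theorem VK.ne {E K : Subgroup Γ} {v : V} (hv : v ∈ VK ρ E K) (h0 : v ≠ 0)
    {a : Γ} (ha : a ∈ E) (haK : a ∉ K) : ρ a v ≠ v := by
  intro h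
  have h1 := hv.2 a ha haK
  rw [rho_mul, h, h, add_self, zero_add] at h1
  exact h0 h1

/-- the four vectors `0, v, a v, a⁻¹ v` are different -/
theorem quad_inj {E K : Subgroup Γ} (hE : Elem E) (hK : Hyper E K) {v : V} (hv : v ∈ VK ρ E K) (h0 : v ≠ 0)
    {a : Γ} (ha : a ∈ E) (haK : a ∉ K) :
    Function.Injective (![0, ⟨v, hv⟩, ⟨ρ a v, VK.rho_mem hE hK hv ha⟩,
      ⟨ρ a⁻¹ v, VK.rho_mem hE hK hv (E.inv_mem ha)⟩] : Fin 4 → VK ρ E K) := by
  have hmem : ∀ e ∈ E, ρ e v ∈ VK ρ E K := fun e he => VK.rho_mem hE hK hv he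
  have hne : ρ a v ≠ v := VK.ne hv h0 ha haK
  have ha0 : ρ a v ≠ 0 := fun h => h0 (rho_inj ρ a (by rw [h, map_zero]))
  have hinv : ρ a⁻¹ v = v + ρ a v := VK.inv hE hv ha haK
  have h01 : (0 : VK ρ E K) ≠ ⟨v, hv⟩ := fun h => h0 (congrArg Subtype.val h).symm
  have h02 : (0 : VK ρ E K) ≠ ⟨ρ a v, hmem a ha⟩ := fun h => ha0 (congrArg Subtype.val h).symm
  have h03 : (0 : VK ρ E K) ≠ ⟨ρ a⁻¹ v, hmem _ (E.inv_mem ha)⟩ := by
    intro h
    have h1 : (0 : V) = ρ a⁻¹ v := congrArg Subtype.val h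
    rw [hinv] at h1
    exact hne (eq_of_add_eq_zero h1.symm).symm
  have h12 : (⟨v, hv⟩ : VK ρ E K) ≠ ⟨ρ a v, hmem a ha⟩ := fun h => hne (congrArg Subtype.val h).symm
  have h13 : (⟨v, hv⟩ : VK ρ E K) ≠ ⟨ρ a⁻¹ v, hmem _ (E.inv_mem ha)⟩ := by
    intro h
    have h1 : v = ρ a⁻¹ v := congrArg Subtype.val h
    rw [hinv] at h1
    exact ha0 (left_eq_add.mp h1)
  have h23 : (⟨ρ a v, hmem a ha⟩ : VK ρ E K) ≠ ⟨ρ a⁻¹ v, hmem _ (E.inv_mem ha)⟩ := by
    intro h
    have h1 : ρ a v = ρ a⁻¹ v := congrArg Subtype.val h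
    rw [hinv] at h1
    exact h0 (right_eq_add.mp h1)
  intro i k hik
  fin_cases i <;> fin_cases k <;> first
    | rfl
    | exact absurd hik h01
    | exact absurd hik h02
    | exact absurd hik h03
    | exact absurd hik h12
    | exact absurd hik h13
    | exact absurd hik h23
    | exact absurd hik.symm h01
    | exact absurd hik.symm h02
    | exact absurd hik.symm h03
    | exact absurd hik.symm h12
    | exact absurd hik.symm h13
    | exact absurd hik.symm h23

/-- a nonzero part has at least 4 elements -/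
theorem four_le {E K : Subgroup Γ} (hE : Elem E) (hK : Hyper E K) [Finite V] {v : V} (hv : v ∈ VK ρ E K) (h0 : v ≠ 0) :
    4 ≤ Nat.card (VK ρ E K) := by
  obtain ⟨a, ha, haK⟩ := hK.ne
  have := Nat.card_le_card_of_injective _ (quad_inj hE hK hv h0 ha haK)
  simpa using this

theorem card_ge {E : Subgroup Γ} (hE : Elem E) {ι : Type*} [Fintype ι] (K : ι → Subgroup Γ) (hK : ∀ i, Hyper E (K i))
    (hinj : Function.Injective K) [Finite V] (hne : ∀ i, ∃ v ∈ VK ρ E (K i), v ≠ 0) :
    4 ^ Fintype.card ι ≤ Nat.card V := by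
  have h1 := Nat.card_le_card_of_injective _ (indep' (ρ := ρ) hE K hK hinj)
  rw [Nat.card_pi] at h1
  refine le_trans ?_ h1
  rw [← Finset.card_univ, ← Finset.prod_const]
  refine Finset.prod_le_prod' fun i _ => ?_
  obtain ⟨v, hv, h0⟩ := hne i
  exact four_le hE (hK i) hv h0

/-! ### Existence of a hyperplane -/

/-- the projections onto the fixed points of `b`, `a b`, `a⁻¹ b` add up to the identity on `1 + a + a² = 0` -/
theorem proj_sum {E : Subgroup Γ} (hE : Elem E) {a b : Γ} (ha : a ∈ E) (hb : b ∈ E) {w : V}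
    (hw : w + ρ a w + ρ (a * a) w = 0) :
    (w + ρ b w + ρ (b * b) w) + (w + ρ (a * b) w + ρ (a * b * (a * b)) w) +
      (w + ρ (a⁻¹ * b) w + ρ (a⁻¹ * b * (a⁻¹ * b)) w) = w := by
  have hab := hE.comm a ha b hb
  have e1 : ρ (a * b) w = ρ b (ρ a w) := by rw [hab, rho_mul]
  have e2 : ρ (a⁻¹ * b) w = ρ b (ρ (a * a) w) := by
    rw [← hE.sq ha, hE.comm (a * a) (E.mul_mem ha ha) b hb, rho_mul]
  have e3 : ρ (a * b * (a * b)) w = ρ (b * b) (ρ (a * a) w) := by
    rw [← rho_mul]
    congr 2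
    rw [hE.comm (b * b) (E.mul_mem hb hb) (a * a) (E.mul_mem ha ha), mul_assoc a b (a * b), ← mul_assoc b a b, ← hab]
    group
  have e4 : ρ (a⁻¹ * b * (a⁻¹ * b)) w = ρ (b * b) (ρ a w) := by
    rw [← rho_mul]
    congr 2
    have hia : a⁻¹ * b = b * a⁻¹ := hE.comm a⁻¹ (E.inv_mem ha) b hb
    have h5 : a⁻¹ * a⁻¹ = a := by
      have := hE.sq (E.inv_mem ha)
      rwa [inv_inv] at this
    rw [hia, mul_assoc b a⁻¹ (b * a⁻¹), ← mul_assoc a⁻¹ b a⁻¹, hia, mul_assoc b a⁻¹ a⁻¹, h5, ← mul_assoc]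
  have h1 : ρ b w + ρ b (ρ a w) + ρ b (ρ (a * a) w) = 0 := by rw [← map_add, ← map_add, hw, map_zero]
  have h2 : ρ (b * b) w + ρ (b * b) (ρ a w) + ρ (b * b) (ρ (a * a) w) = 0 := by
    rw [← map_add, ← map_add, hw, map_zero]
  rw [e1, e2, e3, e4]
  calc _ = w + (w + w) + (ρ b w + ρ b (ρ a w) + ρ b (ρ (a * a) w)) +
        (ρ (b * b) w + ρ (b * b) (ρ a w) + ρ (b * b) (ρ (a * a) w)) := by abel
    _ = w := by rw [h1, h2, add_self, add_zero, add_zero, add_zero]

/-- a nontrivial action of `E` has a nonzero part -/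
theorem exists_hyper {E : Subgroup Γ} (hE : Elem E) {a : Γ} (ha : a ∈ E) {w : V} (haw : ρ a w ≠ w) :
    ∃ K, Hyper E K ∧ ∃ v ∈ VK ρ E K, v ≠ 0 := by
  classical
  have hfin : Finite E := hE.fin
  -- the set of candidate subgroups
  let P : Set (Subgroup E) := {F | ∃ v : V, v ≠ 0 ∧ (∀ k ∈ F, ρ (k : Γ) v = v) ∧ v + ρ a v + ρ (a * a) v = 0}
  have hbot : (⊥ : Subgroup E) ∈ P := by
    refine ⟨w + ρ a w, ?_, ?_, ?_⟩
    · intro h
      exact haw (eq_of_add_eq_zero h).symm
    · intro k hk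
      rw [Subgroup.mem_bot] at hk
      rw [hk, Subgroup.coe_one, rho_one]
    · have h3 : ρ (a * a) (ρ a w) = w := by rw [← rho_mul, hE.cube a ha, rho_one]
      rw [map_add, map_add, h3, rho_mul]
      calc w + ρ a w + (ρ a w + ρ a (ρ a w)) + (ρ a (ρ a w) + w)
          = (w + w) + (ρ a w + ρ a w) + (ρ a (ρ a w) + ρ a (ρ a w)) := by abel
        _ = 0 := by simp only [add_self]
  obtain ⟨F, hF⟩ := (Set.toFinite P).exists_maximal ⟨⊥, hbot⟩
  obtain ⟨v, hv0, hvF, hva⟩ := hF.1
  have hmax : ∀ x : E, (∃ u : V, u ≠ 0 ∧ (∀ k ∈ F, ρ (k : Γ) u = u) ∧ ρ (x : Γ) u = u ∧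
      u + ρ a u + ρ (a * a) u = 0) → x ∈ F := by
    rintro x ⟨u, hu0, huF, hux, hua⟩
    have hmem : F ⊔ Subgroup.zpowers x ∈ P := by
      refine ⟨u, hu0, ?_, hua⟩
      let S : Subgroup E :=
        { carrier := {k : E | ρ (k : Γ) u = u}
          mul_mem' := fun {p q} hp hq => by
            simp only [Set.mem_ofPred_eq] at hp hq ⊢
            rw [Subgroup.coe_mul, rho_mul, hq, hp]
          one_mem' := by
            simp only [Set.mem_ofPred_eq]
            rw [Subgroup.coe_one, rho_one]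
          inv_mem' := fun {p} hp => by
            simp only [Set.mem_ofPred_eq] at hp ⊢
            have := rho_inv ρ (p : Γ) u
            rw [hp] at this
            exact this }
      have hle : F ⊔ Subgroup.zpowers x ≤ S := by
        rw [sup_le_iff]
        refine ⟨fun k hk => huF k hk, ?_⟩
        rw [Subgroup.zpowers_le]
        exact hux
      intro k hk
      exact hle hk
    have := hF.2 hmem le_sup_left
    exact this (Subgroup.mem_sup_right (Subgroup.mem_zpowers x))
  have haF : (⟨a, ha⟩ : E) ∉ F := by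
    intro h
    have h1 := hvF _ h
    simp only at h1
    rw [rho_mul, h1, h1, add_self, zero_add] at hva
    exact hv0 hva
  -- covering for `a`
  have hcov : ∀ b : E, b ∈ F ∨ (⟨a, ha⟩ : E) * b ∈ F ∨ (⟨a, ha⟩ : E)⁻¹ * b ∈ F := by
    intro b
    have hp := proj_sum hE ha b.2 hva
    have key : ∀ x : E, v + ρ (x : Γ) v + ρ ((x : Γ) * x) v ≠ 0 → x ∈ F := by
      intro x hx
      apply hmax x
      refine ⟨_, hx, ?_, ?_, ?_⟩
      · intro k hk
        rw [map_add, map_add, ← rho_mul, ← rho_mul, hE.comm k k.2 x x.2, hE.comm k k.2 _ (E.mul_mem x.2 x.2),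
          rho_mul ρ (x : Γ) k, rho_mul ρ ((x : Γ) * x) k, hvF k hk]
      · rw [map_add, map_add, ← rho_mul, ← rho_mul, ← mul_assoc, hE.cube x x.2, rho_one]
        abel
      · have hc : ∀ e ∈ E, ρ e (v + ρ (x : Γ) v + ρ ((x : Γ) * x) v) =
            ρ e v + ρ (x : Γ) (ρ e v) + ρ ((x : Γ) * x) (ρ e v) := by
          intro e he
          rw [map_add, map_add, ← rho_mul, ← rho_mul, ← rho_mul, ← rho_mul, hE.comm e he x x.2,
            hE.comm e he _ (E.mul_mem x.2 x.2)]
        rw [hc a ha, hc _ (E.mul_mem ha ha)]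
        calc _ = (v + ρ a v + ρ (a * a) v) + ρ (x : Γ) (v + ρ a v + ρ (a * a) v) +
              ρ ((x : Γ) * x) (v + ρ a v + ρ (a * a) v) := by simp only [map_add]; abel
          _ = 0 := by rw [hva, map_zero, map_zero, add_zero, add_zero]
    by_cases h1 : v + ρ (b : Γ) v + ρ ((b : Γ) * b) v = 0
    · by_cases h2 : v + ρ (a * b) v + ρ (a * b * (a * b)) v = 0
      · rw [h1, h2, zero_add, zero_add] at hp
        right; right
        apply key
        intro h3
        exact hv0 (hp.symm.trans h3)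
      · right; left
        exact key (⟨a, ha⟩ * b) h2
    · left
      exact key b h1
  have hmapE : F.map E.subtype ≤ E := by
    rintro _ ⟨k, _, rfl⟩
    exact k.2
  have hmem : ∀ x (hx : x ∈ E), x ∈ F.map E.subtype ↔ (⟨x, hx⟩ : E) ∈ F := by
    intro x hx
    constructor
    · rintro ⟨k, hk, rfl⟩
      exact hk
    · intro h
      exact ⟨_, h, rfl⟩
  have hyper : Hyper E (F.map E.subtype) := by
    refine ⟨hmapE, ⟨a, ha, fun h => haF ((hmem a ha).mp h)⟩, ?_⟩
    intro c hc hcF b hb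
    have hcF' : (⟨c, hc⟩ : E) ∉ F := fun h => hcF ((hmem c hc).mpr h)
    have hcm : ∀ x y : E, x * y = y * x := fun x y => Subtype.ext (hE.comm x x.2 y y.2)
    have h3 : ∀ x : E, x * x = x⁻¹ := fun x => Subtype.ext (hE.sq x.2)
    have key : (⟨b, hb⟩ : E) ∈ F ∨ (⟨c, hc⟩ : E) * ⟨b, hb⟩ ∈ F ∨ (⟨c, hc⟩ : E)⁻¹ * ⟨b, hb⟩ ∈ F := by
      generalize (⟨c, hc⟩ : E) = c' at hcF'
      generalize (⟨b, hb⟩ : E) = b'
      generalize (⟨a, ha⟩ : E) = a' at hcov haF
      have comb : ∀ {x y : E}, x ∈ F → y ∈ F → x * y ∈ F := fun hx hy => F.mul_mem hx hy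
      have cbi : ∀ {x y : E}, x ∈ F → y ∈ F → x * y⁻¹ ∈ F := fun hx hy => F.mul_mem hx (F.inv_mem hy)
      rcases hcov b' with hb1 | hb1 | hb1
      · exact Or.inl hb1
      · rcases hcov c' with hc1 | hc1 | hc1
        · exact absurd hc1 hcF'
        · right; right
          have := cbi hb1 hc1
          rwa [mul_inv_rev, show a' * b' * (c'⁻¹ * a'⁻¹) = c'⁻¹ * b' by
            rw [hcm c'⁻¹ a'⁻¹, hcm a' b', mul_assoc, mul_inv_cancel_left, hcm]] at this
        · right; left
          have := comb hb1 hc1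
          rwa [show a' * b' * (a'⁻¹ * c') = c' * b' by
            rw [hcm a' b', mul_assoc, mul_inv_cancel_left, hcm]] at this
      · rcases hcov c' with hc1 | hc1 | hc1
        · exact absurd hc1 hcF'
        · right; left
          have := comb hb1 hc1
          rwa [show a'⁻¹ * b' * (a' * c') = c' * b' by
            rw [hcm a'⁻¹ b', mul_assoc, inv_mul_cancel_left, hcm]] at this
        · right; right
          have := cbi hb1 hc1
          rwa [mul_inv_rev, inv_inv, show a'⁻¹ * b' * (c'⁻¹ * a') = c'⁻¹ * b' by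
            rw [hcm c'⁻¹ a', hcm a'⁻¹ b', mul_assoc, inv_mul_cancel_left, hcm]] at this
    rcases key with h | h | h
    · exact Or.inl ((hmem _ _).mpr h)
    · exact Or.inr (Or.inl ((hmem _ (E.mul_mem hc hb)).mpr h))
    · exact Or.inr (Or.inr ((hmem _ (E.mul_mem (E.inv_mem hc) hb)).mpr h))
  refine ⟨F.map E.subtype, hyper, v, ?_, hv0⟩
  refine mem_VK_of hE hyper ha (fun h => haF ((hmem a ha).mp h)) ?_ hva
  rintro _ ⟨k, hk, rfl⟩
  exact hvF k hk

end rep

/-! ### Conjugation -/

/-- the conjugate `x K x⁻¹` -/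
def cj (x : Γ) (K : Subgroup Γ) : Subgroup Γ where
  carrier := {k | x⁻¹ * k * x ∈ K}
  mul_mem' := fun {p q} hp hq => by
    simp only [Set.mem_ofPred_eq] at hp hq ⊢
    have := K.mul_mem hp hq
    rwa [show x⁻¹ * p * x * (x⁻¹ * q * x) = x⁻¹ * (p * q) * x by group] at this
  one_mem' := by
    simp only [Set.mem_ofPred_eq]
    rw [mul_one, inv_mul_cancel]
    exact K.one_mem
  inv_mem' := fun {p} hp => by
    simp only [Set.mem_ofPred_eq] at hp ⊢
    have := K.inv_mem hp
    rwa [show (x⁻¹ * p * x)⁻¹ = x⁻¹ * p⁻¹ * x by group] at this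

theorem mem_cj {x : Γ} {K : Subgroup Γ} {k : Γ} : k ∈ cj x K ↔ x⁻¹ * k * x ∈ K := Iff.rfl

theorem mem_cj' {x : Γ} {K : Subgroup Γ} {k : Γ} (hk : k ∈ K) : x * k * x⁻¹ ∈ cj x K := by
  rw [mem_cj, show x⁻¹ * (x * k * x⁻¹) * x = k by group]
  exact hk

theorem Hyper.cj {E K : Subgroup Γ} (hK : Hyper E K) {x : Γ} (hx : ModAbs.cj x E = E) :
    Hyper E (ModAbs.cj x K) := by
  have hin : ∀ {e : Γ}, e ∈ E → x⁻¹ * e * x ∈ E := fun {e} he => by
    rw [← hx] at he; exact he
  refine ⟨?_, ?_, ?_⟩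
  · intro k hk
    rw [← hx]
    exact hK.le hk
  · obtain ⟨a, ha, haK⟩ := hK.ne
    refine ⟨x * a * x⁻¹, ?_, ?_⟩
    · rw [← hx]; exact mem_cj' ha
    · rw [mem_cj, show x⁻¹ * (x * a * x⁻¹) * x = a by group]
      exact haK
  · intro a ha haK b hb
    rcases hK.cov _ (hin ha) haK _ (hin hb) with h | h | h
    · exact Or.inl h
    · right; left
      rwa [mem_cj, show x⁻¹ * (a * b) * x = x⁻¹ * a * x * (x⁻¹ * b * x) by group]
    · right; right
      rwa [mem_cj, show x⁻¹ * (a⁻¹ * b) * x = (x⁻¹ * a * x)⁻¹ * (x⁻¹ * b * x) by group]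

section rep

variable {V : Type*} [AddCommGroup V] [Module (ZMod 2) V] {ρ : Representation (ZMod 2) Γ V}

theorem VK.cj {E K : Subgroup Γ} {x : Γ} (hx : ModAbs.cj x E = E) {v : V} (hv : v ∈ VK ρ E K) :
    ρ x v ∈ VK ρ E (ModAbs.cj x K) := by
  refine ⟨fun k hk => ?_, fun e he heK => ?_⟩
  · have h := hv.1 _ (mem_cj.mp hk)
    have h2 : ρ k (ρ x v) = ρ x (ρ (x⁻¹ * k * x) v) := by
      rw [← rho_mul, ← rho_mul]; congr 2; group
    rw [h2, h]
  · have he' : x⁻¹ * e * x ∈ E := by rw [← hx] at he; exact he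
    have h := hv.2 _ he' heK
    have h2 : ρ e (ρ x v) = ρ x (ρ (x⁻¹ * e * x) v) := by
      rw [← rho_mul, ← rho_mul]; congr 2; group
    have h3 : ρ (e * e) (ρ x v) = ρ x (ρ (x⁻¹ * e * x * (x⁻¹ * e * x)) v) := by
      rw [← rho_mul, ← rho_mul]; congr 2; group
    rw [h2, h3, ← map_add, ← map_add, h, map_zero]

end rep

/-- The group-theoretic data. -/
structure Setup (Γ : Type*) [Group Γ] (n : ℕ) where
  /-- the elementary abelian 3-group -/
  E : Subgroup Γ
  hE : Elem E
  /-- an involution inverting `E` -/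
  j : Γ
  jj : j * j = 1
  inv : ∀ e ∈ E, j * e * j = e⁻¹
  /-- the small orbit of hyperplanes -/
  H : Fin n → Subgroup Γ
  hyp : ∀ i, Hyper E (H i)
  inj : Function.Injective H
  tr : ∀ i k, ∃ x, cj x E = E ∧ cj x (H i) = H k
  other : ∀ K, Hyper E K → (∃ i, K = H i) ∨
    ∃ c : Fin (n + 1) → Γ, (∀ i, cj (c i) E = E) ∧ Function.Injective fun i => cj (c i) K

namespace Setup

variable {n : ℕ} (D : Setup Γ n)

/-- the part of the normaliser of `E` in which `φ` is automatically equivariant -/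
def M : Set Γ := {x | cj x D.E = D.E ∧ D.j * x * D.j * x⁻¹ ∈ D.E}

theorem jinv : D.j⁻¹ = D.j := inv_eq_of_mul_eq_one_left D.jj

/-- `j` normalises every subgroup of `E` -/
theorem cj_j {K : Subgroup Γ} (hK : K ≤ D.E) : cj D.j K = K := by
  ext k
  rw [mem_cj, D.jinv]
  constructor
  · intro h
    have h1 := D.inv _ (hK h)
    rw [show D.j * (D.j * k * D.j) * D.j = (D.j * D.j) * k * (D.j * D.j) by group, D.jj, one_mul, mul_one] at h1
    rw [h1]
    exact K.inv_mem h
  · intro h
    rw [D.inv k (hK h)]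
    exact K.inv_mem h

/-- an element of `E` outside `H i` -/
noncomputable def a (i : Fin n) : Γ := (D.hyp i).ne.choose

theorem a_mem (i : Fin n) : D.a i ∈ D.E := (D.hyp i).ne.choose_spec.1

theorem a_not (i : Fin n) : D.a i ∉ D.H i := (D.hyp i).ne.choose_spec.2

end Setup

section rep

variable {n : ℕ} (D : Setup Γ n) {V : Type*} [AddCommGroup V] [Module (ZMod 2) V]

/-- the hypotheses on the module -/
structure Good (ρ : Representation (ZMod 2) Γ V) : Prop where
  card : Nat.card V = 4 ^ n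
  nontriv : ∃ e ∈ D.E, ∃ v, ρ e v ≠ v

variable {D} {ρ : Representation (ZMod 2) Γ V}

theorem Good.finite (hG : Good D ρ) : Finite V :=
  Nat.finite_of_card_ne_zero (by rw [hG.card]; positivity)

/-- a hyperplane with nonzero part is one of the `H i` -/
theorem Good.isH (hG : Good D ρ) {K : Subgroup Γ} (hK : Hyper D.E K) {v : V} (hv : v ∈ VK ρ D.E K) (h0 : v ≠ 0) :
    ∃ i, K = D.H i := by
  have := hG.finite
  rcases D.other K hK with h | ⟨c, hc, hinj⟩
  · exact h
  · exfalso
    have h1 := card_ge (ρ := ρ) D.hE (fun i => cj (c i) K) (fun i => hK.cj (hc i)) hinj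
      (fun i => ⟨_, VK.cj (hc i) hv, fun h => h0 (rho_inj ρ (c i) (by rw [h, map_zero]))⟩)
    rw [hG.card, Fintype.card_fin] at h1
    exact absurd h1 (not_le.mpr (Nat.pow_lt_pow_right (by norm_num) (Nat.lt_succ_self n)))

theorem Good.ne_bot (hG : Good D ρ) (i : Fin n) : ∃ v ∈ VK ρ D.E (D.H i), v ≠ 0 := by
  obtain ⟨e, he, w, hw⟩ := hG.nontriv
  obtain ⟨K, hK, v, hv, h0⟩ := exists_hyper D.hE he hw
  obtain ⟨l, rfl⟩ := hG.isH hK hv h0
  obtain ⟨x, hx, hxl⟩ := D.tr l i
  refine ⟨ρ x v, ?_, fun h => h0 (rho_inj ρ x (by rw [h, map_zero]))⟩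
  rw [← hxl]
  exact VK.cj hx hv

theorem Good.card_part (hG : Good D ρ) (i : Fin n) : Nat.card (VK ρ D.E (D.H i)) = 4 := by
  have := hG.finite
  have h1 := Nat.card_le_card_of_injective _ (indep' (ρ := ρ) D.hE D.H D.hyp D.inj)
  rw [Nat.card_pi, hG.card] at h1
  have h4 : ∀ i, 4 ≤ Nat.card (VK ρ D.E (D.H i)) := by
    intro i
    obtain ⟨v, hv, h0⟩ := hG.ne_bot i
    exact four_le D.hE (D.hyp i) hv h0
  by_contra hne
  have hlt : 4 < Nat.card (VK ρ D.E (D.H i)) := lt_of_le_of_ne (h4 i) (Ne.symm hne)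
  have h2 : ∏ _i : Fin n, 4 < ∏ i : Fin n, Nat.card (VK ρ D.E (D.H i)) :=
    Finset.prod_lt_prod (fun _ _ => by norm_num) (fun i _ => h4 i) ⟨i, mem_univ _, hlt⟩
  rw [Finset.prod_const, Finset.card_univ, Fintype.card_fin] at h2
  exact absurd h1 (not_le.mpr h2)

theorem Good.bij (hG : Good D ρ) :
    Function.Bijective (fun v : (i : Fin n) → VK ρ D.E (D.H i) => ∑ i, (v i : V)) := by
  have := hG.finite
  rw [Nat.bijective_iff_injective_and_card]
  refine ⟨indep' (ρ := ρ) D.hE D.H D.hyp D.inj, ?_⟩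
  rw [Nat.card_pi, hG.card, Finset.prod_congr rfl (fun i _ => hG.card_part i), Finset.prod_const, Finset.card_univ,
    Fintype.card_fin]

/-- the elements of the part of `H i` -/
theorem Good.cases (hG : Good D ρ) {i : Fin n} {v w : V} (hv : v ∈ VK ρ D.E (D.H i)) (h0 : v ≠ 0)
    {a : Γ} (ha : a ∈ D.E) (haK : a ∉ D.H i)
    (hw : w ∈ VK ρ D.E (D.H i)) : w = 0 ∨ w = v ∨ w = ρ a v ∨ w = ρ a⁻¹ v := by
  have := hG.finite
  have hb : Function.Bijective (![0, ⟨v, hv⟩, ⟨ρ a v, VK.rho_mem D.hE (D.hyp i) hv ha⟩,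
      ⟨ρ a⁻¹ v, VK.rho_mem D.hE (D.hyp i) hv (D.E.inv_mem ha)⟩] : Fin 4 → VK ρ D.E (D.H i)) := by
    rw [Nat.bijective_iff_injective_and_card]
    refine ⟨quad_inj D.hE (D.hyp i) hv h0 ha haK, ?_⟩
    rw [hG.card_part i, Nat.card_eq_fintype_card, Fintype.card_fin]
  obtain ⟨k, hk⟩ := hb.2 ⟨w, hw⟩
  have hk' := (congrArg Subtype.val hk).symm
  fin_cases k
  · exact Or.inl hk'
  · exact Or.inr (Or.inl hk')
  · exact Or.inr (Or.inr (Or.inl hk'))
  · exact Or.inr (Or.inr (Or.inr hk'))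

/-- every part contains a nonzero vector fixed by `j` -/
theorem Good.exists_fix (hG : Good D ρ) (i : Fin n) : ∃ v ∈ VK ρ D.E (D.H i), v ≠ 0 ∧ ρ D.j v = v := by
  obtain ⟨v, hv, h0⟩ := hG.ne_bot i
  by_cases h : ρ D.j v = v
  · exact ⟨v, hv, h0, h⟩
  · have hj : ρ D.j v ∈ VK ρ D.E (D.H i) := by
      have := VK.cj (D.cj_j le_rfl) hv
      rwa [D.cj_j (D.hyp i).le] at this
    refine ⟨v + ρ D.j v, (VK ρ D.E (D.H i)).add_mem hv hj, fun h1 => h (eq_of_add_eq_zero h1).symm, ?_⟩
    rw [map_add, ← rho_mul, D.jj, rho_one, add_comm]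

/-- the fixed vector of `j` in the part of `H i` -/
noncomputable def Good.v (hG : Good D ρ) (i : Fin n) : V := (hG.exists_fix i).choose

theorem Good.v_mem (hG : Good D ρ) (i : Fin n) : hG.v i ∈ VK ρ D.E (D.H i) := (hG.exists_fix i).choose_spec.1

theorem Good.v_ne (hG : Good D ρ) (i : Fin n) : hG.v i ≠ 0 := (hG.exists_fix i).choose_spec.2.1

theorem Good.j_v (hG : Good D ρ) (i : Fin n) : ρ D.j (hG.v i) = hG.v i := (hG.exists_fix i).choose_spec.2.2

theorem rho_j (e : Γ) (he : e ∈ D.E) (v : V) : ρ D.j (ρ e v) = ρ e⁻¹ (ρ D.j v) := by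
  rw [← rho_mul, ← rho_mul, ← D.inv e he, mul_assoc (D.j * e), D.jj, mul_one]

theorem Good.fix_unique (hG : Good D ρ) {i : Fin n} {w : V} (hw : w ∈ VK ρ D.E (D.H i)) (h0 : w ≠ 0)
    (hj : ρ D.j w = w) : w = hG.v i := by
  have ha := D.a_mem i
  have haK := D.a_not i
  have key : ∀ e ∈ D.E, e ∉ D.H i → w ≠ ρ e (hG.v i) := by
    intro e he heK h
    have h1 : ρ e⁻¹ (hG.v i) = ρ e (hG.v i) := by
      rw [← h, ← hj, h, rho_j e he, hG.j_v i]
    have h2 : ρ e (ρ e (hG.v i)) = hG.v i := by rw [← h1, rho_inv']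
    have h3 := (hG.v_mem i).2 e he heK
    rw [rho_mul, h2] at h3
    have h4 : ρ e (hG.v i) = 0 := by
      calc ρ e (hG.v i) = hG.v i + ρ e (hG.v i) + hG.v i := by
            rw [add_comm (hG.v i), add_assoc, add_self, add_zero]
        _ = 0 := h3
    exact hG.v_ne i (rho_inj ρ e (by rw [h4, map_zero]))
  rcases hG.cases (hG.v_mem i) (hG.v_ne i) ha haK hw with h | h | h | h
  · exact absurd h h0
  · exact h
  · exact absurd h (key _ ha haK)
  · exact absurd h (key _ (D.E.inv_mem ha) (fun h' => haK (by simpa using (D.H i).inv_mem h')))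

/-- the key formula -/
theorem Good.rho_v (hG : Good D ρ) {x : Γ} (hx : x ∈ D.M) {i k : Fin n} (hik : cj x (D.H i) = D.H k) :
    ρ x (hG.v i) = ρ (D.j * x * D.j * x⁻¹) (hG.v k) := by
  obtain ⟨hx1, he⟩ := hx
  set e := D.j * x * D.j * x⁻¹ with hedef
  have hmem : ρ x (hG.v i) ∈ VK ρ D.E (D.H k) := by
    rw [← hik]
    exact VK.cj hx1 (hG.v_mem i)
  have hjx : ρ D.j (ρ x (hG.v i)) = ρ e (ρ x (hG.v i)) := by
    calc ρ D.j (ρ x (hG.v i)) = ρ (D.j * x) (hG.v i) := by rw [rho_mul]
      _ = ρ (D.j * x) (ρ D.j (hG.v i)) := by rw [hG.j_v i]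
      _ = ρ e (ρ x (hG.v i)) := by
        rw [← rho_mul, ← rho_mul, hedef, inv_mul_cancel_right]
  have hfix : ρ e⁻¹ (ρ x (hG.v i)) = hG.v k := by
    apply hG.fix_unique (VK.rho_mem D.hE (D.hyp k) hmem (D.E.inv_mem he))
    · intro h
      exact hG.v_ne i (rho_inj ρ x (rho_inj ρ e⁻¹ (by rw [h, map_zero, map_zero])))
    · rw [rho_j _ (D.E.inv_mem he), hjx, inv_inv, ← rho_mul, D.hE.sq he]
  rw [← hfix, rho_inv']

/-- elements of the normaliser permute the `H i` -/
theorem Good.perm (hG : Good D ρ) {x : Γ} (hx : cj x D.E = D.E) (i : Fin n) : ∃ k, cj x (D.H i) = D.H k :=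
  hG.isH ((D.hyp i).cj hx) (VK.cj hx (hG.v_mem i)) (fun h => hG.v_ne i (rho_inj ρ x (by rw [h, map_zero])))

/-! ### The isomorphism -/

/-- coordinates with respect to `v i`, `a i v i` -/
noncomputable def Good.coord (hG : Good D ρ) : (Fin n → ZMod 2 × ZMod 2) →ₗ[ZMod 2] V where
  toFun c := ∑ i, ((c i).1 • hG.v i + (c i).2 • ρ (D.a i) (hG.v i))
  map_add' c d := by
    rw [← Finset.sum_add_distrib]
    refine Finset.sum_congr rfl fun i _ => ?_
    rw [Pi.add_apply, Prod.fst_add, Prod.snd_add, add_smul, add_smul]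
    abel
  map_smul' r c := by
    rw [RingHom.id_apply, Finset.smul_sum]
    refine Finset.sum_congr rfl fun i _ => ?_
    rw [Pi.smul_apply, Prod.smul_fst, Prod.smul_snd, smul_add, smul_smul, smul_smul, smul_eq_mul, smul_eq_mul]

theorem Good.coord_apply (hG : Good D ρ) (c : Fin n → ZMod 2 × ZMod 2) :
    hG.coord c = ∑ i, ((c i).1 • hG.v i + (c i).2 • ρ (D.a i) (hG.v i)) := rfl

theorem Good.coord_bij (hG : Good D ρ) : Function.Bijective hG.coord := by
  have := hG.finite
  rw [Nat.bijective_iff_injective_and_card]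
  constructor
  · rw [← LinearMap.ker_eq_bot, LinearMap.ker_eq_bot']
    intro c hc
    have h1 := indep (ρ := ρ) D.hE D.H D.hyp D.inj
      (fun i => (c i).1 • hG.v i + (c i).2 • ρ (D.a i) (hG.v i))
      (fun i => (VK ρ D.E (D.H i)).add_mem ((VK ρ D.E (D.H i)).smul_mem _ (hG.v_mem i))
        ((VK ρ D.E (D.H i)).smul_mem _ (VK.rho_mem D.hE (D.hyp i) (hG.v_mem i) (D.a_mem i)))) hc
    funext i
    have h2 := h1 i
    have hz : ∀ r : ZMod 2, r = 0 ∨ r = 1 := by decide
    rcases hz (c i).1 with h3 | h3 <;> rcases hz (c i).2 with h4 | h4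
    · exact Prod.ext h3 h4
    · exfalso
      simp only [h3, h4, zero_smul, one_smul, zero_add] at h2
      exact hG.v_ne i (rho_inj ρ (D.a i) (by rw [h2, map_zero]))
    · exfalso
      simp only [h3, h4, zero_smul, one_smul, add_zero] at h2
      exact hG.v_ne i h2
    · exfalso
      simp only [h3, h4, one_smul] at h2
      exact VK.ne (hG.v_mem i) (hG.v_ne i) (D.a_mem i) (D.a_not i) (eq_of_add_eq_zero h2).symm
  · rw [hG.card, Nat.card_fun, Nat.card_prod, Nat.card_zmod, Nat.card_eq_fintype_card (α := Fin n), Fintype.card_fin]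

/-- coordinates as an equivalence -/
noncomputable def Good.coordE (hG : Good D ρ) : (Fin n → ZMod 2 × ZMod 2) ≃ₗ[ZMod 2] V :=
  LinearEquiv.ofBijective hG.coord hG.coord_bij

theorem Good.coordE_v (hG : Good D ρ) (i : Fin n) : hG.coordE (Pi.single i (1, 0)) = hG.v i := by
  change hG.coord _ = _
  rw [hG.coord_apply, Finset.sum_eq_single i]
  · rw [Pi.single_eq_same, one_smul, zero_smul, add_zero]
  · intro k _ hk
    rw [Pi.single_eq_of_ne hk, Prod.fst_zero, Prod.snd_zero, zero_smul, zero_smul, add_zero]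
  · intro h
    exact absurd (mem_univ _) h

theorem Good.coordE_av (hG : Good D ρ) (i : Fin n) : hG.coordE (Pi.single i (0, 1)) = ρ (D.a i) (hG.v i) := by
  change hG.coord _ = _
  rw [hG.coord_apply, Finset.sum_eq_single i]
  · rw [Pi.single_eq_same, one_smul, zero_smul, zero_add]
  · intro k _ hk
    rw [Pi.single_eq_of_ne hk, Prod.fst_zero, Prod.snd_zero, zero_smul, zero_smul, add_zero]
  · intro h
    exact absurd (mem_univ _) h

/-- the action of `E` on `v i` in terms of `a i` -/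
theorem Good.cov (hG : Good D ρ) {e : Γ} (he : e ∈ D.E) (i : Fin n) :
    (e ∈ D.H i ∧ ρ e (hG.v i) = hG.v i) ∨
    (D.a i * e ∈ D.H i ∧ ρ e (hG.v i) = hG.v i + ρ (D.a i) (hG.v i)) ∨
    ((D.a i)⁻¹ * e ∈ D.H i ∧ ρ e (hG.v i) = ρ (D.a i) (hG.v i)) := by
  have hv := hG.v_mem i
  rcases (D.hyp i).cov _ (D.a_mem i) (D.a_not i) e he with h | h | h
  · exact Or.inl ⟨h, hv.1 e h⟩
  · refine Or.inr (Or.inl ⟨h, ?_⟩)
    rw [← VK.inv D.hE hv (D.a_mem i) (D.a_not i)]
    have : ρ (D.a i)⁻¹ (ρ (D.a i * e) (hG.v i)) = ρ e (hG.v i) := by rw [← rho_mul]; congr 2; group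
    rw [← this, hv.1 _ h]
  · refine Or.inr (Or.inr ⟨h, ?_⟩)
    have : ρ (D.a i) (ρ ((D.a i)⁻¹ * e) (hG.v i)) = ρ e (hG.v i) := by rw [← rho_mul]; congr 2; group
    rw [← this, hv.1 _ h]

end rep

section two

variable {n : ℕ} {D : Setup Γ n} {V₀ V : Type*} [AddCommGroup V₀] [Module (ZMod 2) V₀] [AddCommGroup V]
  [Module (ZMod 2) V] {ρ₀ : Representation (ZMod 2) Γ V₀} {ρ : Representation (ZMod 2) Γ V}

/-- the isomorphism of two good modules -/
noncomputable def iso (h₀ : Good D ρ₀) (h : Good D ρ) : V₀ ≃ₗ[ZMod 2] V := h₀.coordE.symm.trans h.coordE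

theorem iso_v (h₀ : Good D ρ₀) (h : Good D ρ) (i : Fin n) : iso h₀ h (h₀.v i) = h.v i := by
  rw [iso, LinearEquiv.trans_apply, ← h₀.coordE_v i, LinearEquiv.symm_apply_apply, h.coordE_v]

theorem iso_av (h₀ : Good D ρ₀) (h : Good D ρ) (i : Fin n) :
    iso h₀ h (ρ₀ (D.a i) (h₀.v i)) = ρ (D.a i) (h.v i) := by
  rw [iso, LinearEquiv.trans_apply, ← h₀.coordE_av i, LinearEquiv.symm_apply_apply, h.coordE_av]

theorem iso_E (h₀ : Good D ρ₀) (h : Good D ρ) {e : Γ} (he : e ∈ D.E) (i : Fin n) :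
    iso h₀ h (ρ₀ e (h₀.v i)) = ρ e (h.v i) := by
  rcases h₀.cov he i with ⟨hK, h1⟩ | ⟨hK, h1⟩ | ⟨hK, h1⟩
  · rw [h1, iso_v, (h.v_mem i).1 e hK]
  · rw [h1, map_add, iso_v, iso_av, ← VK.inv D.hE (h.v_mem i) (D.a_mem i) (D.a_not i)]
    have : ρ (D.a i)⁻¹ (ρ (D.a i * e) (h.v i)) = ρ e (h.v i) := by rw [← rho_mul]; congr 2; group
    rw [← this, (h.v_mem i).1 _ hK]
  · rw [h1, iso_av]
    have : ρ (D.a i) (ρ ((D.a i)⁻¹ * e) (h.v i)) = ρ e (h.v i) := by rw [← rho_mul]; congr 2; group
    rw [← this, (h.v_mem i).1 _ hK]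

/-- two linear maps agreeing on all `v i`, `a i v i` are equal -/
theorem Good.ext (h₀ : Good D ρ₀) {f g : V₀ →ₗ[ZMod 2] V} (h1 : ∀ i, ∀ e ∈ D.E, f (ρ₀ e (h₀.v i)) = g (ρ₀ e (h₀.v i))) :
    ∀ v, f v = g v := by
  intro v
  obtain ⟨c, rfl⟩ := h₀.coord_bij.2 v
  have h1' : ∀ i, f (h₀.v i) = g (h₀.v i) := by
    intro i
    have := h1 i 1 D.E.one_mem
    rwa [rho_one] at this
  rw [h₀.coord_apply, map_sum, map_sum]
  refine Finset.sum_congr rfl fun i _ => ?_
  rw [map_add, map_add, map_smul, map_smul, map_smul, map_smul, h1' i, h1 i _ (D.a_mem i)]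

/-- `iso` commutes with `M` -/
theorem iso_M (h₀ : Good D ρ₀) (h : Good D ρ) {x : Γ} (hx : x ∈ D.M) (v : V₀) :
    iso h₀ h (ρ₀ x v) = ρ x (iso h₀ h v) := by
  have hx1 := hx.1
  have key : ∀ i, ∀ e ∈ D.E, ((iso h₀ h).toLinearMap.comp (ρ₀ x)) (ρ₀ e (h₀.v i)) =
      ((ρ x).comp (iso h₀ h).toLinearMap) (ρ₀ e (h₀.v i)) := by
    intro i e he
    obtain ⟨k, hk⟩ := h₀.perm hx1 i
    rw [LinearMap.comp_apply, LinearMap.comp_apply, LinearEquiv.coe_coe, iso_E h₀ h he]
    have hxe : x * e * x⁻¹ ∈ D.E := by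
      rw [← hx1]; exact mem_cj' he
    have e1 : ρ₀ x (ρ₀ e (h₀.v i)) = ρ₀ (x * e * x⁻¹ * (D.j * x * D.j * x⁻¹)) (h₀.v k) := by
      rw [rho_mul ρ₀ (x * e * x⁻¹), ← h₀.rho_v hx hk, ← rho_mul, ← rho_mul, inv_mul_cancel_right]
    have e2 : ρ x (ρ e (h.v i)) = ρ (x * e * x⁻¹ * (D.j * x * D.j * x⁻¹)) (h.v k) := by
      rw [rho_mul ρ (x * e * x⁻¹), ← h.rho_v hx hk, ← rho_mul, ← rho_mul, inv_mul_cancel_right]
    rw [e1, e2, iso_E h₀ h (D.E.mul_mem hxe hx.2)]
  exact h₀.ext key v

/-- `iso` commutes with a further element `x`, if the common commutant is trivial -/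
theorem iso_ext (h₀ : Good D ρ₀) (h : Good D ρ) (x : Γ)
    (hc : ∀ c : V₀ ≃ₗ[ZMod 2] V₀, (∀ y ∈ D.M, x⁻¹ * y * x ∈ D.M → ∀ v, c (ρ₀ y v) = ρ₀ y (c v)) → ∀ v, c v = v) (v : V₀) :
    iso h₀ h (ρ₀ x v) = ρ x (iso h₀ h v) := by
  let R₀ : V₀ ≃ₗ[ZMod 2] V₀ := LinearEquiv.ofLinearMap (ρ₀ x) (ρ₀ x⁻¹)
    (LinearMap.ext fun v => rho_inv' ρ₀ x v) (LinearMap.ext fun v => rho_inv ρ₀ x v)
  let R : V ≃ₗ[ZMod 2] V := LinearEquiv.ofLinearMap (ρ x) (ρ x⁻¹)
    (LinearMap.ext fun v => rho_inv' ρ x v) (LinearMap.ext fun v => rho_inv ρ x v)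
  let c : V₀ ≃ₗ[ZMod 2] V₀ := ((R₀.symm.trans (iso h₀ h)).trans R).trans (iso h₀ h).symm
  have hc1 : ∀ v, c v = (iso h₀ h).symm (ρ x (iso h₀ h (ρ₀ x⁻¹ v))) := fun v => rfl
  have hcv := hc c (fun y hy hyx w => by
    rw [hc1, hc1, LinearEquiv.symm_apply_eq, iso_M h₀ h hy, LinearEquiv.apply_symm_apply]
    have e1 : ρ₀ x⁻¹ (ρ₀ y w) = ρ₀ (x⁻¹ * y * x) (ρ₀ x⁻¹ w) := by
      rw [← rho_mul, ← rho_mul]; congr 2; group
    rw [e1, iso_M h₀ h hyx, ← rho_mul, ← rho_mul]
    congr 2
    group)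
  have := hcv (ρ₀ x v)
  rw [hc1, rho_inv, LinearEquiv.symm_apply_eq] at this
  exact this.symm

/-- **Uniqueness of the module.** -/
theorem exists_iso (h₀ : Good D ρ₀) (h : Good D ρ) (x : Γ)
    (hc : ∀ c : V₀ ≃ₗ[ZMod 2] V₀, (∀ y ∈ D.M, x⁻¹ * y * x ∈ D.M → ∀ v, c (ρ₀ y v) = ρ₀ y (c v)) → ∀ v, c v = v)
    (htop : Subgroup.closure (insert x D.M) = ⊤) :
    ∃ f : V₀ ≃ₗ[ZMod 2] V, ∀ g v, f (ρ₀ g v) = ρ g (f v) := by
  refine ⟨iso h₀ h, fun g => ?_⟩
  have hg : g ∈ Subgroup.closure (insert x D.M) := by rw [htop]; exact Subgroup.mem_top g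
  induction hg using Subgroup.closure_induction with
  | mem y hy =>
    rcases Set.mem_insert_iff.mp hy with rfl | hy
    · exact iso_ext h₀ h _ hc
    · exact iso_M h₀ h hy
  | one => intro v; rw [rho_one, rho_one]
  | mul y z _ _ ihy ihz => intro v; rw [rho_mul, rho_mul, ihy, ihz]
  | inv y _ ih =>
    intro v
    apply rho_inj ρ y
    rw [← ih, rho_inv', rho_inv']

/-- A criterion for the trivial commutant: `w` is the only nonzero vector fixed by all of `S`, and its images span. -/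
theorem commutant_trivial (Y : Set Γ) (w : V₀) (hw : w ≠ 0)
    (hfix : ∀ v, (∀ y ∈ Y, ρ₀ y w = w → ρ₀ y v = v) → v = 0 ∨ v = w)
    (hspan : Submodule.span (ZMod 2) {v | ∃ g ∈ Submonoid.closure Y, v = ρ₀ g w} = ⊤)
    (c : V₀ ≃ₗ[ZMod 2] V₀) (hc : ∀ y ∈ Y, ∀ v, c (ρ₀ y v) = ρ₀ y (c v)) : ∀ v, c v = v := by
  have hcw : c w = w := by
    rcases hfix (c w) (fun y hy hyw => by rw [← hc y hy, hyw]) with h | h
    · exact absurd ((LinearEquiv.map_eq_zero_iff c).mp h) hw
    · exact h
  have hc' : ∀ g ∈ Submonoid.closure Y, ∀ v, c (ρ₀ g v) = ρ₀ g (c v) := by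
    intro g hg
    induction hg using Submonoid.closure_induction with
    | mem y hy => exact hc y hy
    | one => intro v; rw [rho_one, rho_one]
    | mul y z _ _ ihy ihz => intro v; rw [rho_mul, rho_mul, ihy, ihz]
  intro v
  have hv : v ∈ Submodule.span (ZMod 2) {v | ∃ g ∈ Submonoid.closure Y, v = ρ₀ g w} := by
    rw [hspan]; exact Submodule.mem_top
  induction hv using Submodule.span_induction with
  | mem v hv =>
    obtain ⟨g, hg, rfl⟩ := hv
    rw [hc' g hg, hcw]
  | zero => exact map_zero c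
  | add u v _ _ ihu ihv => rw [map_add, ihu, ihv]
  | smul r v _ ih => rw [map_smul, ih]

end two

end Cfsg.Agent.MonsterU.ModAbs
end

-- part: MonsterU/ModComm
section
/-!
# The commutant of an index 3 subgroup of `E` and `j`

Continuation of `ModAbs`: if `A ≤ E` separates the hyperplanes `H i` and `h⁻¹ A h`, `h⁻¹ j h` lie in `M`, then the
isomorphism of two good modules commutes with `h`.
-/

set_option autoImplicit false

namespace Cfsg.Agent.MonsterU.ModComm

open Finset Cfsg.Agent.MonsterU.ModAbs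

variable {Γ : Type*} [Group Γ] {n : ℕ}

theorem mem_of_cj_eq {x : Γ} {E : Subgroup Γ} (hx : cj x E = E) {e : Γ} (he : e ∈ E) : x * e * x⁻¹ ∈ E := by
  have h := mem_cj' (x := x) he
  rwa [hx] at h

theorem cj_mul (x y : Γ) (K : Subgroup Γ) : cj (x * y) K = cj x (cj y K) := by
  ext k
  rw [mem_cj, mem_cj, mem_cj, show (x * y)⁻¹ * k * (x * y) = y⁻¹ * (x⁻¹ * k * x) * y by group]

theorem cj_one (K : Subgroup Γ) : cj 1 K = K := by
  ext k
  rw [mem_cj, inv_one, one_mul, mul_one]

theorem cj_inv_eq {x : Γ} {K L : Subgroup Γ} (h : cj x K = L) : cj x⁻¹ L = K := by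
  rw [← h, ← cj_mul, inv_mul_cancel, cj_one]

/-- conjugation by `x` maps the finite group `E` into itself, hence onto itself -/
theorem cj_eq_of_le {E : Subgroup Γ} (hfin : Finite E) {x : Γ} (h : ∀ e ∈ E, x * e * x⁻¹ ∈ E) : cj x E = E := by
  have hsurj : Function.Surjective (fun e : E => (⟨x * e * x⁻¹, h e e.2⟩ : E)) := by
    apply Finite.injective_iff_surjective.mp
    intro a b hab
    have h1 : x * (a : Γ) * x⁻¹ = x * (b : Γ) * x⁻¹ := congrArg Subtype.val hab
    exact Subtype.ext (mul_left_cancel (mul_right_cancel h1))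
  apply le_antisymm
  · intro k hk
    have h1 := h _ (mem_cj.mp hk)
    rwa [show x * (x⁻¹ * k * x) * x⁻¹ = k by group] at h1
  · intro k hk
    obtain ⟨e, he⟩ := hsurj ⟨k, hk⟩
    have h1 : x * (e : Γ) * x⁻¹ = k := congrArg Subtype.val he
    rw [mem_cj, ← h1, show x⁻¹ * (x * (e : Γ) * x⁻¹) * x = e by group]
    exact e.2

/-- `M` as a subgroup -/
def Msub (D : Setup Γ n) : Subgroup Γ where
  carrier := D.M
  mul_mem' := by
    rintro x y ⟨hx1, hx2⟩ ⟨hy1, hy2⟩
    refine ⟨by rw [cj_mul, hy1, hx1], ?_⟩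
    have h1 := D.E.mul_mem hx2 (mem_of_cj_eq hx1 hy2)
    have h2 : D.j * x * D.j * x⁻¹ * (x * (D.j * y * D.j * y⁻¹) * x⁻¹) = D.j * x * (D.j * D.j) * y * D.j * y⁻¹ * x⁻¹ := by
      group
    rw [h2, D.jj, mul_one] at h1
    rwa [show D.j * (x * y) * D.j * (x * y)⁻¹ = D.j * x * y * D.j * y⁻¹ * x⁻¹ by group]
  one_mem' := by
    refine ⟨cj_one _, ?_⟩
    rw [mul_one, D.jj, one_mul, inv_one]
    exact D.E.one_mem
  inv_mem' := by
    rintro x ⟨hx1, hx2⟩
    have hx1' := cj_inv_eq hx1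
    refine ⟨hx1', ?_⟩
    have h1 := mem_of_cj_eq hx1' (D.E.inv_mem hx2)
    have h2 : x⁻¹ * (D.j * x * D.j * x⁻¹)⁻¹ * x⁻¹⁻¹ = D.j⁻¹ * x⁻¹ * D.j⁻¹ * x⁻¹⁻¹ := by group
    rwa [h2, D.jinv] at h1

theorem mem_Msub {D : Setup Γ n} {x : Γ} : x ∈ Msub D ↔ x ∈ D.M := Iff.rfl

theorem E_le (D : Setup Γ n) : D.E ≤ Msub D := by
  intro e he
  refine ⟨cj_eq_of_le D.hE.fin fun k hk => D.E.mul_mem (D.E.mul_mem he hk) (D.E.inv_mem he), ?_⟩
  rw [D.inv e he]
  exact D.E.mul_mem (D.E.inv_mem he) (D.E.inv_mem he)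

theorem j_mem (D : Setup Γ n) : D.j ∈ Msub D := by
  refine ⟨D.cj_j le_rfl, ?_⟩
  rw [D.jj, one_mul, mul_inv_cancel]
  exact D.E.one_mem

variable {D : Setup Γ n} {V₀ V : Type*} [AddCommGroup V₀] [Module (ZMod 2) V₀] [AddCommGroup V]
  [Module (ZMod 2) V] {ρ₀ : Representation (ZMod 2) Γ V₀} {ρ : Representation (ZMod 2) Γ V}

theorem elem_of_le {E A : Subgroup Γ} (hE : Elem E) (hA : A ≤ E) : Elem A where
  comm a ha b hb := hE.comm a (hA ha) b (hA hb)
  cube a ha := hE.cube a (hA ha)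
  fin := by
    have := hE.fin
    exact Finite.of_injective (Subgroup.inclusion hA) (Subgroup.inclusion_injective hA)

theorem hyper_inf {E K A : Subgroup Γ} (hK : Hyper E K) (hA : A ≤ E) (hout : ∃ x ∈ A, x ∉ K) :
    Hyper A (K ⊓ A) where
  le := inf_le_right
  ne := by
    obtain ⟨x, hx, hxK⟩ := hout
    exact ⟨x, hx, fun h => hxK h.1⟩
  cov a ha haK b hb := by
    have haK' : a ∉ K := fun h => haK ⟨h, ha⟩
    rcases hK.cov a (hA ha) haK' b (hA hb) with h | h | h
    · exact Or.inl ⟨h, hb⟩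
    · exact Or.inr (Or.inl ⟨h, A.mul_mem ha hb⟩)
    · exact Or.inr (Or.inr ⟨h, A.mul_mem (A.inv_mem ha) hb⟩)

/-- an automorphism commuting with `A` and `j` is trivial -/
theorem commutant (h₀ : Good D ρ₀) (A : Subgroup Γ) (hA : A ≤ D.E)
    (hsep : ∀ i k, i ≠ k → ∃ x ∈ A, x ∈ D.H i ∧ x ∉ D.H k) (hout : ∀ i, ∃ x ∈ A, x ∉ D.H i)
    (c : V₀ ≃ₗ[ZMod 2] V₀) (hcA : ∀ y ∈ A, ∀ v, c (ρ₀ y v) = ρ₀ y (c v))
    (hcj : ∀ v, c (ρ₀ D.j v) = ρ₀ D.j (c v)) : ∀ v, c v = v := by
  classical
  have hEA := elem_of_le D.hE hA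
  have hyp : ∀ i, Hyper A (D.H i ⊓ A) := fun i => hyper_inf (D.hyp i) hA (hout i)
  have hinj : Function.Injective fun i => D.H i ⊓ A := by
    intro i k hik
    by_contra hne
    obtain ⟨x, hxA, hxi, hxk⟩ := hsep i k hne
    have h1 : x ∈ D.H i ⊓ A := ⟨hxi, hxA⟩
    have h2 : x ∈ D.H k ⊓ A := by
      have h3 : D.H i ⊓ A = D.H k ⊓ A := hik
      rw [← h3]; exact h1
    exact hxk h2.1
  have hsub : ∀ i (v : V₀), v ∈ VK ρ₀ D.E (D.H i) → v ∈ VK ρ₀ A (D.H i ⊓ A) := by
    rintro i v ⟨hv1, hv2⟩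
    exact ⟨fun k hk => hv1 k hk.1, fun e he heK => hv2 e (hA he) fun h => heK ⟨h, he⟩⟩
  have hcv : ∀ i, c (h₀.v i) = h₀.v i := by
    intro i
    have hw1 : c (h₀.v i) ∈ VK ρ₀ A (D.H i ⊓ A) := by
      have h1 := hsub i _ (h₀.v_mem i)
      refine ⟨fun k hk => ?_, fun e he heK => ?_⟩
      · rw [← hcA k hk.2, h1.1 k hk]
      · rw [← hcA e he, ← hcA _ (A.mul_mem he he), ← map_add, ← map_add, h1.2 e he heK, map_zero]
    obtain ⟨w, hw⟩ := h₀.bij.2 (c (h₀.v i))
    have hw' : ∑ k, (w k : V₀) = c (h₀.v i) := hw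
    have h2 := indep (ρ := ρ₀) hEA (fun k => D.H k ⊓ A) hyp hinj
      (fun k => if k = i then (w i : V₀) - c (h₀.v i) else w k) (fun k => by
        split
        · rename_i hki
          subst hki
          exact (VK ρ₀ A _).sub_mem (hsub _ _ (w k).2) hw1
        · exact hsub _ _ (w k).2) (by
        have h3 : ∀ k, (if k = i then (w i : V₀) - c (h₀.v i) else w k) =
            (w k : V₀) - if k = i then c (h₀.v i) else 0 := by
          intro k
          by_cases hk : k = i
          · subst hk; rw [if_pos rfl, if_pos rfl]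
          · rw [if_neg hk, if_neg hk, sub_zero]
        rw [Finset.sum_congr rfl fun k _ => h3 k, Finset.sum_sub_distrib, hw', Finset.sum_ite_eq', if_pos (mem_univ _),
          sub_self]) i
    rw [if_pos rfl, sub_eq_zero] at h2
    have h0 : c (h₀.v i) ≠ 0 := fun h => h₀.v_ne i ((LinearEquiv.map_eq_zero_iff c).mp h)
    refine h₀.fix_unique ?_ h0 ?_
    · rw [← h2]; exact (w i).2
    · rw [← hcj, h₀.j_v i]
  intro v
  refine h₀.ext (f := c.toLinearMap) (g := LinearMap.id) (fun i e he => ?_) v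
  rw [LinearEquiv.coe_coe, LinearMap.id_apply]
  obtain ⟨a, ha, haK⟩ := hout i
  have hv := h₀.v_mem i
  rcases (D.hyp i).cov a (hA ha) haK e he with h | h | h
  · rw [hv.1 e h, hcv i]
  · have h1 : ρ₀ a⁻¹ (ρ₀ (a * e) (h₀.v i)) = ρ₀ e (h₀.v i) := by rw [← rho_mul]; congr 2; group
    rw [← h1, hv.1 _ h, hcA _ (A.inv_mem ha), hcv i]
  · have h1 : ρ₀ a (ρ₀ (a⁻¹ * e) (h₀.v i)) = ρ₀ e (h₀.v i) := by rw [← rho_mul]; congr 2; group
    rw [← h1, hv.1 _ h, hcA _ ha, hcv i]

/-- **Uniqueness of the module**, the criterion used for `Co₁`. -/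
theorem exists_iso_of (h₀ : Good D ρ₀) (h : Good D ρ) (x : Γ) (A : Subgroup Γ) (hA : A ≤ D.E)
    (hsep : ∀ i k, i ≠ k → ∃ y ∈ A, y ∈ D.H i ∧ y ∉ D.H k) (hout : ∀ i, ∃ y ∈ A, y ∉ D.H i)
    (hAx : ∀ y ∈ A, x⁻¹ * y * x ∈ D.M) (hjx : x⁻¹ * D.j * x ∈ D.M)
    (htop : Subgroup.closure (insert x D.M) = ⊤) :
    ∃ f : V₀ ≃ₗ[ZMod 2] V, ∀ g v, f (ρ₀ g v) = ρ g (f v) :=
  exists_iso h₀ h x (fun c hc => commutant h₀ A hA hsep hout c
    (fun y hy => hc y (E_le D (hA hy)) (hAx y hy)) (hc D.j (j_mem D) hjx)) htop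

/-- The commutant of the whole group is trivial. -/
theorem commutant_all (h₀ : Good D ρ₀) (hsep : ∀ i k, i ≠ k → ∃ y ∈ D.E, y ∈ D.H i ∧ y ∉ D.H k)
    (c : V₀ ≃ₗ[ZMod 2] V₀) (hc : ∀ y v, c (ρ₀ y v) = ρ₀ y (c v)) : ∀ v, c v = v :=
  commutant h₀ D.E le_rfl hsep (fun i => (D.hyp i).ne) c (fun y _ => hc y) (hc D.j)

end Cfsg.Agent.MonsterU.ModComm
end

-- part: MonsterU/ModLin
section
/-!
# Coordinates for an elementary abelian group of order `3⁶`

From six commuting independent elements of order 3 to the `Setup` of `ModAbs`: the hyperplanes are the kernels `KK` of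
the functionals, coded by numbers below `729`, and the normaliser acts on them through `T`.
-/

set_option autoImplicit false

namespace Cfsg.Agent.MonsterU.ModLin

open Cfsg.Agent.MonsterU.ModEv Cfsg.Agent.MonsterU.ModAbs Cfsg.Agent.MonsterU.ModComm

variable {Γ : Type*} [Group Γ] {e : ℕ → Γ}

/-- six independent commuting elements of order 3 -/
structure Bas (e : ℕ → Γ) : Prop where
  comm : ∀ k < 6, ∀ l < 6, e k * e l = e l * e k
  cube : ∀ k < 6, e k ^ 3 = 1
  indep : ∀ n, 0 < n → n < 729 → ev e (dg n) ≠ 1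

/-- the partial products -/
def evN (e : ℕ → Γ) (c : ℕ → ℕ) : ℕ → Γ
  | 0 => 1
  | n + 1 => evN e c n * e n ^ c n

theorem ev_eq (c : ℕ → ℕ) : ev e c = evN e c 6 := by
  simp only [ev, evN, one_mul]

/-! ### Sums -/

/-- the scalar product -/
def dt (a c : ℕ → ℕ) : ℕ := ∑ k ∈ Finset.range 6, a k * c k

theorem dot_eq (n m : ℕ) : dot n m = dt (dg n) (dg m) := by
  simp only [dot, dt, Finset.sum_range_succ, Finset.sum_range_zero, zero_add]

theorem dt_add (a c d : ℕ → ℕ) : dt a (fun k => c k + d k) = dt a c + dt a d := by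
  unfold dt
  rw [← Finset.sum_add_distrib]
  exact Finset.sum_congr rfl fun k _ => by ring

theorem dt_two (a c : ℕ → ℕ) : dt a (fun k => 2 * c k) = 2 * dt a c := by
  unfold dt
  rw [Finset.mul_sum]
  exact Finset.sum_congr rfl fun k _ => by ring

theorem dt_congr {a b c d : ℕ → ℕ} (h : ∀ k < 6, a k % 3 = b k % 3) (h' : ∀ k < 6, c k % 3 = d k % 3) :
    dt a c % 3 = dt b d % 3 := by
  unfold dt
  rw [Finset.sum_nat_mod, Finset.sum_nat_mod (f := fun k => b k * d k)]
  congr 1
  refine Finset.sum_congr rfl fun k hk => ?_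
  rw [Nat.mul_mod, h k (Finset.mem_range.mp hk), h' k (Finset.mem_range.mp hk), ← Nat.mul_mod]

/-- the code of a vector -/
def cd (c : ℕ → ℕ) : ℕ :=
  c 0 % 3 + c 1 % 3 * 3 + c 2 % 3 * 9 + c 3 % 3 * 27 + c 4 % 3 * 81 + c 5 % 3 * 243

theorem cd_lt (c : ℕ → ℕ) : cd c < 729 := by
  unfold cd; omega

theorem dg_cd (c : ℕ → ℕ) : ∀ k < 6, dg (cd c) k = c k % 3 := by
  intro k hk
  have h : k = 0 ∨ k = 1 ∨ k = 2 ∨ k = 3 ∨ k = 4 ∨ k = 5 := by omega
  unfold dg cd
  rcases h with rfl | rfl | rfl | rfl | rfl | rfl <;> norm_num <;> omega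

theorem dg_mod (n k : ℕ) : dg n k % 3 = dg n k := Nat.mod_mod _ _

theorem eq_zero_of_dg {n : ℕ} (hn : n < 729) (h : ∀ k < 6, dg n k = 0) : n = 0 := by
  have h0 := h 0 (by norm_num)
  have h1 := h 1 (by norm_num)
  have h2 := h 2 (by norm_num)
  have h3 := h 3 (by norm_num)
  have h4 := h 4 (by norm_num)
  have h5 := h 5 (by norm_num)
  unfold dg at h0 h1 h2 h3 h4 h5
  norm_num at h0 h1 h2 h3 h4 h5
  omega

theorem T_eq (A : ℕ → ℕ) (n : ℕ) : T A n = cd (fun k => dot n (A k)) := rfl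

theorem neg_eq (n : ℕ) : neg n = cd (fun k => 2 * dg n k) := rfl

/-! ### The group -/

theorem commute_evN (B : Bas e) (c : ℕ → ℕ) {n : ℕ} (hn : n ≤ 6) {l : ℕ} (hl : l < 6) :
    Commute (evN e c n) (e l) := by
  induction n with
  | zero => exact Commute.one_left _
  | succ n ih => exact (ih (by omega)).mul_left (Commute.pow_left (B.comm n (by omega) l hl) _)

theorem commute_evN_evN (B : Bas e) (c d : ℕ → ℕ) {n m : ℕ} (hn : n ≤ 6) (hm : m ≤ 6) :
    Commute (evN e c n) (evN e d m) := by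
  induction m with
  | zero => exact Commute.one_right _
  | succ m ih => exact (ih (by omega)).mul_right (Commute.pow_right (commute_evN B c hn (by omega)) _)

theorem commute_ev (B : Bas e) (c d : ℕ → ℕ) : ev e c * ev e d = ev e d * ev e c := by
  rw [ev_eq, ev_eq]
  exact commute_evN_evN B c d le_rfl le_rfl

theorem ev_add (B : Bas e) (c d : ℕ → ℕ) : ev e (fun k => c k + d k) = ev e c * ev e d := by
  have h : ∀ n ≤ 6, evN e (fun k => c k + d k) n = evN e c n * evN e d n := by
    intro n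
    induction n with
    | zero => intro _; exact (one_mul _).symm
    | succ n ih =>
      intro hn
      have h1 : Commute (evN e d n) (e n ^ c n) := (commute_evN B d (by omega) (by omega)).pow_right _
      show evN e (fun k => c k + d k) n * e n ^ (c n + d n) = evN e c n * e n ^ c n * (evN e d n * e n ^ d n)
      rw [ih (by omega), pow_add, mul_assoc, mul_assoc, ← mul_assoc (evN e d n), h1.eq, mul_assoc]
  rw [ev_eq, ev_eq, ev_eq]
  exact h 6 le_rfl

theorem ev_congr (B : Bas e) {c d : ℕ → ℕ} (h : ∀ k < 6, c k % 3 = d k % 3) : ev e c = ev e d := by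
  have h' : ∀ n ≤ 6, evN e c n = evN e d n := by
    intro n
    induction n with
    | zero => intro _; rfl
    | succ n ih =>
      intro hn
      have hc := B.cube n (by omega)
      show evN e c n * e n ^ c n = evN e d n * e n ^ d n
      rw [ih (by omega), pow_eq_pow_mod (c n) hc, pow_eq_pow_mod (d n) hc, h n (by omega)]
  rw [ev_eq, ev_eq]
  exact h' 6 le_rfl

theorem ev_zero' (c : ℕ → ℕ) (h : ∀ k < 6, c k = 0) : ev e c = 1 := by
  unfold ev
  rw [h 0 (by norm_num), h 1 (by norm_num), h 2 (by norm_num), h 3 (by norm_num), h 4 (by norm_num),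
    h 5 (by norm_num)]
  simp only [pow_zero, one_mul]

theorem ev_zero (B : Bas e) {c : ℕ → ℕ} (h : ∀ k < 6, c k % 3 = 0) : ev e c = 1 := by
  rw [ev_congr B (d := fun _ => 0) (fun k hk => by rw [h k hk])]
  exact ev_zero' _ fun _ _ => rfl

theorem ev_inv (B : Bas e) (c : ℕ → ℕ) : (ev e c)⁻¹ = ev e (fun k => 2 * c k) := by
  rw [inv_eq_iff_mul_eq_one, ← ev_add B]
  exact ev_zero B fun k _ => by
    show (c k + 2 * c k) % 3 = 0
    omega

theorem ev_code (B : Bas e) (c : ℕ → ℕ) : ev e (dg (cd c)) = ev e c :=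
  ev_congr B fun k hk => by rw [dg_cd c k hk, Nat.mod_mod]

theorem ev_eq_one (B : Bas e) {c : ℕ → ℕ} (h : ev e c = 1) : ∀ k < 6, c k % 3 = 0 := by
  have h1 : cd c = 0 := by
    by_contra hne
    exact B.indep (cd c) (Nat.pos_of_ne_zero hne) (cd_lt c) (by rw [ev_code B, h])
  intro k hk
  rw [← dg_cd c k hk, h1]
  exact by unfold dg; simp

theorem ev_inj (B : Bas e) {c d : ℕ → ℕ} (h : ev e c = ev e d) : ∀ k < 6, c k % 3 = d k % 3 := by
  have h1 : ev e (fun k => c k + 2 * d k) = 1 := by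
    rw [ev_add B c (fun k => 2 * d k), ← ev_inv B, h, mul_inv_cancel]
  intro k hk
  have h2 := ev_eq_one B h1 k hk
  omega

/-- the unit vectors -/
def un (k l : ℕ) : ℕ := if l = k then 1 else 0

theorem ev_un {k : ℕ} (hk : k < 6) : ev e (un k) = e k := by
  have h : k = 0 ∨ k = 1 ∨ k = 2 ∨ k = 3 ∨ k = 4 ∨ k = 5 := by omega
  unfold ev un
  rcases h with rfl | rfl | rfl | rfl | rfl | rfl <;> simp

theorem dt_un (a : ℕ → ℕ) {k : ℕ} (hk : k < 6) : dt a (un k) = a k := by
  unfold dt un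
  rw [Finset.sum_eq_single k]
  · rw [if_pos rfl, mul_one]
  · intro l _ hl
    rw [if_neg hl, mul_zero]
  · intro h
    exact absurd (Finset.mem_range.mpr hk) h

/-- the elementary abelian group -/
def EE (B : Bas e) : Subgroup Γ where
  carrier := {x | ∃ c, x = ev e c}
  mul_mem' := by
    rintro _ _ ⟨c, rfl⟩ ⟨d, rfl⟩
    exact ⟨_, (ev_add B c d).symm⟩
  one_mem' := ⟨fun _ => 0, (ev_zero' _ fun _ _ => rfl).symm⟩
  inv_mem' := by
    rintro _ ⟨c, rfl⟩
    exact ⟨_, ev_inv B c⟩

theorem mem_EE {B : Bas e} {x : Γ} : x ∈ EE B ↔ ∃ c, x = ev e c := Iff.rfl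

theorem ev_mem (B : Bas e) (c : ℕ → ℕ) : ev e c ∈ EE B := ⟨c, rfl⟩

theorem e_mem (B : Bas e) {k : ℕ} (hk : k < 6) : e k ∈ EE B := ⟨un k, (ev_un hk).symm⟩

theorem elem (B : Bas e) : Elem (EE B) where
  comm := by
    rintro _ ⟨c, rfl⟩ _ ⟨d, rfl⟩
    exact commute_ev B c d
  cube := by
    rintro _ ⟨c, rfl⟩
    rw [← ev_add B, ← ev_add B]
    exact ev_zero B fun k _ => by
      show (c k + c k + c k) % 3 = 0
      omega
  fin := by
    refine Finite.of_surjective (fun n : Fin 729 => (⟨ev e (dg n), ev_mem B _⟩ : EE B)) ?_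
    rintro ⟨_, c, rfl⟩
    exact ⟨⟨cd c, cd_lt c⟩, Subtype.ext (ev_code B c)⟩

/-- the kernel of a functional -/
def KK (B : Bas e) (a : ℕ → ℕ) : Subgroup Γ where
  carrier := {x | ∃ c, x = ev e c ∧ dt a c % 3 = 0}
  mul_mem' := by
    rintro _ _ ⟨c, rfl, hc⟩ ⟨d, rfl, hd⟩
    refine ⟨_, (ev_add B c d).symm, ?_⟩
    rw [dt_add]
    omega
  one_mem' := ⟨fun _ => 0, (ev_zero' _ fun _ _ => rfl).symm, by simp [dt]⟩
  inv_mem' := by
    rintro _ ⟨c, rfl, hc⟩
    refine ⟨_, ev_inv B c, ?_⟩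
    rw [dt_two]
    omega

theorem mem_KK (B : Bas e) {a c : ℕ → ℕ} : ev e c ∈ KK B a ↔ dt a c % 3 = 0 := by
  constructor
  · rintro ⟨d, hd, h⟩
    rw [dt_congr (fun _ _ => rfl) (ev_inj B hd)]
    exact h
  · intro h
    exact ⟨c, rfl, h⟩

theorem KK_le (B : Bas e) (a : ℕ → ℕ) : KK B a ≤ EE B := by
  rintro _ ⟨c, rfl, _⟩
  exact ev_mem B c

theorem KK_congr (B : Bas e) {a b : ℕ → ℕ} (h : ∀ k < 6, a k % 3 = b k % 3) : KK B a = KK B b := by
  ext x
  constructor
  · rintro ⟨c, rfl, hc⟩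
    exact ⟨c, rfl, by rw [← dt_congr h fun _ _ => rfl]; exact hc⟩
  · rintro ⟨c, rfl, hc⟩
    exact ⟨c, rfl, by rw [dt_congr h fun _ _ => rfl]; exact hc⟩

theorem KK_code (B : Bas e) (a : ℕ → ℕ) : KK B (dg (cd a)) = KK B a :=
  KK_congr B fun k hk => by rw [dg_cd a k hk, Nat.mod_mod]

theorem KK_neg (B : Bas e) (n : ℕ) : KK B (dg (neg n)) = KK B (dg n) := by
  rw [neg_eq, KK_code]
  ext x
  have key : ∀ c, dt (fun k => 2 * dg n k) c % 3 = 0 ↔ dt (dg n) c % 3 = 0 := by
    intro c
    have h : dt (fun k => 2 * dg n k) c = 2 * dt (dg n) c := by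
      unfold dt
      rw [Finset.mul_sum]
      exact Finset.sum_congr rfl fun k _ => by ring
    rw [h]
    omega
  constructor
  · rintro ⟨c, rfl, hc⟩
    exact ⟨c, rfl, (key c).1 hc⟩
  · rintro ⟨c, rfl, hc⟩
    exact ⟨c, rfl, (key c).2 hc⟩

theorem hyper_KK (B : Bas e) {a : ℕ → ℕ} (ha : ∃ k < 6, a k % 3 ≠ 0) : Hyper (EE B) (KK B a) where
  le := KK_le B a
  ne := by
    obtain ⟨k, hk, h⟩ := ha
    refine ⟨e k, e_mem B hk, ?_⟩
    rw [← ev_un (e := e) hk, mem_KK B, dt_un a hk]
    exact h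
  cov := by
    rintro _ ⟨c, rfl⟩ hc _ ⟨d, rfl⟩
    rw [mem_KK B] at hc ⊢
    rw [ev_inv B, ← ev_add B, ← ev_add B, mem_KK B, mem_KK B, dt_add, dt_add, dt_two]
    have h1 : dt a c % 3 = 1 ∨ dt a c % 3 = 2 := by omega
    have h2 : dt a d % 3 = 0 ∨ dt a d % 3 = 1 ∨ dt a d % 3 = 2 := by omega
    rcases h1 with h1 | h1 <;> rcases h2 with h2 | h2 | h2 <;> omega

theorem hyper_code (B : Bas e) {n : ℕ} (h0 : 0 < n) (hn : n < 729) : Hyper (EE B) (KK B (dg n)) := by
  apply hyper_KK
  by_contra h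
  push Not at h
  have := eq_zero_of_dg hn fun k hk => by rw [← dg_mod]; exact h k hk
  omega

/-- every hyperplane is the kernel of a functional -/
theorem exists_code (B : Bas e) {K : Subgroup Γ} (hK : Hyper (EE B) K) :
    ∃ n, 0 < n ∧ n < 729 ∧ K = KK B (dg n) := by
  obtain ⟨a, ha, haK⟩ := hK.ne
  have hE := elem B
  have ha3 : a * a * a = 1 := hE.cube a ha
  have hex : ∀ k, ∃ m, k < 6 → e k * a ^ m ∈ K := by
    intro k
    by_cases hk : k < 6
    · rcases hK.cov a ha haK (e k) (e_mem B hk) with h | h | h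
      · exact ⟨0, fun _ => by rwa [pow_zero, mul_one]⟩
      · exact ⟨1, fun _ => by rwa [pow_one, ← hE.comm a ha _ (e_mem B hk)]⟩
      · refine ⟨2, fun _ => ?_⟩
        rwa [pow_two, hE.sq ha, ← hE.comm a⁻¹ ((EE B).inv_mem ha) _ (e_mem B hk)]
    · exact ⟨0, fun h => absurd h hk⟩
  choose m hm using hex
  have hcom : ∀ {n : ℕ}, n < 6 → Commute (e n) a := fun hn => hE.comm _ (e_mem B hn) a ha
  -- the main membership
  have key : ∀ c, ev e c * a ^ dt m c ∈ K := by
    intro c
    have h : ∀ n ≤ 6, evN e c n * a ^ (∑ k ∈ Finset.range n, m k * c k) ∈ K := by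
      intro n
      induction n with
      | zero =>
        intro _
        rw [Finset.sum_range_zero, pow_zero, mul_one]
        exact K.one_mem
      | succ n ih =>
        intro hn
        have h1 := K.mul_mem (ih (by omega)) (K.pow_mem (hm n (by omega)) (c n))
        have h2 : Commute (e n) (a ^ m n) := (hcom (by omega)).pow_right _
        rw [h2.mul_pow, ← pow_mul] at h1
        have h3 : Commute (a ^ (∑ k ∈ Finset.range n, m k * c k)) (e n ^ c n) :=
          ((hcom (by omega)).pow_pow _ _).symm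
        rw [Finset.sum_range_succ, pow_add]
        show evN e c n * e n ^ c n * _ ∈ K
        rwa [mul_assoc, ← mul_assoc (a ^ _), h3.eq, mul_assoc (e n ^ c n), ← mul_assoc] at h1
    rw [ev_eq]
    exact h 6 le_rfl
  have hpow : ∀ t, a ^ t ∈ K ↔ t % 3 = 0 := by
    intro t
    have h3 : a ^ 3 = 1 := by rw [pow_succ, pow_two]; exact ha3
    rw [pow_eq_pow_mod t h3]
    have ht : t % 3 = 0 ∨ t % 3 = 1 ∨ t % 3 = 2 := by omega
    rcases ht with h | h | h
    · rw [h, pow_zero]; exact ⟨fun _ => rfl, fun _ => K.one_mem⟩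
    · rw [h, pow_one]; exact ⟨fun h' => absurd h' haK, fun h' => absurd h' (by norm_num)⟩
    · rw [h, pow_two, hE.sq ha]
      exact ⟨fun h' => absurd (by simpa using K.inv_mem h') haK, fun h' => absurd h' (by norm_num)⟩
  have hmem : ∀ c, ev e c ∈ K ↔ dt m c % 3 = 0 := by
    intro c
    rw [← hpow]
    constructor
    · intro h
      have := K.mul_mem (K.inv_mem h) (key c)
      rwa [inv_mul_cancel_left] at this
    · intro h
      have := K.mul_mem (key c) (K.inv_mem h)
      rwa [mul_inv_cancel_right] at this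
  have hKK : K = KK B m := by
    ext x
    constructor
    · intro hx
      obtain ⟨c, rfl⟩ := hK.le hx
      exact ⟨c, rfl, (hmem c).1 hx⟩
    · rintro ⟨c, rfl, hc⟩
      exact (hmem c).2 hc
  refine ⟨cd m, ?_, cd_lt m, by rw [KK_code, hKK]⟩
  rw [Nat.pos_iff_ne_zero]
  intro h0
  apply haK
  obtain ⟨c, rfl⟩ := ha
  rw [hmem, ← dt_congr (a := dg (cd m)) (c := c) (d := c) (fun k hk => by rw [dg_cd m k hk, Nat.mod_mod])
    fun _ _ => rfl, h0]
  have : ∀ k, dg 0 k = 0 := fun k => by unfold dg; simp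
  unfold dt
  simp [this]

/-! ### Conjugation -/

theorem conj_ev (B : Bas e) {x : Γ} {A : ℕ → ℕ} (hx : ∀ k < 6, x * e k * x⁻¹ = ev e (dg (A k))) (c : ℕ → ℕ) :
    x * ev e c * x⁻¹ = ev e (fun l => ∑ k ∈ Finset.range 6, c k * dg (A k) l) := by
  have hpow : ∀ (d : ℕ → ℕ) (m : ℕ), ev e d ^ m = ev e (fun l => m * d l) := by
    intro d m
    induction m with
    | zero =>
      rw [pow_zero]
      exact (ev_zero' _ fun k _ => zero_mul _).symm
    | succ m ih =>
      rw [pow_succ, ih, ← ev_add B]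
      congr 1
      funext l
      ring
  have h : ∀ n ≤ 6, x * evN e c n * x⁻¹ = ev e (fun l => ∑ k ∈ Finset.range n, c k * dg (A k) l) := by
    intro n
    induction n with
    | zero =>
      intro _
      show x * 1 * x⁻¹ = _
      rw [mul_one, mul_inv_cancel]
      exact (ev_zero' _ fun k _ => by rw [Finset.sum_range_zero]).symm
    | succ n ih =>
      intro hn
      have h1 : x * e n ^ c n * x⁻¹ = ev e (fun l => c n * dg (A n) l) := by
        rw [← hpow, ← hx n (by omega), conj_pow]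
      show x * (evN e c n * e n ^ c n) * x⁻¹ = _
      have h2 : x * (evN e c n * e n ^ c n) * x⁻¹ = (x * evN e c n * x⁻¹) * (x * e n ^ c n * x⁻¹) := by group
      rw [h2, ih (by omega), h1, ← ev_add B]
      congr 1
      funext l
      rw [Finset.sum_range_succ]
  rw [ev_eq]
  exact h 6 le_rfl

theorem cj_EE (B : Bas e) {x : Γ} {A : ℕ → ℕ} (hx : ∀ k < 6, x * e k * x⁻¹ = ev e (dg (A k))) :
    cj x (EE B) = EE B := by
  apply cj_eq_of_le (elem B).fin
  rintro _ ⟨c, rfl⟩
  rw [conj_ev B hx]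
  exact ev_mem B _

theorem cj_KK (B : Bas e) {x : Γ} {A : ℕ → ℕ} (hx : ∀ k < 6, x * e k * x⁻¹ = ev e (dg (A k))) (n : ℕ) :
    cj x⁻¹ (KK B (dg n)) = KK B (dg (T A n)) := by
  have key : ∀ c, dt (dg n) (fun l => ∑ k ∈ Finset.range 6, c k * dg (A k) l) = dt (fun k => dot n (A k)) c := by
    intro c
    unfold dt
    simp only [dot_eq, dt, Finset.mul_sum, Finset.sum_mul]
    rw [Finset.sum_comm]
    refine Finset.sum_congr rfl fun k _ => Finset.sum_congr rfl fun l _ => by ring
  rw [T_eq, KK_code]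
  ext y
  rw [mem_cj, inv_inv]
  constructor
  · intro h
    have hy : y ∈ EE B := by
      rw [← cj_inv_eq (cj_EE B hx), mem_cj, inv_inv]
      exact KK_le B _ h
    obtain ⟨c, rfl⟩ := hy
    rw [conj_ev B hx, mem_KK B, key] at h
    exact ⟨c, rfl, h⟩
  · rintro ⟨c, rfl, hc⟩
    rw [conj_ev B hx, mem_KK B, key]
    exact hc

/-- conjugacy of hyperplanes under the normaliser -/
def Rel (B : Bas e) (n m : ℕ) : Prop := ∃ x, cj x (EE B) = EE B ∧ cj x (KK B (dg n)) = KK B (dg m)

theorem Rel.refl (B : Bas e) (n : ℕ) : Rel B n n := ⟨1, cj_one _, cj_one _⟩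

theorem Rel.symm {B : Bas e} {n m : ℕ} (h : Rel B n m) : Rel B m n := by
  obtain ⟨x, h1, h2⟩ := h
  exact ⟨x⁻¹, cj_inv_eq h1, cj_inv_eq h2⟩

theorem Rel.trans {B : Bas e} {n m k : ℕ} (h : Rel B n m) (h' : Rel B m k) : Rel B n k := by
  obtain ⟨x, h1, h2⟩ := h
  obtain ⟨y, h3, h4⟩ := h'
  exact ⟨y * x, by rw [cj_mul, h1, h3], by rw [cj_mul, h2, h4]⟩

theorem Rel.of_conj (B : Bas e) {x : Γ} {A : ℕ → ℕ} (hx : ∀ k < 6, x * e k * x⁻¹ = ev e (dg (A k))) (n : ℕ) :
    Rel B n (T A n) := ⟨x⁻¹, cj_inv_eq (cj_EE B hx), cj_KK B hx n⟩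

theorem Rel.neg (B : Bas e) (n : ℕ) : Rel B n (neg n) := ⟨1, cj_one _, by rw [cj_one, KK_neg]⟩

theorem ne_of_sep (B : Bas e) {n m : ℕ} (h : ∃ t < 729, dot n t % 3 = 0 ∧ dot m t % 3 ≠ 0) :
    KK B (dg n) ≠ KK B (dg m) := by
  obtain ⟨t, _, h1, h2⟩ := h
  intro heq
  rw [dot_eq] at h1 h2
  have h3 : ev e (dg t) ∈ KK B (dg n) := (mem_KK B).2 h1
  rw [heq, mem_KK B] at h3
  exact h2 h3

theorem inv_EE (B : Bas e) {j : Γ} (hjj : j * j = 1) (hj : ∀ k < 6, j * e k * j = (e k)⁻¹) :
    ∀ x ∈ EE B, j * x * j = x⁻¹ := by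
  rintro _ ⟨c, rfl⟩
  have hji : j⁻¹ = j := inv_eq_of_mul_eq_one_left hjj
  have h : ∀ n ≤ 6, j * evN e c n * j = (evN e c n)⁻¹ := by
    intro n
    induction n with
    | zero => intro _; show j * 1 * j = 1⁻¹; rw [mul_one, hjj, inv_one]
    | succ n ih =>
      intro hn
      have h1 : j * e n ^ c n * j = (e n ^ c n)⁻¹ := by
        have h2 := conj_pow (i := c n) (a := j) (b := e n)
        rw [hji, hj n (by omega)] at h2
        rw [← h2, inv_pow]
      have h3 : Commute (evN e c n) (e n ^ c n) := (commute_evN B c (by omega) (by omega)).pow_right _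
      show j * (evN e c n * e n ^ c n) * j = (evN e c n * e n ^ c n)⁻¹
      rw [h3.eq, mul_inv_rev, ← ih (by omega), ← h1]
      have h4 : j * (e n ^ c n * evN e c n) * j = j * e n ^ c n * (j * j) * evN e c n * j := by
        rw [hjj, mul_one]; group
      have h5 : j * evN e c n * j * (j * e n ^ c n * j) = j * evN e c n * (j * j) * e n ^ c n * j := by group
      rw [h5, hjj, mul_one, mul_assoc j (evN e c n), h3.eq]
  rw [ev_eq]
  exact h 6 le_rfl

/-- The `Setup` of `ModAbs`. -/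
def mkSetup (B : Bas e) (j : Γ) (hjj : j * j = 1) (hj : ∀ k < 6, j * e k * j = (e k)⁻¹) (hN : ℕ → ℕ)
    (hpos : ∀ i < 12, 0 < hN i ∧ hN i < 729)
    (h1 : ∀ i < 12, ∀ k < 12, Rel B (hN i) (hN k))
    (h2 : ∀ n, 0 < n → n < 729 → (∃ i < 12, n = hN i ∨ neg n = hN i) ∨
      ∃ c : Fin 13 → ℕ, (∀ i, 0 < c i ∧ c i < 729 ∧ Rel B n (c i)) ∧
        ∀ i k, i ≠ k → ∃ t < 729, dot (c i) t % 3 = 0 ∧ dot (c k) t % 3 ≠ 0)
    (h3 : ∀ i < 12, ∀ k < 12, i ≠ k → ∃ t < 729, dot (hN i) t % 3 = 0 ∧ dot (hN k) t % 3 ≠ 0) :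
    Setup Γ 12 where
  E := EE B
  hE := elem B
  j := j
  jj := hjj
  inv := inv_EE B hjj hj
  H i := KK B (dg (hN i))
  hyp i := hyper_code B (hpos i i.2).1 (hpos i i.2).2
  inj i k hik := by
    by_contra hne
    exact ne_of_sep B (h3 i i.2 k k.2 fun h => hne (Fin.ext h)) hik
  tr i k := by
    obtain ⟨x, hx1, hx2⟩ := h1 i i.2 k k.2
    exact ⟨x, hx1, hx2⟩
  other K hK := by
    obtain ⟨n, h0, hn, rfl⟩ := exists_code B hK
    rcases h2 n h0 hn with ⟨i, hi, h⟩ | ⟨c, hc, hsep⟩
    · left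
      refine ⟨⟨i, hi⟩, ?_⟩
      rcases h with h | h
      · rw [h]
      · rw [← KK_neg B n, h]
    · right
      choose x hx1 hx2 using fun i => (hc i).2.2
      refine ⟨x, hx1, fun i k hik => ?_⟩
      by_contra hne
      have h4 : cj (x i) (KK B (dg n)) = cj (x k) (KK B (dg n)) := hik
      rw [hx2, hx2] at h4
      exact ne_of_sep B (hsep i k hne) h4

/-- membership in `M` from the conjugation table -/
theorem mem_M {B : Bas e} {D : Setup Γ 12} (hD : D.E = EE B) {x : Γ} {A : ℕ → ℕ} {b : ℕ}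
    (hx : ∀ k < 6, x * e k * x⁻¹ = ev e (dg (A k))) (hj : D.j * x * D.j * x⁻¹ = ev e (dg b)) : x ∈ D.M := by
  refine ⟨?_, ?_⟩
  · rw [hD]; exact cj_EE B hx
  · rw [hj, hD]; exact ev_mem B _

/-- combinations of the generators `al m` -/
theorem comb_mem (B : Bas e) (A : Subgroup Γ) (al s : ℕ → ℕ) (h : ∀ m < 5, ev e (dg (al m)) ∈ A) :
    ev e (fun l => ∑ m ∈ Finset.range 5, s m * dg (al m) l) ∈ A := by
  have hpow : ∀ (d : ℕ → ℕ) (m : ℕ), ev e (fun l => m * d l) = ev e d ^ m := by
    intro d m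
    induction m with
    | zero =>
      rw [pow_zero]
      exact ev_zero' _ fun k _ => zero_mul _
    | succ m ih =>
      rw [pow_succ, ← ih, ← ev_add B]
      congr 1
      funext l
      ring
  have h' : ∀ n ≤ 5, ev e (fun l => ∑ m ∈ Finset.range n, s m * dg (al m) l) ∈ A := by
    intro n
    induction n with
    | zero =>
      intro _
      rw [ev_zero' _ fun k _ => by rw [Finset.sum_range_zero]]
      exact A.one_mem
    | succ n ih =>
      intro hn
      have h1 := A.mul_mem (ih (by omega)) (A.pow_mem (h n (by omega)) (s n))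
      rw [← hpow, ← ev_add B] at h1
      have h2 : (fun k => ∑ m ∈ Finset.range n, s m * dg (al m) k + s n * dg (al n) k) =
          fun l => ∑ m ∈ Finset.range (n + 1), s m * dg (al m) l := by
        funext l
        rw [Finset.sum_range_succ]
      rwa [h2] at h1
  exact h' 5 le_rfl

end Cfsg.Agent.MonsterU.ModLin
end

-- part: MonsterU/ModOrb
section
/-!
# The orbits of `2.M12` on the functionals of `F₃⁶`

Codes `n < 729`; two matrices `A1`, `A2` and the sign.  Orbits of length 24 (the codes `hN i` and their negatives), 264, 440.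
-/

set_option autoImplicit false

namespace Cfsg.Agent.MonsterU.ModOrb

open Cfsg.Agent.MonsterU.ModEv

/-- the matrix of the first generator -/
def A1 (k : ℕ) : ℕ := [9, 243, 641, 372, 385, 311].getD k 0

/-- the matrix of the second generator -/
def A2 (k : ℕ) : ℕ := [680, 162, 311, 372, 27, 2].getD k 0

/-- the small orbit, up to sign -/
def hN (i : ℕ) : ℕ := [368, 373, 374, 392, 394, 403, 445, 448, 458, 473, 481, 485].getD i 0

/-- generators of the subgroup of order `3^5` -/
def al (m : ℕ) : ℕ := [27, 4, 10, 82, 246].getD m 0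

/-- linear combinations of the `al m` -/
def comb (s : ℕ) : ℕ :=
  (dg s 0 * dg (al 0) 0 + dg s 1 * dg (al 1) 0 + dg s 2 * dg (al 2) 0 + dg s 3 * dg (al 3) 0 + dg s 4 * dg (al 4) 0) % 3 +
  (dg s 0 * dg (al 0) 1 + dg s 1 * dg (al 1) 1 + dg s 2 * dg (al 2) 1 + dg s 3 * dg (al 3) 1 + dg s 4 * dg (al 4) 1) % 3 * 3 +
  (dg s 0 * dg (al 0) 2 + dg s 1 * dg (al 1) 2 + dg s 2 * dg (al 2) 2 + dg s 3 * dg (al 3) 2 + dg s 4 * dg (al 4) 2) % 3 * 9 +
  (dg s 0 * dg (al 0) 3 + dg s 1 * dg (al 1) 3 + dg s 2 * dg (al 2) 3 + dg s 3 * dg (al 3) 3 + dg s 4 * dg (al 4) 3) % 3 * 27 +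
  (dg s 0 * dg (al 0) 4 + dg s 1 * dg (al 1) 4 + dg s 2 * dg (al 2) 4 + dg s 3 * dg (al 3) 4 + dg s 4 * dg (al 4) 4) % 3 * 81 +
  (dg s 0 * dg (al 0) 5 + dg s 1 * dg (al 1) 5 + dg s 2 * dg (al 2) 5 + dg s 3 * dg (al 3) 5 + dg s 4 * dg (al 4) 5) % 3 * 243

/-- table of the tree, 10 bits for each code -/
def tab : ℕ := 0x1ab9b97e419705944eabcd35d66b300106ba3e2f04f13dcfb322b63aa7b20850dcdb11e5f279ca754798764e06dff2a5546222366163040da8529661c5790d64b12725051c8241f73d1e055423804428292b5d24b2c273fe2315e716040d71a853b911722585d43e9957596ab00681f9206d7d96634dca70c2f2b9781ee411e5ae1a4f94e2d6381665c16f4f5bc52d82851249aca0876ad9ad148150c015ad8480f5c5d12866a9621140a45889ad8ac4f49c860051484435435ec041e40c61a8fe235e1656ed47089537f9c29e567a319c28dff418ea996c525db2456986a28a28d956923f9cd9e5f9b67cc3352c52191a84e0904a2147c1730adc9491a65057a396866155a811e0694f555a38170679f836481c10be3f7a870a755d1622c5acb5358fd0355416d1d42d3700909064a7a1d8e87ccb765103b28c526853de6f9aec3b5534a9e2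d956c73299890c1573acba097595c78540dab0c69102cc73e846501fa1dd60f80d178ae9148c63e712556b85870015f305d4087d480c6604dd2390c296b985444e58a8024d4a124ddc8fecca74543fd1398e3d676a5a7c172546d99ace219ca704cd6964d0d9ad296c5575346cd1c0ae0d91417815d95c08d0a45e0a570816606ca48aad2509c9860aad5cd7869123074e6165798b44e6ed355b5137f8a5a325a03d3868c3e1c0e20d1bc9f87d3e5f606a798883a9362d8fd8cb219d21aa37d216ab8cf41e892b614b410793a6179dc3ad86f65cf82d58c9b95b2b5d635145334538f26014dc89dac2ac1011d6496ceab930aa6650da05fdb59251710654cf87e8950693d0eaa7718b306cfb664e051e93004b6a7d61039f71602f6c8d472c02b109d138a287685635beb1d7d1fe1f2dda19ec51741e33a8d44c83754a4c2d97e695e00fce45cd6497882b046436186a0c8c9b036751c29a46f51c282aa9f9f0427796d3e62241e8a6a2389c1563b6d6994240a0939f183489a10381914d412b5651b1e3708e97051a3124eaae61690c3a8dd34aac885e763781babe64140c615571a1a6a6f110ab9148fe040059f928cf100975be6c1465e33c7d7264f2898125c1d1ee915ad09771b60e1d6482d75dc3d716120ccb64454593c6f96142476b51fc0e289fe0a65770ea5514f5a4ca48f688151d5a00373aaad02171ad4c666ca27bd050541b6ee4807688661166384a010eb1a68a850ff7494f924520e85a4153cb1d4a03def1fdfa0380b0422e03d0f5860c16a141fd413f5954f1f84f24f5584a489a1094fd7e800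

/-- the next code towards the root -/
def par (n : ℕ) : ℕ := (tab >>> (10 * n)) % 1024

/-- one step -/
def step (n : ℕ) : Bool :=
  (Nat.blt 0 (par n) && Nat.blt (par n) 729) &&
  (Nat.beq (par n) n || Nat.beq (par n) (T A1 n) || Nat.beq (par n) (T A2 n) || Nat.beq (par n) (neg n) ||
    Nat.beq n (T A1 (par n)) || Nat.beq n (T A2 (par n)))

/-- the root -/
def root (n : ℕ) : ℕ := par^[7] n

/-- `p` for all `n < 729`, `0 < n` -/
def all (p : ℕ → Bool) : Bool := (List.range 728).all fun n => p (n + 1)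

theorem all_sound {p : ℕ → Bool} (h : all p = true) {n : ℕ} (h0 : 0 < n) (hn : n < 729) : p n = true := by
  have := List.all_eq_true.1 h (n - 1) (List.mem_range.2 (by omega))
  rwa [Nat.sub_add_cancel h0] at this

theorem step_ok : all step = true := by decide +kernel

/-- `a t = 0`, `b t ≠ 0` for some vector `t` -/
def sep (a b : ℕ) : Bool := (List.range 729).any fun t => Nat.beq (dot a t % 3) 0 && !Nat.beq (dot b t % 3) 0

theorem sep_sound {a b : ℕ} (h : sep a b = true) : ∃ t < 729, dot a t % 3 = 0 ∧ dot b t % 3 ≠ 0 := by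
  obtain ⟨t, ht, h1⟩ := List.any_eq_true.1 h
  rw [Bool.and_eq_true, Bool.not_eq_true', Nat.beq_eq] at h1
  refine ⟨t, List.mem_range.1 ht, h1.1, fun h2 => ?_⟩
  rw [h2] at h1
  exact absurd h1.2 (by decide)

/-- the same with `t` in the subgroup of order `3^5` -/
def sepA (a b : ℕ) : Bool :=
  (List.range 243).any fun s => Nat.beq (dot a (comb s) % 3) 0 && !Nat.beq (dot b (comb s) % 3) 0

theorem sepA_sound {a b : ℕ} (h : sepA a b = true) : ∃ s < 243, dot a (comb s) % 3 = 0 ∧ dot b (comb s) % 3 ≠ 0 := by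
  obtain ⟨t, ht, h1⟩ := List.any_eq_true.1 h
  rw [Bool.and_eq_true, Bool.not_eq_true', Nat.beq_eq] at h1
  refine ⟨t, List.mem_range.1 ht, h1.1, fun h2 => ?_⟩
  rw [h2] at h1
  exact absurd h1.2 (by decide)

/-- the small orbit contains `n` -/
def small (n : ℕ) : Bool := (List.range 12).any fun i => Nat.beq n (hN i) || Nat.beq (neg n) (hN i)

/-- 13 codes of the middle orbit -/
def c1 (i : ℕ) : ℕ := [1, 3, 4, 5, 9, 10, 11, 12, 13, 14, 15, 17, 27].getD i 0

/-- 13 codes of the large orbit -/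
def c2 (i : ℕ) : ℕ := [16, 31, 39, 41, 43, 44, 47, 49, 52, 53, 86, 94, 95].getD i 0

theorem root_ok : (all fun n => small n || Nat.beq (root n) 575 || Nat.beq (root n) 532) = true := by decide +kernel

theorem hN_root : ((List.range 12).all fun i => Nat.blt 0 (hN i) && Nat.blt (hN i) 729 && Nat.beq (root (hN i)) 368) = true := by
  decide +kernel

theorem c1_root : ((List.range 13).all fun i => Nat.blt 0 (c1 i) && Nat.blt (c1 i) 729 && Nat.beq (root (c1 i)) 575) = true := by
  decide +kernel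

theorem c2_root : ((List.range 13).all fun i => Nat.blt 0 (c2 i) && Nat.blt (c2 i) 729 && Nat.beq (root (c2 i)) 532) = true := by
  decide +kernel

theorem hN_sep : ((List.range 12).all fun i => (List.range 12).all fun k => Nat.beq i k || sep (hN i) (hN k)) = true := by
  decide +kernel

theorem hN_sepA : ((List.range 12).all fun i => (List.range 12).all fun k => Nat.beq i k || sepA (hN i) (hN k)) = true := by
  decide +kernel

theorem c1_sep : ((List.range 13).all fun i => (List.range 13).all fun k => Nat.beq i k || sep (c1 i) (c1 k)) = true := by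
  decide +kernel

theorem c2_sep : ((List.range 13).all fun i => (List.range 13).all fun k => Nat.beq i k || sep (c2 i) (c2 k)) = true := by
  decide +kernel

theorem all2 {m : ℕ} {p : ℕ → ℕ → Bool} (h : ((List.range m).all fun i => (List.range m).all fun k => Nat.beq i k || p i k) = true)
    {i k : ℕ} (hi : i < m) (hk : k < m) (hik : i ≠ k) : p i k = true := by
  have h1 := List.all_eq_true.1 (List.all_eq_true.1 h i (List.mem_range.2 hi)) k (List.mem_range.2 hk)
  rw [Bool.or_eq_true, Nat.beq_eq] at h1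
  exact h1.resolve_left hik

theorem all3 {m r : ℕ} {c : ℕ → ℕ}
    (h : ((List.range m).all fun i => Nat.blt 0 (c i) && Nat.blt (c i) 729 && Nat.beq (root (c i)) r) = true)
    {i : ℕ} (hi : i < m) : 0 < c i ∧ c i < 729 ∧ root (c i) = r := by
  have h1 := List.all_eq_true.1 h i (List.mem_range.2 hi)
  rw [Bool.and_eq_true, Bool.and_eq_true, Nat.beq_eq, Nat.blt_eq, Nat.blt_eq] at h1
  exact ⟨h1.1.1, h1.1.2, h1.2⟩

/-- an equivalence relation on the nonzero codes preserved by the generators -/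
structure Inv (R : ℕ → ℕ → Prop) : Prop where
  refl : ∀ n, 0 < n → n < 729 → R n n
  symm : ∀ n m, R n m → R m n
  trans : ∀ n m l, R n m → R m l → R n l
  r1 : ∀ n, 0 < n → n < 729 → R n (T A1 n)
  r2 : ∀ n, 0 < n → n < 729 → R n (T A2 n)
  rneg : ∀ n, 0 < n → n < 729 → R n (neg n)

namespace Inv

variable {R : ℕ → ℕ → Prop} (h : Inv R)
include h

theorem par_ok {n : ℕ} (h0 : 0 < n) (hn : n < 729) : 0 < par n ∧ par n < 729 ∧ R n (par n) := by
  have h1 := all_sound step_ok h0 hn
  unfold step at h1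
  simp only [Bool.and_eq_true, Bool.or_eq_true, Nat.beq_eq, Nat.blt_eq] at h1
  obtain ⟨⟨h2, h3⟩, h4⟩ := h1
  refine ⟨h2, h3, ?_⟩
  rcases h4 with ((((h4 | h4) | h4) | h4) | h4) | h4
  · rw [h4]; exact h.refl n h0 hn
  · rw [h4]; exact h.r1 n h0 hn
  · rw [h4]; exact h.r2 n h0 hn
  · rw [h4]; exact h.rneg n h0 hn
  · have h5 := h.r1 _ h2 h3
    rw [← h4] at h5
    exact h.symm _ _ h5
  · have h5 := h.r2 _ h2 h3
    rw [← h4] at h5
    exact h.symm _ _ h5

theorem iter (k : ℕ) {n : ℕ} (h0 : 0 < n) (hn : n < 729) : 0 < par^[k] n ∧ par^[k] n < 729 ∧ R n (par^[k] n) := by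
  induction k with
  | zero => exact ⟨h0, hn, h.refl n h0 hn⟩
  | succ k ih =>
    rw [Function.iterate_succ_apply']
    have h1 := h.par_ok ih.1 ih.2.1
    exact ⟨h1.1, h1.2.1, h.trans _ _ _ ih.2.2 h1.2.2⟩

theorem root_rel {n : ℕ} (h0 : 0 < n) (hn : n < 729) : R n (root n) := (h.iter 7 h0 hn).2.2

theorem rel_of_root {n m : ℕ} (h0 : 0 < n) (hn : n < 729) (m0 : 0 < m) (hm : m < 729) (he : root n = root m) : R n m := by
  have h1 := h.root_rel h0 hn
  rw [he] at h1
  exact h.trans _ _ _ h1 (h.symm _ _ (h.root_rel m0 hm))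

/-- (i) -/
theorem small_conn {i k : ℕ} (hi : i < 12) (hk : k < 12) : R (hN i) (hN k) := by
  obtain ⟨a1, a2, a3⟩ := all3 hN_root hi
  obtain ⟨b1, b2, b3⟩ := all3 hN_root hk
  exact h.rel_of_root a1 a2 b1 b2 (a3.trans b3.symm)

/-- (ii) -/
theorem cases {n : ℕ} (h0 : 0 < n) (hn : n < 729) : (∃ i < 12, n = hN i ∨ neg n = hN i) ∨
    ∃ c : Fin 13 → ℕ, (∀ i, 0 < c i ∧ c i < 729 ∧ R n (c i)) ∧
      ∀ i k, i ≠ k → ∃ t < 729, dot (c i) t % 3 = 0 ∧ dot (c k) t % 3 ≠ 0 := by
  have h1 := all_sound root_ok h0 hn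
  simp only [Bool.or_eq_true, Nat.beq_eq] at h1
  rcases h1 with (h1 | h1) | h1
  · left
    obtain ⟨i, hi, h2⟩ := List.any_eq_true.1 h1
    rw [Bool.or_eq_true, Nat.beq_eq, Nat.beq_eq] at h2
    exact ⟨i, List.mem_range.1 hi, h2⟩
  · right
    refine ⟨fun i => c1 i, fun i => ?_, fun i k hik => ?_⟩
    · obtain ⟨a1, a2, a3⟩ := all3 c1_root i.2
      exact ⟨a1, a2, h.rel_of_root h0 hn a1 a2 (h1.trans a3.symm)⟩
    · exact sep_sound (all2 c1_sep i.2 k.2 (fun he => hik (Fin.ext he)))
  · right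
    refine ⟨fun i => c2 i, fun i => ?_, fun i k hik => ?_⟩
    · obtain ⟨a1, a2, a3⟩ := all3 c2_root i.2
      exact ⟨a1, a2, h.rel_of_root h0 hn a1 a2 (h1.trans a3.symm)⟩
    · exact sep_sound (all2 c2_sep i.2 k.2 (fun he => hik (Fin.ext he)))

end Inv

/-- (iii) -/
theorem hN_sep' {i k : ℕ} (hi : i < 12) (hk : k < 12) (hik : i ≠ k) :
    ∃ t < 729, dot (hN i) t % 3 = 0 ∧ dot (hN k) t % 3 ≠ 0 := sep_sound (all2 hN_sep hi hk hik)

/-- (iv) -/
theorem hN_sepA' {i k : ℕ} (hi : i < 12) (hk : k < 12) (hik : i ≠ k) :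
    ∃ s < 243, dot (hN i) (comb s) % 3 = 0 ∧ dot (hN k) (comb s) % 3 ≠ 0 := sepA_sound (all2 hN_sepA hi hk hik)

/-- the codes `hN i` are codes of nonzero functionals -/
theorem hN_pos {i : ℕ} (hi : i < 12) : 0 < hN i ∧ hN i < 729 :=
  ⟨(all3 hN_root hi).1, (all3 hN_root hi).2.1⟩

end Cfsg.Agent.MonsterU.ModOrb
end

-- part: MonsterU/ModGlue
section
/-!
# `ModuleThm` from the abstract uniqueness theorem

Glue between `ModAbs.exists_iso` (for `Γ = Co1`, `n = 12`) and `Ch.ModuleThm`.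
-/

set_option autoImplicit false

universe u

namespace Cfsg.Agent.MonsterU.ModGlue

open Cfsg Cfsg.Spor Cfsg.Agent.MonsterU.Lam2 Cfsg.Agent.MonsterU.ModAbs

/-- a nontrivial representation of the simple group `Co1` is faithful -/
theorem faithful {V : Type*} [AddCommGroup V] [Module (ZMod 2) V] (ρ : Representation (ZMod 2) Co1 V)
    (hne : ∃ g v, ρ g v ≠ v) {g : Co1} (hg : ∀ v, ρ g v = v) : g = 1 := by
  have hs : IsSimpleGroup (Co0 ⧸ Subgroup.center Co0) := Cfsg.Agent.S0399.result.1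
  let N : Subgroup Co1 :=
    { carrier := {g | ∀ v, ρ g v = v}
      one_mem' := fun v => rho_one ρ v
      mul_mem' := fun {a b} ha hb v => by rw [rho_mul, hb v, ha v]
      inv_mem' := fun {a} ha v => by
        have := rho_inv ρ a v
        rwa [ha v] at this }
  have hN : N.Normal := ⟨fun n hn g v => by
    rw [rho_mul, rho_mul, hn, rho_inv']⟩
  rcases hs.eq_bot_or_eq_top_of_normal N hN with h | h
  · have h1 : g ∈ N := hg
    rw [h, Subgroup.mem_bot] at h1
    exact h1
  · exfalso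
    obtain ⟨k, v, hkv⟩ := hne
    apply hkv
    have h1 : k ∈ N := by rw [h]; trivial
    exact h1 v

/-- both modules are `Good` -/
theorem good (D : Setup Co1 12) {V : Type*} [AddCommGroup V] [Module (ZMod 2) V] (hV : Nat.card V = 2 ^ 24)
    (ρ : Representation (ZMod 2) Co1 V) (hne : ∃ g v, ρ g v ≠ v) : Good D ρ := by
  refine ⟨by rw [hV]; norm_num, ?_⟩
  obtain ⟨a, ha, haH⟩ := (D.hyp 0).ne
  refine ⟨a, ha, ?_⟩
  by_contra hno
  push Not at hno
  have h1 := faithful ρ hne hno
  apply haH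
  rw [h1]
  exact (D.H 0).one_mem

theorem rep1_ne : ∃ g v, rep1 g v ≠ v := by
  by_contra hno
  push Not at hno
  have hs : IsSimpleGroup (Co0 ⧸ Subgroup.center Co0) := Cfsg.Agent.S0399.result.1
  obtain ⟨a, b, hab⟩ := hs.exists_pair_ne
  exact hab (eq_of_smul fun x => by rw [← rep1_apply, ← rep1_apply, hno, hno])

/-- **The module theorem** from a `Setup` for `Co1`, an element `x` with trivial commutant condition and generation. -/
theorem moduleThm (D : Setup Co1 12) (x : Co1)
    (hc : ∀ c : L2 ≃ₗ[ZMod 2] L2, (∀ y ∈ D.M, x⁻¹ * y * x ∈ D.M → ∀ v, c (rep1 y v) = rep1 y (c v)) → ∀ v, c v = v)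
    (htop : Subgroup.closure (insert x D.M) = ⊤) : Ch.ModuleThm.{u} := by
  intro V _ _ hV ρ hne
  obtain ⟨f, hf⟩ := exists_iso (good D card_L2 rep1 rep1_ne) (good D hV ρ hne) x hc htop
  refine ⟨f.symm, fun g v => ?_⟩
  rw [LinearEquiv.symm_apply_eq, hf, LinearEquiv.apply_symm_apply]

end Cfsg.Agent.MonsterU.ModGlue
end

-- part: MonsterU/ModThm
section
/-!
# The module theorem from explicit relations in `Co1`

`Rels el`: the relations between the elements `el 0, …, el 5` (basis of `E = 3⁶`), `el 6 = j`, `el 7 = l₁`, `el 8 = l₂`,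
`el 9 = h` of `Co1`.  They imply `ModuleThm`.
-/

set_option autoImplicit false

universe u

namespace Cfsg.Agent.MonsterU.ModThm

open Cfsg Cfsg.Spor Cfsg.Agent.MonsterU.Lam2 Cfsg.Agent.MonsterU.ModAbs Cfsg.Agent.MonsterU.ModComm
open Cfsg.Agent.MonsterU.ModEv Cfsg.Agent.MonsterU.ModLin Cfsg.Agent.MonsterU.ModOrb

/-- the conjugation tables of `g_m = h⁻¹ (ev (al m)) h` (`m < 5`) and `g_5 = h⁻¹ j h` -/
def Bt (m k : ℕ) : ℕ :=
  (([[1, 3, 9, 27, 81, 243], [6, 81, 385, 27, 2, 641], [18, 385, 486, 27, 538, 1], [162, 2, 538, 27, 3, 125],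
    [680, 538, 442, 27, 9, 6], [486, 125, 18, 54, 641, 2]] : List (List ℕ)).getD m []).getD k 0

/-- `j g_m j g_m⁻¹ = ev (beta m)` -/
def beta (m : ℕ) : ℕ := [27, 316, 0, 607, 551, 0].getD m 0

/-- the elements `g_m` -/
def gm {Γ : Type*} [Group Γ] (el : ℕ → Γ) (m : ℕ) : Γ :=
  if m < 5 then (el 9)⁻¹ * ev el (dg (al m)) * el 9 else (el 9)⁻¹ * el 6 * el 9

/-- the relations -/
structure Rels (el : ℕ → Co1) : Prop where
  comm : ∀ k < 6, ∀ l < 6, el k * el l = el l * el k
  cube : ∀ k < 6, el k ^ 3 = 1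
  indep : ∀ n, 0 < n → n < 729 → ev el (dg n) ≠ 1
  jj : el 6 * el 6 = 1
  jinv : ∀ k < 6, el 6 * el k * el 6 = (el k)⁻¹
  l1 : ∀ k < 6, el 7 * el k * (el 7)⁻¹ = ev el (dg (A1 k))
  l2 : ∀ k < 6, el 8 * el k * (el 8)⁻¹ = ev el (dg (A2 k))
  l1j : el 6 * el 7 * el 6 * (el 7)⁻¹ = 1
  l2j : el 6 * el 8 * el 6 * (el 8)⁻¹ = 1
  gB : ∀ m < 6, ∀ k < 6, gm el m * el k * (gm el m)⁻¹ = ev el (dg (Bt m k))
  gj : ∀ m < 6, el 6 * gm el m * el 6 * (gm el m)⁻¹ = ev el (dg (beta m))
  gen : ∀ S : Subgroup Co1, el 0 ∈ S → el 1 ∈ S → el 7 ∈ S → el 8 ∈ S → el 9 ∈ S → S = ⊤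

variable {el : ℕ → Co1}

theorem Rels.bas (R : Rels el) : Bas el := ⟨R.comm, R.cube, R.indep⟩

theorem Rels.inv (R : Rels el) : Inv (Rel R.bas) where
  refl n _ _ := Rel.refl R.bas n
  symm _ _ h := h.symm
  trans _ _ _ h h' := h.trans h'
  r1 n _ _ := Rel.of_conj R.bas R.l1 n
  r2 n _ _ := Rel.of_conj R.bas R.l2 n
  rneg n _ _ := Rel.neg R.bas n

/-- the `Setup` for `Co1` -/
noncomputable def Rels.setup (R : Rels el) : Setup Co1 12 :=
  mkSetup R.bas (el 6) R.jj R.jinv hN (fun _ hi => hN_pos hi) (fun _ hi _ hk => R.inv.small_conn hi hk)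
    (fun _ h0 hn => R.inv.cases h0 hn) (fun _ hi _ hk hik => hN_sep' hi hk hik)

theorem comb_eq (s : ℕ) : comb s = cd (fun l => ∑ m ∈ Finset.range 5, dg s m * dg (al m) l) := by
  simp only [comb, cd, Finset.sum_range_succ, Finset.sum_range_zero, zero_add]

theorem ev_zero0 {Γ : Type*} [Group Γ] (e : ℕ → Γ) : ev e (dg 0) = 1 :=
  ev_zero' _ fun k _ => by unfold dg; simp

/-- the subgroup `A` of order `3⁵` -/
def Asub (el : ℕ → Co1) : Subgroup Co1 := Subgroup.closure {x | ∃ m < 5, x = ev el (dg (al m))}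

theorem Rels.A_le (R : Rels el) : Asub el ≤ EE R.bas := by
  unfold Asub
  rw [Subgroup.closure_le]
  rintro _ ⟨m, _, rfl⟩
  exact ev_mem R.bas _

theorem Rels.sep (R : Rels el) (i k : Fin 12) (hik : i ≠ k) :
    ∃ x ∈ Asub el, x ∈ R.setup.H i ∧ x ∉ R.setup.H k := by
  obtain ⟨s, _, h1, h2⟩ := hN_sepA' i.2 k.2 (fun h => hik (Fin.ext h))
  refine ⟨ev el (dg (comb s)), ?_, ?_, ?_⟩
  · rw [comb_eq, ev_code R.bas]
    exact comb_mem R.bas (Asub el) al (dg s) fun m hm => Subgroup.subset_closure ⟨m, hm, rfl⟩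
  · rw [dot_eq] at h1
    exact (mem_KK R.bas).2 h1
  · rw [dot_eq] at h2
    exact fun h => h2 ((mem_KK R.bas).1 h)

theorem Rels.gm_mem (R : Rels el) (m : ℕ) (hm : m < 6) : gm el m ∈ R.setup.M :=
  mem_M (B := R.bas) (D := R.setup) rfl (R.gB m hm) (R.gj m hm)

/-- **(A1)** -/
theorem Rels.moduleThm (R : Rels el) : Ch.ModuleThm.{u} := by
  refine ModGlue.moduleThm R.setup (el 9) ?_ ?_
  · intro c hc
    have hj : (el 9)⁻¹ * R.setup.j * el 9 ∈ R.setup.M := by
      have h := R.gm_mem 5 (by norm_num)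
      rwa [gm, if_neg (by norm_num)] at h
    have hA : ∀ y ∈ Asub el, (el 9)⁻¹ * y * el 9 ∈ Msub R.setup := by
      intro y hy
      unfold Asub at hy
      induction hy using Subgroup.closure_induction with
      | mem x hx =>
        obtain ⟨m, hm, rfl⟩ := hx
        have h := R.gm_mem m (by omega)
        rwa [gm, if_pos hm] at h
      | one =>
        rw [mul_one, inv_mul_cancel]
        exact (Msub R.setup).one_mem
      | mul x y _ _ hx hy =>
        have := (Msub R.setup).mul_mem hx hy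
        rwa [show (el 9)⁻¹ * x * el 9 * ((el 9)⁻¹ * y * el 9) = (el 9)⁻¹ * (x * y) * el 9 by group] at this
      | inv x _ hx =>
        have := (Msub R.setup).inv_mem hx
        rwa [show ((el 9)⁻¹ * x * el 9)⁻¹ = (el 9)⁻¹ * x⁻¹ * el 9 by group] at this
    have hG := ModGlue.good R.setup card_L2 rep1 ModGlue.rep1_ne
    have hout : ∀ i, ∃ x ∈ Asub el, x ∉ R.setup.H i := by
      intro i
      obtain ⟨k, hk⟩ : ∃ k : Fin 12, k ≠ i := exists_ne i
      obtain ⟨x, hx, _, h⟩ := R.sep k i hk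
      exact ⟨x, hx, h⟩
    exact commutant hG (Asub el) R.A_le (fun i k hik => R.sep i k hik) hout c
      (fun y hy => hc y (E_le R.setup (R.A_le hy)) (hA y hy)) (hc R.setup.j (j_mem R.setup) hj)
  · have hle : (Msub R.setup : Set Co1) ⊆ Subgroup.closure (insert (el 9) R.setup.M) :=
      fun x hx => Subgroup.subset_closure (Set.mem_insert_of_mem _ hx)
    apply R.gen
    · exact hle (E_le R.setup (e_mem R.bas (by norm_num)))
    · exact hle (E_le R.setup (e_mem R.bas (by norm_num)))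
    · exact hle (mem_M (B := R.bas) (D := R.setup) (b := 0) rfl R.l1 (by rw [ev_zero0]; exact R.l1j))
    · exact hle (mem_M (B := R.bas) (D := R.setup) (b := 0) rfl R.l2 (by rw [ev_zero0]; exact R.l2j))
    · exact Subgroup.subset_closure (Set.mem_insert _ _)

end Cfsg.Agent.MonsterU.ModThm
end

-- part: MonsterU/ModCode
section
/-!
# The relations in `Co1`

Words in explicit elements of `Co1` are compared on the 24 basis codes of `Λ / 2Λ`.
-/

set_option autoImplicit false
set_option maxRecDepth 100000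

namespace Cfsg.Agent.MonsterU.ModCode

open Cfsg Cfsg.Spor Cfsg.Agent.MonsterU.Lam2 Cfsg.Agent.MonsterU.ModEv
open Cfsg.Agent.MonsterX.Lin24 Cfsg.Agent.MonsterX.FrameAct Cfsg.Agent.MonsterX.FrameLet
open Cfsg.Agent.MonsterX.FrameStab

/-! ### Codes on `L2` -/

/-- the code of a class -/
noncomputable def code (x : L2) : ℕ := codeL (Function.surjInv cl_surjective x)

theorem code_cl (v : leechLattice) : code (cl v) = codeL v := by
  unfold code
  rw [codeL_eq_iff, ← cl_eq, Function.surjInv_eq cl_surjective]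

theorem code_lt (x : L2) : code x < 2 ^ 24 := codeL_lt _

theorem code_inj {x y : L2} (h : code x = code y) : x = y := by
  obtain ⟨v, rfl⟩ := cl_surjective x
  obtain ⟨w, rfl⟩ := cl_surjective y
  rw [code_cl, code_cl, codeL_eq_iff] at h
  exact cl_eq.2 h

/-- `g` acts through the matrix `c` -/
def Rp (g : Co1) (c : ℕ) : Prop := ∀ x : L2, code (g • x) = lin c (code x)

theorem Rp.of_co0 {A : Co0} {c : ℕ} (h : ∀ v, codeL (A • v) = lin c (codeL v)) : Rp (QuotientGroup.mk A) c := by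
  intro x
  obtain ⟨v, rfl⟩ := cl_surjective x
  rw [mk_smul, smul_cl, code_cl, code_cl, h]

theorem eq_of_code {g h : Co1} (hgh : ∀ x : L2, code (g • x) = code (h • x)) : g = h :=
  eq_of_smul fun x => code_inj (hgh x)

theorem Rp.inv {g : Co1} {c d : ℕ} (hg : Rp g c) (h : cmpOK c d idc = true) : Rp g⁻¹ d := by
  intro x
  have hy : ∃ y : L2, code y = lin d (code x) := by
    obtain ⟨v, hv⟩ := codeL_surj (lin_lt d (code x))
    exact ⟨cl v, by rw [code_cl, hv]⟩
  obtain ⟨y, hy⟩ := hy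
  have h1 : code (g • y) = code x := by
    rw [hg, hy, ← lin_cmp h, lin_one (code_lt x)]
  rw [← code_inj h1, inv_smul_smul, hy, code_inj h1]

/-- the image of a code under a word -/
noncomputable def run (t : ℕ → ℕ) (w : List ℕ) (v : ℕ) : ℕ :=
  List.rec (motive := fun _ => ℕ) v (fun a _ r => lin (t a) r) w

theorem run_cons (t : ℕ → ℕ) (a : ℕ) (w : List ℕ) (v : ℕ) : run t (a :: w) v = lin (t a) (run t w v) := rfl

theorem run_xor (t : ℕ → ℕ) (w : List ℕ) (a b : ℕ) : run t w (a ^^^ b) = run t w a ^^^ run t w b := by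
  induction w with
  | nil => rfl
  | cons x w ih => rw [run_cons, run_cons, run_cons, ih, lin_xor]

theorem run_zero (t : ℕ → ℕ) (w : List ℕ) : run t w 0 = 0 := by
  induction w with
  | nil => rfl
  | cons x w ih => rw [run_cons, ih, lin_zero]

/-- the product of a word -/
def W (g : ℕ → Co1) (w : List ℕ) : Co1 := (w.map g).prod

theorem W_cons (g : ℕ → Co1) (a : ℕ) (w : List ℕ) : W g (a :: w) = g a * W g w := by
  unfold W; rw [List.map_cons, List.prod_cons]

theorem W_append (g : ℕ → Co1) (w w' : List ℕ) : W g (w ++ w') = W g w * W g w' := by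
  unfold W; rw [List.map_append, List.prod_append]

theorem code_W {t : ℕ → ℕ} {g : ℕ → Co1} {w : List ℕ} (h : ∀ a ∈ w, Rp (g a) (t a)) (x : L2) :
    code (W g w • x) = run t w (code x) := by
  induction w with
  | nil => show code ((1 : Co1) • x) = code x; rw [one_smul]
  | cons a w ih =>
    rw [W_cons, mul_smul, h a List.mem_cons_self, ih fun b hb => h b (List.mem_cons_of_mem _ hb), run_cons]

/-- two additive maps on codes that agree on the basis agree -/
theorem ext_basis {f g : ℕ → ℕ} (hf0 : f 0 = 0) (hg0 : g 0 = 0) (hf : ∀ a b, f (a ^^^ b) = f a ^^^ f b)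
    (hg : ∀ a b, g (a ^^^ b) = g a ^^^ g b) (h : ∀ i < 24, f (2 ^ i) = g (2 ^ i)) {v : ℕ} (hv : v < 2 ^ 24) :
    f v = g v := by
  have h0 : allB 24 (fun i => Nat.beq (col idc i) (2 ^ i)) = true := by decide +kernel
  have h1 : ∀ n ≤ 24, f (linN idc v n) = g (linN idc v n) := by
    intro n
    induction n with
    | zero => intro _; rw [linN_zero, hf0, hg0]
    | succ n ih =>
      intro hn
      have h2 := Nat.eq_of_beq_eq_true (allB_sound h0 n (by omega))
      rw [linN_succ, hf, hg, ih (by omega), h2]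
      cases v.testBit n
      · show _ ^^^ f 0 = _ ^^^ g 0
        rw [hf0, hg0]
      · show _ ^^^ f (2 ^ n) = _ ^^^ g (2 ^ n)
        rw [h n (by omega)]
  have h2 := h1 24 le_rfl
  have h3 : linN idc v 24 = v := lin_one hv
  rwa [h3] at h2

/-- comparison of two words -/
noncomputable def same (t : ℕ → ℕ) (w₁ w₂ : List ℕ) : Bool :=
  allB 24 fun i => Nat.beq (run t w₁ (2 ^ i)) (run t w₂ (2 ^ i))

theorem W_eq {t : ℕ → ℕ} {g : ℕ → Co1} {w₁ w₂ : List ℕ} (h₁ : ∀ a ∈ w₁, Rp (g a) (t a))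
    (h₂ : ∀ a ∈ w₂, Rp (g a) (t a)) (h : same t w₁ w₂ = true) : W g w₁ = W g w₂ := by
  apply eq_of_code
  intro x
  rw [code_W h₁, code_W h₂]
  exact ext_basis (run_zero t w₁) (run_zero t w₂) (run_xor t w₁) (run_xor t w₂)
    (fun i hi => Nat.eq_of_beq_eq_true (allB_sound h i hi)) (code_lt x)

/-- the matrix of a word -/
noncomputable def isMat (t : ℕ → ℕ) (w : List ℕ) (c : ℕ) : Bool :=
  allB 24 fun i => Nat.beq (run t w (2 ^ i)) (lin c (2 ^ i))

theorem Rp.of_word {t : ℕ → ℕ} {g : ℕ → Co1} {w : List ℕ} {c : ℕ} (h : ∀ a ∈ w, Rp (g a) (t a))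
    (hc : isMat t w c = true) : Rp (W g w) c := by
  intro x
  rw [code_W h]
  exact ext_basis (run_zero t w) (lin_zero c) (run_xor t w) (lin_xor c)
    (fun i hi => Nat.eq_of_beq_eq_true (allB_sound hc i hi)) (code_lt x)

/-! ### The letters -/

/-- matrices of the letters `0..11` sign changes, `12` shift, `13` cube twist, `14` projective inversion, `15` ξ, `16`,
`17` inverses of `12`, `13` -/
noncomputable def lt (a : ℕ) : ℕ :=
  if a < 12 then yC.getD a 0 else [paC, pdC, pgC, xiC, paIC, pdIC].getD (a - 12) 0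

theorem exists_letter (a : ℕ) : ∃ g : Co1, a < 18 → Rp g (lt a) := by
  by_cases h : a < 12
  · obtain ⟨A, hA⟩ := ModLet.exists_y a h
    refine ⟨QuotientGroup.mk A, fun _ => ?_⟩
    rw [show lt a = yC.getD a 0 from if_pos h]
    exact Rp.of_co0 (code_sign h hA)
  · obtain ⟨S, hS⟩ := ModLet.exists_perm Cfsg.Agent.SporadicA.M24Gens.shift_mem
    obtain ⟨C, hC⟩ := ModLet.exists_perm Cfsg.Agent.SporadicA.M24Gens.cubeTwist_mem
    obtain ⟨I, hI⟩ := ModLet.exists_perm Cfsg.Agent.SporadicA.M24Gens.projInv_mem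
    obtain ⟨X, hX⟩ := ModLet.exists_xi
    have hS' : Rp (QuotientGroup.mk S) paC := Rp.of_co0 (code_shift hS)
    have hC' : Rp (QuotientGroup.mk C) pdC := Rp.of_co0 (code_cube hC)
    by_cases h2 : a < 18
    · have h3 : a = 12 ∨ a = 13 ∨ a = 14 ∨ a = 15 ∨ a = 16 ∨ a = 17 := by omega
      rcases h3 with rfl | rfl | rfl | rfl | rfl | rfl
      · exact ⟨_, fun _ => hS'⟩
      · exact ⟨_, fun _ => hC'⟩
      · exact ⟨_, fun _ => Rp.of_co0 (code_projInv hI)⟩
      · exact ⟨_, fun _ => Rp.of_co0 (code_xi hX)⟩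
      · exact ⟨_, fun _ => hS'.inv pa_inv⟩
      · exact ⟨_, fun _ => hC'.inv pd_inv⟩
    · exact ⟨1, fun h4 => absurd h4 h2⟩

/-- the letters -/
noncomputable def L (a : ℕ) : Co1 := (exists_letter a).choose

theorem rp_L {a : ℕ} (h : a < 18) : Rp (L a) (lt a) := (exists_letter a).choose_spec h

/-! ### The elements -/

/-- matrix of `e0` -/
def e0C : ℕ := 0xf247e10db91fa018975a0cc89b3b696db9856be8970336264f6580c256720336346beee0569284a04d6d504861ae988013b5699334089da99f0eb4eb9b34696008290f94f99da6d7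
/-- matrix of `e1` -/
def e1C : ℕ := 0xba13be1700b10199a051bab63bdf1430901d1bdf1b199de44e08601939d1b969216bf466569002b15509414ac3c56cf602b83f9334488cbc897447a78a23f97100a71e9105ce2bf4
/-- matrix of `e2` -/
def e2C : ℕ := 0xd0348defc8f99070f0ab90f1a91f6617e790e1d793a0576c9f3c17a0c89af980ad6bed2a3d67be214823d147b7ae9b4a92b50b9334081cb569e445fb1a356fe116718e9a4b1eebb9
/-- matrix of `e3` -/
def e3C : ℕ := 0x9540f159606e0c90ff3150b45ceb6de55eb5c76fd77d1b676756828127f240463c6beaf03d60640eb0fb955359ae9c90d6b611f8dab858b009a04d6d5e3289a50defca94a77ea359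
/-- matrix of `e4` -/
def e4C : ℕ := 0x5cc11919729edde534001ae4cd454013f1a0ac535756ee27dd0c057ba7390084306be83c3d7aa8255e9dd55225ae8f5c96be2df8daf818a075e056dd1e2a5fe51ef58a8657ed4561
/-- matrix of `e5` -/
def e5C : ℕ := 0xd3a34926813beb38e112dc5e921229660b3b02d6c9fa054f25fdf6c2011afa055d6bfef2568296a17e5751745bae88921282939334089c8fd7647a199a1d2161212d655a0b65a3a8
/-- matrix of `j` -/
def jC : ℕ := 0x8003a84002cc200d80101ae4081f0004051602191e010062009c200045600020700010000008000014000012000001000010800000400010200010100010080010040010026bf1a9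
/-- matrix of `l1` -/
def l1C : ℕ := 0xc43df6068692fa0546abaee000e4d0fb3598b3e9684071be44dac6bf5a249f80f2001000000e3a00061a00162a00073a000f0400055c0006ba0005e0001cac0010f600043a018779
/-- matrix of `l2` -/
def l2C : ℕ := 0x940026561df66814ae240ac6e40b1ef00a5a901bbc3497fae4480c502738a11778001000001f6800002000008000163a00193e001d980003da000008000004000002000010a408c7
/-- matrix of `h` -/
def hC : ℕ := 0xceff2e6de951b2de7fa0ed35814a0467267b828809024191dce8e5348be8a289990014a2cb3ce04a3336b581fe0004024a361a0004804a3de6cb24f0b58c666e3a02cb2398eaf627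
/-- matrix of the inverse of `l1` -/
def l1iC : ℕ := 0x88892cffbfc0fa150c1d1a7003cdda055baab3f936d67cd2f6b0700cca1cf26e1a001000000b66000a58000364000266000346000c0e0007660011660015aa0000bc0009f020c85d
/-- matrix of the inverse of `l2` -/
def l2iC : ℕ := 0x8c15e89406169201f68e04b6261730821552d80e361e24f69f02fe089fa81a5fd00010000018ea0006cc0013da000c74000200001d980004000000020000100000080000049c0633
/-- matrix of the inverse of `h` -/
def hiC : ℕ := 0x82cfae9f9b41487ac4622d16a7201fa3864ce39b4d692752282a66629b887ada4100177aa1bbaacb7c4820d74620820ccb7c0820cc4ccb7a72a1a4c0209f2e001f98cb7d48ca5a01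

/-- matrices of `e0, …, e5, j, l1, l2, h, h⁻¹, l1⁻¹, l2⁻¹` -/
noncomputable def mt (a : ℕ) : ℕ := [e0C, e1C, e2C, e3C, e4C, e5C, jC, l1C, l2C, hC, hiC, l1iC, l2iC].getD a 0

/-- words of the elements in the letters -/
def wd (a : ℕ) : List ℕ :=
  ([[1, 15, 12, 12, 12, 15, 14, 12, 12, 12, 14, 15, 6, 11, 17, 17, 12, 17, 16, 16, 16, 13, 16, 14, 13, 16, 13, 12, 13, 16, 14],
    [15, 14, 13, 12, 12, 15, 14, 12, 12, 13, 12, 15, 1, 2, 5, 6, 7, 8, 9, 17, 16, 17, 12, 17, 12, 17, 16, 17, 14, 12, 12, 13, 12, 13],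
    [15, 14, 13, 12, 12, 15, 2, 5, 6, 8, 11, 12, 12, 12, 14, 16, 15, 1, 3, 12, 13, 13, 16, 16, 13, 12, 13, 12, 17, 14, 12, 12, 12, 14],
    [15, 14, 16, 16, 13, 12, 15, 16, 13, 12, 14, 13, 15, 4, 5, 8, 9, 10, 13, 12, 12, 13, 13, 12, 13, 16, 16, 14, 13, 12, 13, 13, 16, 14, 13],
    [15, 13, 13, 12, 13, 12, 15, 14, 12, 12, 13, 12, 12, 12, 15, 1, 2, 4, 8, 9, 14, 16, 16, 17, 12, 13, 12, 14, 16, 16, 16, 16, 13, 12, 17],
    [1, 15, 13, 12, 12, 13, 13, 15, 16, 16, 13, 12, 12, 12, 15, 1, 2, 9, 11, 14, 16, 13, 16, 13, 16, 13, 12, 17, 12, 13, 16, 17, 16, 17, 14, 12],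
    [1, 2, 3, 4, 5, 7, 9, 10],
    [3, 4, 12, 13, 16, 16, 16, 17, 16, 17, 16, 14, 12, 17, 16],
    [6, 9, 11, 16, 17, 17, 12, 17, 17, 16, 16, 13, 12, 13, 12],
    [13, 13, 16, 16, 13, 12, 15, 10, 14, 13, 13, 16, 17, 17, 16, 17, 16, 13, 16, 17, 12, 12]] : List (List ℕ)).getD a []

theorem wd_lt : ∀ a < 10, ∀ b ∈ wd a, b < 18 := by decide +kernel

theorem mat_e0 : isMat lt (wd 0) e0C = true := by decide +kernel
theorem mat_e1 : isMat lt (wd 1) e1C = true := by decide +kernel
theorem mat_e2 : isMat lt (wd 2) e2C = true := by decide +kernel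
theorem mat_e3 : isMat lt (wd 3) e3C = true := by decide +kernel
theorem mat_e4 : isMat lt (wd 4) e4C = true := by decide +kernel
theorem mat_e5 : isMat lt (wd 5) e5C = true := by decide +kernel
theorem mat_j : isMat lt (wd 6) jC = true := by decide +kernel
theorem mat_l1 : isMat lt (wd 7) l1C = true := by decide +kernel
theorem mat_l2 : isMat lt (wd 8) l2C = true := by decide +kernel
theorem mat_h : isMat lt (wd 9) hC = true := by decide +kernel

end Cfsg.Agent.MonsterU.ModCode
end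

-- part: MonsterU/ModRel
section
/-!
# The relations in `Co1`, kernel checks

The relations (all fields of `ModThm.Rels` but the generation).
-/

set_option autoImplicit false
set_option maxRecDepth 100000

namespace Cfsg.Agent.MonsterU.ModRel

open Cfsg Cfsg.Spor Cfsg.Agent.MonsterU.Lam2 Cfsg.Agent.MonsterU.ModEv Cfsg.Agent.MonsterU.ModCode
open Cfsg.Agent.MonsterU.ModOrb Cfsg.Agent.MonsterU.ModThm
open Cfsg.Agent.MonsterX.Lin24

/-- `e0, …, e5, j, l1, l2, h, h⁻¹, l1⁻¹, l2⁻¹` -/
noncomputable def el (a : ℕ) : Co1 :=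
  if a < 10 then W L (wd a) else if a = 10 then (W L (wd 9))⁻¹ else if a = 11 then (W L (wd 7))⁻¹
  else (W L (wd 8))⁻¹

theorem rp_wd {a c : ℕ} (ha : a < 10) (h : isMat lt (wd a) c = true) : Rp (W L (wd a)) c :=
  Rp.of_word (fun b hb => rp_L (wd_lt a ha b hb)) h

theorem inv_h : cmpOK hC hiC idc = true := by decide +kernel
theorem inv_l1 : cmpOK l1C l1iC idc = true := by decide +kernel
theorem inv_l2 : cmpOK l2C l2iC idc = true := by decide +kernel

theorem rp_el {a : ℕ} (ha : a < 13) : Rp (el a) (mt a) := by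
  have h : a = 0 ∨ a = 1 ∨ a = 2 ∨ a = 3 ∨ a = 4 ∨ a = 5 ∨ a = 6 ∨ a = 7 ∨ a = 8 ∨ a = 9 ∨ a = 10 ∨ a = 11 ∨
      a = 12 := by omega
  rcases h with rfl | rfl | rfl | rfl | rfl | rfl | rfl | rfl | rfl | rfl | rfl | rfl | rfl
  · exact rp_wd (by norm_num) mat_e0
  · exact rp_wd (by norm_num) mat_e1
  · exact rp_wd (by norm_num) mat_e2
  · exact rp_wd (by norm_num) mat_e3
  · exact rp_wd (by norm_num) mat_e4
  · exact rp_wd (by norm_num) mat_e5
  · exact rp_wd (by norm_num) mat_j
  · exact rp_wd (by norm_num) mat_l1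
  · exact rp_wd (by norm_num) mat_l2
  · exact rp_wd (by norm_num) mat_h
  · exact (rp_wd (a := 9) (by norm_num) mat_h).inv inv_h
  · exact (rp_wd (a := 7) (by norm_num) mat_l1).inv inv_l1
  · exact (rp_wd (a := 8) (by norm_num) mat_l2).inv inv_l2

theorem el_inv_h : (el 9)⁻¹ = el 10 := rfl
theorem el_inv_l1 : (el 7)⁻¹ = el 11 := rfl
theorem el_inv_l2 : (el 8)⁻¹ = el 12 := rfl

/-- the check of a relation -/
noncomputable def chk (w₁ w₂ : List ℕ) : Bool :=
  w₁.all (fun a => Nat.blt a 13) && (w₂.all (fun a => Nat.blt a 13) && same mt w₁ w₂)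

theorem rel {w₁ w₂ : List ℕ} (h : chk w₁ w₂ = true) : W el w₁ = W el w₂ := by
  unfold chk at h
  rw [Bool.and_eq_true, Bool.and_eq_true, List.all_eq_true, List.all_eq_true] at h
  exact W_eq (fun a ha => rp_el (by simpa [Nat.blt_eq] using h.1 a ha))
    (fun a ha => rp_el (by simpa [Nat.blt_eq] using h.2.1 a ha)) h.2.2

/-- the word of `ev` -/
def wv (c : ℕ → ℕ) : List ℕ :=
  List.replicate (c 0) 0 ++ (List.replicate (c 1) 1 ++ (List.replicate (c 2) 2 ++ (List.replicate (c 3) 3 ++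
    (List.replicate (c 4) 4 ++ List.replicate (c 5) 5))))

theorem W_replicate (g : ℕ → Co1) (n a : ℕ) : W g (List.replicate n a) = g a ^ n := by
  unfold W
  rw [List.map_replicate, List.prod_replicate]

theorem W_wv (g : ℕ → Co1) (c : ℕ → ℕ) : W g (wv c) = ev g c := by
  unfold wv ev
  simp only [W_append, W_replicate, mul_assoc]

theorem W_nil (g : ℕ → Co1) : W g [] = 1 := rfl

theorem W_one (g : ℕ → Co1) (a : ℕ) : W g [a] = g a := by rw [W_cons, W_nil, mul_one]

/-! ### Checks -/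

theorem c_comm : ((List.range 6).all fun k => (List.range 6).all fun l => chk [k, l] [l, k]) = true := by
  decide +kernel

theorem c_cube : ((List.range 6).all fun k => chk [k, k, k] []) = true := by decide +kernel

theorem c_jj : chk [6, 6] [] = true := by decide +kernel

theorem c_jinv : ((List.range 6).all fun k => chk [6, k, 6, k] []) = true := by decide +kernel

theorem c_l1 : ((List.range 6).all fun k => chk [7, k] (wv (dg (A1 k)) ++ [7])) = true := by decide +kernel

theorem c_l2 : ((List.range 6).all fun k => chk [8, k] (wv (dg (A2 k)) ++ [8])) = true := by decide +kernel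

theorem c_l1j : chk [6, 7, 6] [7] = true := by decide +kernel

theorem c_l2j : chk [6, 8, 6] [8] = true := by decide +kernel

/-- the word of `g_m` -/
def gw (m : ℕ) : List ℕ := if m < 5 then 10 :: (wv (dg (al m)) ++ [9]) else [10, 6, 9]

theorem c_gB : ((List.range 6).all fun m => (List.range 6).all fun k =>
    chk (gw m ++ [k]) (wv (dg (Bt m k)) ++ gw m)) = true := by decide +kernel

theorem c_gj : ((List.range 6).all fun m => chk (6 :: (gw m ++ [6])) (wv (dg (beta m)) ++ gw m)) = true := by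
  decide +kernel

theorem c_indep : ((List.range 728).all fun n =>
    (wv (dg (n + 1))).all (fun a => Nat.blt a 13) && !Nat.beq (run mt (wv (dg (n + 1))) 1) 1) = true := by
  decide +kernel

/-! ### The relations -/

theorem W_gw (m : ℕ) : W el (gw m) = gm el m := by
  unfold gw gm
  by_cases h : m < 5
  · rw [if_pos h, if_pos h, W_cons, W_append, W_wv, W_one, el_inv_h, mul_assoc]
  · rw [if_neg h, if_neg h, W_cons, W_cons, W_one, el_inv_h, mul_assoc]

theorem eq_conj {a b c : Co1} (h : a * b = c * a) : a * b * a⁻¹ = c := by rw [h, mul_inv_cancel_right]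

theorem all1 {n : ℕ} {p : ℕ → Bool} (h : (List.range n).all p = true) {k : ℕ} (hk : k < n) : p k = true :=
  List.all_eq_true.1 h k (List.mem_range.2 hk)

theorem comm (k : ℕ) (hk : k < 6) (l : ℕ) (hl : l < 6) : el k * el l = el l * el k := by
  have h := rel (all1 (all1 c_comm hk) hl)
  rwa [W_cons, W_one, W_cons, W_one] at h

theorem cube (k : ℕ) (hk : k < 6) : el k ^ 3 = 1 := by
  have h := rel (all1 c_cube hk)
  rw [W_cons, W_cons, W_one, W_nil] at h
  rw [pow_succ, pow_two, mul_assoc]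
  exact h

theorem jj : el 6 * el 6 = 1 := by
  have h := rel c_jj
  rwa [W_cons, W_one, W_nil] at h

theorem jinv (k : ℕ) (hk : k < 6) : el 6 * el k * el 6 = (el k)⁻¹ := by
  have h := rel (all1 c_jinv hk)
  rw [W_cons, W_cons, W_cons, W_one, W_nil] at h
  rw [eq_inv_iff_mul_eq_one, mul_assoc, mul_assoc]
  exact h

theorem l1 (k : ℕ) (hk : k < 6) : el 7 * el k * (el 7)⁻¹ = ev el (dg (A1 k)) := by
  have h := rel (all1 c_l1 hk)
  rw [W_cons, W_one, W_append, W_wv, W_one] at h
  exact eq_conj h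

theorem l2 (k : ℕ) (hk : k < 6) : el 8 * el k * (el 8)⁻¹ = ev el (dg (A2 k)) := by
  have h := rel (all1 c_l2 hk)
  rw [W_cons, W_one, W_append, W_wv, W_one] at h
  exact eq_conj h

theorem l1j : el 6 * el 7 * el 6 * (el 7)⁻¹ = 1 := by
  have h := rel c_l1j
  rw [W_cons, W_cons, W_one, W_one] at h
  rw [mul_assoc (el 6), h, mul_inv_cancel]

theorem l2j : el 6 * el 8 * el 6 * (el 8)⁻¹ = 1 := by
  have h := rel c_l2j
  rw [W_cons, W_cons, W_one, W_one] at h
  rw [mul_assoc (el 6), h, mul_inv_cancel]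

theorem gB (m : ℕ) (hm : m < 6) (k : ℕ) (hk : k < 6) :
    gm el m * el k * (gm el m)⁻¹ = ev el (dg (Bt m k)) := by
  have h := rel (all1 (all1 c_gB hm) hk)
  rw [W_append, W_one, W_append, W_wv, W_gw] at h
  exact eq_conj h

theorem gj (m : ℕ) (hm : m < 6) : el 6 * gm el m * el 6 * (gm el m)⁻¹ = ev el (dg (beta m)) := by
  have h := rel (all1 c_gj hm)
  rw [W_cons, W_append, W_one, W_append, W_wv, W_gw] at h
  rw [mul_assoc (el 6), h, mul_inv_cancel_right]

theorem indep (n : ℕ) (h0 : 0 < n) (hn : n < 729) : ev el (dg n) ≠ 1 := by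
  intro h
  have h1 := all1 c_indep (k := n - 1) (by omega)
  rw [Nat.sub_add_cancel h0, Bool.and_eq_true, List.all_eq_true, Bool.not_eq_true'] at h1
  obtain ⟨v, hv⟩ := Cfsg.Agent.MonsterX.FrameAct.codeL_surj (n := 1) (by norm_num)
  have h2 := code_W (g := el) (t := mt) (w := wv (dg n)) (fun a ha => rp_el (by simpa [Nat.blt_eq] using h1.1 a ha))
    (cl v)
  rw [W_wv, h, one_smul, code_cl, hv] at h2
  rw [← h2] at h1
  exact absurd h1.2 (by decide)

/-- all relations; `hgen` is the generation -/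
theorem rels (hgen : ∀ S : Subgroup Co1, el 0 ∈ S → el 1 ∈ S → el 7 ∈ S → el 8 ∈ S → el 9 ∈ S → S = ⊤) :
    Rels el where
  comm := comm
  cube := cube
  indep := indep
  jj := jj
  jinv := jinv
  l1 := l1
  l2 := l2
  l1j := l1j
  l2j := l2j
  gB := gB
  gj := gj
  gen := hgen

end Cfsg.Agent.MonsterU.ModRel
end

-- part: MonsterU/ModMul
section
/-!
# Fast products of `24 × 24` matrices over the field with two elements

`mulC a b` is the matrix of the composition `a ∘ b` (columns packed in fields of `24` bits): `24` steps with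
numbers of `576` bits.  `linF` is a fast form of `lin`.
-/

set_option autoImplicit false

namespace Cfsg.Agent.MonsterU.ModMul

open Cfsg.Agent.MonsterX.Lin24

/-! ### Fields of 24 bits -/

/-- The number with the digits `f 0, …, f (n - 1)` in base `2 ^ 24`. -/
def packN (f : ℕ → ℕ) : ℕ → ℕ
  | 0 => 0
  | n + 1 => packN f n + f n * 2 ^ (24 * n)

theorem packN_lt {f : ℕ → ℕ} (hf : ∀ i, f i < 2 ^ 24) (n : ℕ) : packN f n < 2 ^ (24 * n) := by
  induction n with
  | zero => exact Nat.one_pos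
  | succ n ih =>
    have h1 := hf n
    calc packN f n + f n * 2 ^ (24 * n) < 2 ^ (24 * n) + f n * 2 ^ (24 * n) := by omega
      _ = (f n + 1) * 2 ^ (24 * n) := by ring
      _ ≤ 2 ^ 24 * 2 ^ (24 * n) := Nat.mul_le_mul_right _ (by omega)
      _ = 2 ^ (24 * (n + 1)) := by ring

theorem packN_mul (f : ℕ → ℕ) (x n : ℕ) : packN f n * x = packN (fun i => f i * x) n := by
  induction n with
  | zero => exact Nat.zero_mul x
  | succ n ih =>
    show (packN f n + f n * 2 ^ (24 * n)) * x = packN (fun i => f i * x) n + f n * x * 2 ^ (24 * n)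
    rw [← ih]; ring

theorem packN_congr {f g : ℕ → ℕ} {n : ℕ} (h : ∀ i < n, f i = g i) : packN f n = packN g n := by
  induction n with
  | zero => rfl
  | succ n ih =>
    show packN f n + f n * 2 ^ (24 * n) = packN g n + g n * 2 ^ (24 * n)
    rw [ih fun i hi => h i (by omega), h n (by omega)]

theorem col_packN {f : ℕ → ℕ} (hf : ∀ i, f i < 2 ^ 24) {i n : ℕ} (hi : i < n) :
    col (packN f n) i = f i := by
  unfold col
  rw [Nat.shiftRight_eq_div_pow]
  induction n with
  | zero => omega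
  | succ n ih =>
    show (packN f n + f n * 2 ^ (24 * n)) / 2 ^ (24 * i) % 16777216 = f i
    rcases Nat.lt_succ_iff_lt_or_eq.1 hi with h | h
    · rw [← ih h]
      obtain ⟨d, rfl⟩ : ∃ d, n = i + 1 + d := ⟨n - (i + 1), by omega⟩
      have e : f (i + 1 + d) * 2 ^ (24 * (i + 1 + d)) =
          f (i + 1 + d) * 2 ^ (24 * d) * 16777216 * 2 ^ (24 * i) := by
        rw [show 24 * (i + 1 + d) = 24 * d + 24 + 24 * i by ring, pow_add, pow_add]
        ring
      rw [e, Nat.add_mul_div_right _ _ (by positivity), Nat.add_mul_mod_self_right]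
    · subst h
      rw [Nat.add_mul_div_right _ _ (by positivity), Nat.div_eq_of_lt (packN_lt hf i), zero_add]
      exact Nat.mod_eq_of_lt (hf i)

theorem testBit_col (c i : ℕ) {k : ℕ} (hk : k < 24) : (col c i).testBit k = c.testBit (24 * i + k) := by
  unfold col
  rw [show (16777216 : ℕ) = 2 ^ 24 by norm_num, Nat.testBit_mod_two_pow, Nat.testBit_shiftRight]
  simp [hk]

theorem eq_of_col {a b : ℕ} (ha : a < 2 ^ (24 * 24)) (hb : b < 2 ^ (24 * 24)) (h : ∀ i < 24, col a i = col b i) :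
    a = b := by
  apply Nat.eq_of_testBit_eq
  intro t
  by_cases ht : t < 576
  · have h1 : t = 24 * (t / 24) + t % 24 := (Nat.div_add_mod t 24).symm
    rw [h1, ← testBit_col a _ (Nat.mod_lt _ (by norm_num)), ← testBit_col b _ (Nat.mod_lt _ (by norm_num)),
      h _ (by omega)]
  · rw [Nat.testBit_lt_two_pow (lt_of_lt_of_le ha (Nat.pow_le_pow_right (by norm_num) (by omega))),
      Nat.testBit_lt_two_pow (lt_of_lt_of_le hb (Nat.pow_le_pow_right (by norm_num) (by omega)))]

theorem col_xor (a b i : ℕ) : col (a ^^^ b) i = col a i ^^^ col b i := by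
  apply Nat.eq_of_testBit_eq
  intro k
  by_cases hk : k < 24
  · rw [testBit_col _ _ hk, Nat.testBit_xor, Nat.testBit_xor, testBit_col _ _ hk, testBit_col _ _ hk]
  · have h : ∀ c, (col c i).testBit k = false := fun c =>
      Nat.testBit_lt_two_pow (lt_of_lt_of_le (col_lt c i) (by
        rw [show (16777216 : ℕ) = 2 ^ 24 by norm_num]
        exact Nat.pow_le_pow_right (by norm_num) (by omega)))
    rw [h, Nat.testBit_xor, h, h]; rfl

/-! ### The mask of the lowest bits -/

/-- `1` in every field. -/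
def MM : ℕ := 0x1000001000001000001000001000001000001000001000001000001000001000001000001000001000001000001000001000001000001000001000001000001000001000001

theorem MM_eq : MM = packN (fun _ => 1) 24 := by decide +kernel

/-- The bits `i` of the fields. -/
theorem land_MM (b i : ℕ) : Nat.land (Nat.shiftRight b i) MM =
    packN (fun j => (b >>> (24 * j + i)) % 2) 24 := by
  have hf1 : ∀ _j : ℕ, (1 : ℕ) < 2 ^ 24 := fun _ => by norm_num
  have hf2 : ∀ j, (b >>> (24 * j + i)) % 2 < 2 ^ 24 := fun j =>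
    lt_of_lt_of_le (Nat.mod_lt _ (by norm_num)) (by norm_num)
  have hM : MM < 2 ^ (24 * 24) := by rw [MM_eq]; exact packN_lt (f := fun _ => 1) hf1 24
  apply eq_of_col (lt_of_le_of_lt Nat.and_le_right hM) (packN_lt hf2 24)
  intro j hj
  rw [col_packN hf2 hj]
  apply Nat.eq_of_testBit_eq
  intro k
  by_cases hk : k < 24
  · rw [testBit_col _ _ hk]
    show ((b >>> i) &&& MM).testBit (24 * j + k) = _
    rw [Nat.testBit_and, Nat.testBit_shiftRight]
    have h1 : MM.testBit (24 * j + k) = decide (k = 0) := by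
      rw [← testBit_col _ _ hk, MM_eq, col_packN (f := fun _ => 1) hf1 hj]
      cases k with
      | zero => rfl
      | succ k =>
        rw [decide_eq_false (by omega)]
        apply Nat.testBit_lt_two_pow
        exact Nat.one_lt_two_pow (by omega)
    rw [h1]
    cases k with
    | zero =>
      rw [Nat.add_zero, decide_eq_true rfl, Bool.and_true, Nat.testBit_zero, Nat.mod_mod,
        show i + 24 * j = 24 * j + i by ring]
      rw [← Nat.testBit_zero, Nat.testBit_shiftRight, Nat.add_zero]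
    | succ k =>
      rw [decide_eq_false (by omega), Bool.and_false]
      symm
      apply Nat.testBit_lt_two_pow
      calc _ < 2 := Nat.mod_lt _ (by norm_num)
        _ = 2 ^ 1 := rfl
        _ ≤ 2 ^ (k + 1) := Nat.pow_le_pow_right (by norm_num) (by omega)
  · have h : 24 ≤ k := by omega
    rw [Nat.testBit_lt_two_pow (lt_of_lt_of_le (col_lt _ _) (by
        rw [show (16777216 : ℕ) = 2 ^ 24 by norm_num]
        exact Nat.pow_le_pow_right (by norm_num) h)),
      Nat.testBit_lt_two_pow (lt_of_lt_of_le (hf2 j) (Nat.pow_le_pow_right (by norm_num) h))]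

/-! ### The product -/

/-- The partial product. -/
noncomputable def mulN (a b n : ℕ) : ℕ :=
  Nat.rec (motive := fun _ => ℕ) 0
    (fun i r => Nat.xor r (Nat.mul (Nat.land (Nat.shiftRight b i) MM)
      (Nat.mod (Nat.shiftRight a (Nat.mul 24 i)) 16777216))) n

/-- The product `a ∘ b` of two matrices. -/
noncomputable def mulC (a b : ℕ) : ℕ := mulN a b 24

theorem bit_mul (b t x : ℕ) : (b >>> t) % 2 * x = cond (b.testBit t) x 0 := by
  have h := Nat.testBit_zero (b >>> t)
  rw [Nat.testBit_shiftRight, Nat.add_zero] at h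
  rcases Nat.mod_two_eq_zero_or_one (b >>> t) with h0 | h0
  · rw [h0] at h ⊢
    rw [h]; simp
  · rw [h0] at h ⊢
    rw [h]; simp

theorem col_mulN (a b : ℕ) {n j : ℕ} (hn : n ≤ 24) (hj : j < 24) :
    col (mulN a b n) j = linN a (col b j) n := by
  induction n with
  | zero => show col 0 j = 0; simp [col]
  | succ n ih =>
    show col (mulN a b n ^^^ (Nat.land (Nat.shiftRight b n) MM * col a n)) j = _
    rw [col_xor, ih (by omega), linN_succ, land_MM, packN_mul, col_packN _ hj, bit_mul,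
      testBit_col b j (by omega)]
    intro i
    rw [bit_mul]
    cases b.testBit (24 * i + n)
    · show 0 < _; norm_num
    · exact col_lt a n

theorem allB_of {n : ℕ} {p : ℕ → Bool} (h : ∀ i, i < n → p i = true) : allB n p = true := by
  induction n with
  | zero => rfl
  | succ n ih =>
    show cond (p n) (allB n p) false = true
    rw [h n (by omega), ih fun i hi => h i (by omega)]
    rfl

theorem mulC_ok (a b : ℕ) : cmpOK a b (mulC a b) = true := by
  apply allB_of
  intro i hi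
  show Nat.beq (col (mulN a b 24) i) (lin a (col b i)) = true
  rw [col_mulN a b le_rfl hi]
  exact Nat.beq_refl _

theorem lin_mulC (a b v : ℕ) : lin (mulC a b) v = lin a (lin b v) := lin_cmp (mulC_ok a b) v

/-- Fast form of `cmpOK`. -/
theorem cmp_of {a b c : ℕ} (h : Nat.beq (mulC a b) c = true) : cmpOK a b c = true := by
  rw [← Nat.eq_of_beq_eq_true h]
  exact mulC_ok a b

/-! ### Images of vectors -/

/-- Fast form of `lin`. -/
noncomputable def linF (c v : ℕ) : ℕ :=
  Nat.rec (motive := fun _ => ℕ) 0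
    (fun i r => Nat.xor r (Nat.mul (Nat.mod (Nat.shiftRight v i) 2)
      (Nat.mod (Nat.shiftRight c (Nat.mul 24 i)) 16777216))) 24

theorem linF_eq (c v : ℕ) : linF c v = lin c v := by
  have h : ∀ n, (Nat.rec (motive := fun _ => ℕ) 0
    (fun i r => Nat.xor r (Nat.mul (Nat.mod (Nat.shiftRight v i) 2)
      (Nat.mod (Nat.shiftRight c (Nat.mul 24 i)) 16777216))) n : ℕ) = linN c v n := by
    intro n
    induction n with
    | zero => rfl
    | succ n ih =>
      rw [linN_succ, ← ih, ← bit_mul]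
      rfl
  exact h 24

/-! ### Words -/

/-- The product of the matrices of a word. -/
noncomputable def wc (tab w : List ℕ) : ℕ := w.foldr (fun i c => mulC (tab.getD i idc) c) idc

/-- The image of a vector under a word. -/
noncomputable def wv (tab w : List ℕ) (v : ℕ) : ℕ := w.foldr (fun i u => linF (tab.getD i idc) u) v

theorem lin_wc (tab w : List ℕ) {v : ℕ} (hv : v < 2 ^ 24) : lin (wc tab w) v = wv tab w v := by
  induction w with
  | nil => exact lin_one hv
  | cons i w ih =>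
    show lin (mulC (tab.getD i idc) (wc tab w)) v = linF (tab.getD i idc) (wv tab w v)
    rw [lin_mulC, ih, linF_eq]

end Cfsg.Agent.MonsterU.ModMul
end

-- part: MonsterU/ModGen
section
/-!
# Generation of `Co0` by five elements given by code matrices

The elements `e0`, `e1` of `3^6`, the generators `l1`, `l2` of `2.M12` and `h` of the data of the
24-dimensional module (`MonsterU/ModAbs.lean`) generate `Co0` together with the centre: a straight-line
program of `101` products of `24 × 24` matrices over the field with two elements gives the sign changes at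
the basis of the code and the three standard permutations.
-/

set_option autoImplicit false

namespace Cfsg.Agent.MonsterU.ModGen

open Cfsg Cfsg.Spor Cfsg.Agent.LeechMat.Core
open Cfsg.Agent.SporadicStructure.StdCross Cfsg.Agent.SporadicStructure.Co0Base
open Cfsg.Agent.SporadicA.Co0Card
open Cfsg.Agent.MonsterX.Psi Cfsg.Agent.MonsterX.Lin24 Cfsg.Agent.MonsterX.FrameStab
open Cfsg.Agent.MonsterX.FrameAct Cfsg.Agent.MonsterX.FrameLet Cfsg.Agent.MonsterU.ModLet Cfsg.Agent.MonsterU.ModMul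
open Cfsg.Agent.MonsterU.Lam2

/-! ### Code matrices -/

/-- `c` is the code matrix of `A`. -/
def Rp (A : Co0) (c : ℕ) : Prop := ∀ v, codeL (A • v) = lin c (codeL v)

theorem Rp.mul {A B : Co0} {a b c : ℕ} (hA : Rp A a) (hB : Rp B b) (h : cmpOK a b c = true) :
    Rp (A * B) c := by
  intro v
  rw [mul_smul, hA, hB, ← lin_cmp h]

theorem Rp.inv {A : Co0} {a b : ℕ} (hA : Rp A a) (h : cmpOK b a idc = true) : Rp A⁻¹ b := by
  intro v
  have h1 := hA (A⁻¹ • v)
  rw [smul_inv_smul] at h1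
  rw [h1, ← lin_cmp h, lin_one (codeL_lt _)]

/-- Two elements with the same code matrix are equal up to the centre. -/
theorem Rp.center {A B : Co0} {c : ℕ} (hA : Rp A c) (hB : Rp B c) :
    A⁻¹ * B ∈ Subgroup.center Co0 := by
  apply mem_center_of_trivial
  intro x
  obtain ⟨v, rfl⟩ := cl_surjective x
  rw [mul_smul, inv_smul_eq_iff, smul_cl, smul_cl, cl_eq, ← codeL_eq_iff, hA, hB]

/-- `H` contains an element with the code matrix `c`. -/
def Has (H : Subgroup Co0) (c : ℕ) : Prop := ∃ A ∈ H, Rp A c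

theorem Has.mul {H : Subgroup Co0} {a b c : ℕ} (hA : Has H a) (hB : Has H b)
    (h : cmpOK a b c = true) : Has H c := by
  obtain ⟨A, hA, hA'⟩ := hA
  obtain ⟨B, hB, hB'⟩ := hB
  exact ⟨A * B, H.mul_mem hA hB, hA'.mul hB' h⟩

theorem Has.inv {H : Subgroup Co0} {a b : ℕ} (hA : Has H a) (h : cmpOK b a idc = true) :
    Has H b := by
  obtain ⟨A, hA, hA'⟩ := hA
  exact ⟨A⁻¹, H.inv_mem hA, hA'.inv h⟩

theorem Has.mem {H : Subgroup Co0} (hz : Subgroup.center Co0 ≤ H) {c : ℕ} (h : Has H c) {B : Co0}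
    (hB : Rp B c) : B ∈ H := by
  obtain ⟨A, hA, hA'⟩ := h
  have := H.mul_mem hA (hz (hA'.center hB))
  rwa [mul_inv_cancel_left] at this

/-! ### Straight-line programs -/

/-- `(i, j, c)`: the matrix `c` is the product of the entries `i` and `j` of the memory (the newest entry
is `0`). -/
noncomputable def ok (l : List (ℕ × ℕ × ℕ)) : List ℕ → Bool :=
  List.rec (motive := fun _ => List ℕ → Bool) (fun _ => true)
    (fun s _ r mem => cond (Nat.beq (mulC (mem.getD s.1 idc) (mem.getD s.2.1 idc)) s.2.2) (r (s.2.2 :: mem)) false) l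

theorem ok_cons (s : ℕ × ℕ × ℕ) (l : List (ℕ × ℕ × ℕ)) (mem : List ℕ) :
    ok (s :: l) mem = cond (Nat.beq (mulC (mem.getD s.1 idc) (mem.getD s.2.1 idc)) s.2.2) (ok l (s.2.2 :: mem)) false :=
  rfl

theorem Has.one (H : Subgroup Co0) : Has H idc :=
  ⟨1, H.one_mem, fun v => by rw [one_smul, lin_one (codeL_lt v)]⟩

theorem has_getD {H : Subgroup Co0} {mem : List ℕ} (hm : ∀ c ∈ mem, Has H c) (i : ℕ) :
    Has H (mem.getD i idc) := by
  rcases Nat.lt_or_ge i mem.length with h | h
  · rw [List.getD_eq_getElem _ _ h]; exact hm _ (List.getElem_mem _)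
  · rw [List.getD_eq_default _ _ h]; exact Has.one H

theorem ok_sound {H : Subgroup Co0} (l : List (ℕ × ℕ × ℕ)) (mem : List ℕ) (hm : ∀ c ∈ mem, Has H c)
    (h : ok l mem = true) : ∀ s ∈ l, Has H s.2.2 := by
  induction l generalizing mem with
  | nil => intro s hs; cases hs
  | cons s l ih =>
    rw [ok_cons] at h
    cases hc : Nat.beq (mulC (mem.getD s.1 idc) (mem.getD s.2.1 idc)) s.2.2 with
    | false => rw [hc] at h; cases h
    | true =>
      rw [hc] at h
      have h1 : Has H s.2.2 := Has.mul (has_getD hm _) (has_getD hm _) (cmp_of hc)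
      intro t ht
      rcases List.mem_cons.1 ht with rfl | ht
      · exact h1
      · refine ih (s.2.2 :: mem) ?_ h t ht
        intro c hc
        rcases List.mem_cons.1 hc with rfl | hc
        · exact h1
        · exact hm c hc

/-! ### The program -/

/-- code matrix -/
def e0C : ℕ := 0xf247e10db91fa018975a0cc89b3b696db9856be8970336264f6580c256720336346beee0569284a04d6d504861ae988013b5699334089da99f0eb4eb9b34696008290f94f99da6d7

/-- code matrix -/
def e1C : ℕ := 0xba13be1700b10199a051bab63bdf1430901d1bdf1b199de44e08601939d1b969216bf466569002b15509414ac3c56cf602b83f9334488cbc897447a78a23f97100a71e9105ce2bf4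

/-- code matrix -/
def l1C : ℕ := 0xc43df6068692fa0546abaee000e4d0fb3598b3e9684071be44dac6bf5a249f80f2001000000e3a00061a00162a00073a000f0400055c0006ba0005e0001cac0010f600043a018779

/-- code matrix -/
def l2C : ℕ := 0x940026561df66814ae240ac6e40b1ef00a5a901bbc3497fae4480c502738a11778001000001f6800002000008000163a00193e001d980003da000008000004000002000010a408c7

/-- code matrix -/
def l1iC : ℕ := 0x88892cffbfc0fa150c1d1a7003cdda055baab3f936d67cd2f6b0700cca1cf26e1a001000000b66000a58000364000266000346000c0e0007660011660015aa0000bc0009f020c85d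

/-- code matrix -/
def l2iC : ℕ := 0x8c15e89406169201f68e04b6261730821552d80e361e24f69f02fe089fa81a5fd00010000018ea0006cc0013da000c74000200001d980004000000020000100000080000049c0633

/-- code matrix -/
def hC : ℕ := 0xceff2e6de951b2de7fa0ed35814a0467267b828809024191dce8e5348be8a289990014a2cb3ce04a3336b581fe0004024a361a0004804a3de6cb24f0b58c666e3a02cb2398eaf627

/-- code matrix -/
def hiC : ℕ := 0x82cfae9f9b41487ac4622d16a7201fa3864ce39b4d692752282a66629b887ada4100177aa1bbaacb7c4820d74620820ccb7c0820cc4ccb7a72a1a4c0209f2e001f98cb7d48ca5a01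

/-- The initial memory. -/
def mem0 : List ℕ := [hiC, hC, l2iC, l1iC, l2C, l1C, e1C, e0C]

/-- The program. -/
def prog : List (ℕ × ℕ × ℕ) :=
  [(5, 5, 0xa60cda0c18d8200dca160c6a6409b2ffeb5e0218dc264f4006256c229bb6230d760010000005c6000d46001e1c000cc60009c6000dc60004f8000dc2001dc4000dce001dd60521a1),
   (0, 0, 0x7bf3c29be32c200d9eebfe44d3ea662409ba0214d2ff7262dee640242782044af4001000001598001998001b54001c98001d1800105e001db8001d90001d88000d9a000d9cff8931),
   (5, 5, 0x7deff6f7eb1a200054cdf2de9ffea4dfef7a02118e222ce6224f68fce06edd6bc60010000008400000c0000ad6000140000440001dd800097e00104200004400005000104820a425),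
   (5, 0, 0xbffd5acdecf8921c642febb0ede08e79e56ad8105e5055a24288682dcfde3ee974001000000572001f980014a60011ec001b54001dd8000d18000d9c001d90001d9a000d888b582f),
   (0, 8, 0xe9ee8a43ff60b20444ebfe4499e88acff7fe901d08868614b4220adce9fa7dbe820010000002f0000d18001b54000ba200099800105e001e42001d90001d9a000d88000d9cdf4f97),
   (0, 3, 0x80172898088cb20988820a2042166c7de0a49009da12302e929eb20054d213103c001000001f280010c000024000167a00144000004000039a000042000048000044000050d8089f),
   (7, 0, 0xceecc6b5e4816ac6f378f7df814830bf2c9f5a936dda501d04e4e934998e7a9f7d0014a2cb2f084a2638b5857e0014024a23140004804a38e8cb2718b588e66e3e82cb207032fc9f),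
   (0, 7, 0x801768400ae6200d80100aba081734041c0e020d8001118e0099520054d200355c001000001800001400000200001100001080000040000020000010000008000004000002d808df),
   (13, 0, 0xc425b60686acfa0558aba23800f076fb25d8b3e9764061e044c740bf47bc9f9d34001000001e3a00161a00162a00173a001f0400055c0006ba0005e0001cac0010f600043a687fcf),
   (0, 12, 0x80116040005e20000010086008105e040d8602191e0114a60084a60054f80034f800100000080000140000120000010000108000004000002000101000100800100400100269e8b7),
   (14, 2, 0x9418fa5605706804e2240fd6e40e54f00504900bf03488e8e44cde5033a6a10cf4001000000f6800102000008000063a00093e001d980003da000008000004000002000010a60f1f),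
   (0, 13, 0x8002c8400292200d80100284080f5e0408900200000104c4008886004198002488001000000800000400000200000100000080000040001020000010000008000004000002020001),
   (14, 4, 0x8c05029416b29211a48e0990261a58821b68d81e641e3a9e9f1bfe0896fa1a58ea0010000008ea0016cc0013da001c74001200001d980004000000020000100000080000042c0127),
   (0, 17, 0x8013f64003ea200d9e101e68081e26040d3a020dcc011a4e008774005ab8003ed0001000001800000400001200001100000080000040000020000010000008000004000002b00997),
   (18, 4, 0x94185e5600706814ae240bece40698f01a049002f0349d2ce452da503068a10028001000001f6800102000108000163a00093e001d980003da0010080010040010020010105fe0a1),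
   (0, 17, 0x8015a040190c20001e100cec0819120411340219520102ee0097100057500022b0001000001800001400001200001100001080000040001020001010001008001004001002fbeced),
   (21, 2, 0xc421280683f6fa08d8abbfa000f8acfb214eb3e07040749244db3cbf42c69f8140001000001e3a00061a00062a00173a000f0400055c0006ba0005e0001cac0010f600043a940601),
   (0, 20, 0x8001584011b2200000101cc608152c04191802149e011c640098e20051b200352c0010000018000004000002000011000000800010400000200010100010080000040000029585ff),
   (22, 0, 0x940b885601306814ae24013ae40ed8f013049012bc3486f2e44008503bfea112be001000000f6800002000008000063a00193e000d980003da00100800100400000200001034c6f3),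
   (0, 21, 0x80073640090c201952100e3608105e0412ae021952011ba20094c2005dc2003bfc00100000180000040000020000110000008000004000002000001000100800100400000290c2ff),
   (25, 0, 0xc43d6a0683c8fa18c0aba77c00fc0cfb326cb3f4ee40731044c2bebf4b5c9f8a80001000001e3a00061a00162a00173a000f0400055c0006ba0005e0000cac0000f600043a9583c5),
   (0, 24, 0x8000384003d620048610041a0806280404220218dc011d220099a400462800375000100000180000040000020000110000008000104000002000001000000800000400000294003b),
   (26, 0, 0x9403f0560ff0680da2240afae40860f009b090107c348d42e44bb8502446a10c72001000000f6800002000008000063a00193e000d980003da000008000004000002000010e40bbb),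
   (0, 25, 0x80034240000020082a1008820801260408160202920100620082060040ca003bfc001000000800001400000200000100000080000040000020000010000008000004000002400003),
   (26, 2, 0x8c11fa94062e9205368e026c26063682179ad8195e1e22a09f0068088eae1a4b280010000008ea0006cc0013da001c74000200000d980004000000020000100000080000041c0629),
   (0, 29, 0x8000004003422015fe1006080802220406300202c801024400832400421a002684001000001800000400000200000100000080000040000020000010000008000004000002800201),
   (31, 2, 0xc42d80068692fa1550ababe400f19cfb2a8eb3f19c40766244d820bf48ea9f8a80001000000e3a00161a00162a00073a000f0400055c0006ba0005e0001cac0010f600043a0705d1),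
   (0, 30, 0x8007dc4008822018dc100882081f00040a04020016011a2c008a12005a7200352c001000000800000400000200000100000080001040001020000010001008000004000002068297),
   (6, 0, 0x8007e4401b54201c5a101c98081928041e260218ca01170e0083b6005c5a00327c0010000018000004000002000011000000800000400010200000100010080000040000029287f7),
   (0, 9, 0x8000d24002582005081012ae081976040c88020198011cac009774004198002980001000000800000400000200000100000080000040001020000010000008001004000002024199),
   (0, 18, 0x80021a4000ca20088810002a080628040418020198010868008ff2004000002d08001000000800000400000200000100000080000040000020000010000008001004000002004001),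
   (2, 21, 0x801684400b0a201c5a1014f80819760413a00211d40113a80097100048a2002684001000001800001400001200001100001080000040001020001010000008001004001002fb6bf9),
   (0, 16, 0x800324400206200c44100814080064040294020886010146008000005ff2002434001000000800000400000200000100000080000040000020000010001008000004000002008005),
   (11, 0, 0x80131c4001d02008c2101c0e08164c0406b602005a011c640099a40049da00336400100000180000040000020000110000008000104000002000001000100800000400000294999b),
   (0, 16, 0x8002444000622008c21000c8080360040fae0204c4010000008146004868002648001000000800000400000200000100000080000040000020001010000008000004000002010001),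
   (6, 1, 0x8014f8400a84200498100096081f64040890020890010b6a008a12004580002118001000000800000400000200000100000080001040001020000010000008000004000002060881),
   (0, 24, 0x80063040081620091810021208003a040000020890011fae008294004418002590001000000800000400000200000100000080001040000020000010000008000004000002040011),
   (15, 11, 0x80003840009420117810021208040a040212020a14010f66008a800044320031d4001000000800000400000200001100000080001040000020000010000008000004000002140203),
   (0, 1, 0x8006084008822008601000000804300402120202840100c800881400402a002444001000000800000400000200001100000080000040000020000010000008000004000002100001),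
   (17, 2, 0x800608401bc0200d9e10060808061204042202004c01028c009b300042300022c0001000001800000400000200001100000080000040000020000010000008000004000002900409),
   (0, 26, 0x8005fe40082a200000100860080834040918020d800108c2008c44004888002c10001000000800000400001200000100000080000040000020000010000008000004000002200001),
   (33, 1, 0x80016040012620001e101cb208012604082c020dcc0103020082620056e200279c001000000800001400000200000100001080000040000020000010000008000004000002480105),
   (0, 18, 0x80022240012620083410043008000004003a021f5e010360008064004628002c60001000000800000400000200000100001080000040000020000010000008000004000002080021),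
   (13, 35, 0x8007ba4008be200888100814080e42040086020c18011d22008e2600554a002cdc001000001800001400000200001100001080000040001020000010000008001004000002da5015),
   (0, 3, 0x80124440009420088810007408167604099e0201980115e0009262005dc20020cc001000001800001400001200001100001080000040001020000010000008001004000002fa589d),
   (0, 10, 0x8010004010f620004a1010bc08051604163002155c0115e00093240055aa002684001000001800001400001200001100001080000040001020001010000008001004000002fb4d7d),
   (0, 14, 0x800684400bfc200c10100444080c60040590020488010648008434004d08002000001000000800000400000200000100000080000040000020000010000008000004001002002001),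
   (54, 53, 0x19bee542653651abb49ad08d899f5fb6b1434089a6c3ed59c8dc7741400aa93bfb7ae35c7afb5caa9a59d8b0e1dace37e0d45d000040c080677af9caea7c6188bd97b0dbadba74e8),
   (0, 0, 0xd1eaba18dc98d02a838166f3217b22ef98db32be2ad8469bc931979a6fa91344ee7ae9da7af1dabb863dc9b043b13b41f1d98b000040d19551000a96fb6bf999b51da1de53e9f9ca),
   (20, 23, 0x8007e44008162019a4100a90080b0a040816020a0201154a008092004e400034f8001000000800000400000200001100000080000040001020000010001008000004000002128213),
   (1, 0, 0xab1e025a4c9ad8f005c3f47779b450ad08d92021e0f2a7d7993cd992a84d0906fc7ae9da7af1dabb863dc9b043cbd29bf1d98b000040ab7c8b000a9681822399b51da1de53fb7402),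
   (0, 3, 0x9297f4028a3e40ac9652983c425a0046983c109d4c511f4c5085701a1f707206000010000008000013da00100200093e001004000040000dc6000010000f680010800012006869f5),
   (55, 54, 0x8e1ae690d9e02678083df0384cbaca3b7cbc69fc505a0170f68602f57c1ca1ea92001000000f12001362001376001b8c0003640014d2000a580009f00011660015aa0000bcb3dbbd),
   (0, 58, 0x8443dca40cd2200486805b7ca21da8dbe552046408c4405ea8518624c60a014328001000001d7400183e000b960009ea0001200011000011020015000001800011080001101f414b),
   (0, 2, 0xa82246ac36f60d1f0e887bde84a832d3c5f02817d2e0014e8c02fe2620e8002488001000001d740017cc001110000104000108001100000c980015000006b4001120001b961cc021),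
   (0, 60, 0xd7ed5277d99e2dc2fe65a2a8aa145acdfe324f51c88a3700d5d7ca941cfc33323e001000001f12000efe000766000362000b8c00055c00036e000a580000bc00132600137670ca65),
   (0, 4, 0x28c7c29a97ac912c0288e88aac9cde20b410b0612a985f18c7ad0a80eeb870e198001000001f120003460003760015aa00032600055c001c0e000a58001366001b8c00176627e32d),
   (0, 62, 0xe200de576618b776488a00e837ad4e5fcb662e9fde6a97dafd66fa15f0e8c393f4001000000d74000e6800083e0007cc001104001102001140000c98001b96000cc60011107804c9),
   (0, 60, 0x8a758237dc4846982ca4e64ac62eb2cc8a2e08c04c0f648a447dbacacc8886d2e00010000006b40011000019ea00030000083e0012da000e68001110000c98001b96000cc6786849),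
   (0, 64, 0xf7e77c802ada912ed8cfd25208792618988e67d96e7bddae75e5beafdd9667e7720010000011780019a40016dc0014cc0016c80006c4001ff200068c0016ec0002cc000e26337ba9),
   (0, 64, 0x20beb830b0e01967bc89ad14fe7412292e0a382dd0339bb651a33e280bdc1d16e8001000001516001ff20016c8001ecc0016cc000ab8000c5a0016ec0002cc000e2600068c4d271d),
   (0, 64, 0x8f62fe1093cc4680e66d6f6a72047432ada4df75babdab52dd72f2aeeb228dfa9400100000135a001d460000c0001880000a160000820019be000084000fe8000090000d182dedeb),
   (0, 10, 0xe00ce4020f884012ac7feef6610ece202c38b014fec05e52a0922ac00140e4147c00100000135a0000a0001d18001080001090000082001180000084000088001a160010c02af3e7),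
   (0, 66, 0x2198c4a80f4a0cffb8fe9d9610da62206cb02b350c29c3cc09402021a5c449e0da001000000516000ecc00068c0006cc0007cc0019a40016ec001b54001178001b0a0002cc0a7be3),
   (0, 66, 0x112feaff6330f43c843a066407b5300ab5f467c952acfa48ed58a2198180e4c99a001000000e26001c5a0006c80004cc00068c0010f6000ecc0002cc001b54001178001b0ae5cf57),
   (0, 70, 0x260c8021dc40084a20087e101854082e0804392c02244c010b0000a00e0043820010000018ea001800000400001200000100000080001040000020000010000008001004a47441),
   (27, 48, 0x801750400930200860101cc608011c040b0a02161a011cac0090f6004198002168001000001800000400000200000100000080001040000020001010001008000004000002859939),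
   (0, 25, 0x80063040081620087e10007408003a040326020bd6011fae00829400477a0026f4001000001800001400000200000100001080001040000020001010001008000004000002cd9011),
   (0, 58, 0x80075040184820087e100814080064041ea00202c8010b0800863200438200220c001000001800000400001200000100000080001040000020000010000008001004001002a47441),
   (0, 3, 0x2400802480400002200000100040082c6004258002248801000800a4300040000010000008ea000800000400000200000100000080000040000020000010000008000004000001),
   (18, 74, 0x8698b2060a84006f58063e6c9635a4822c5ac00cce0433fa8c21f8221c5a833c36001000001008000dc6001004000366001100001d98001400000f68001080001200000010fcd06f),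
   (0, 75, 0x28c94421f34904a2e825d8602dfa686c16e80bd5c08555220dfe6831d9282dcc40010000007b400140000110000063a001a96000040000002001080001200000010000f68f8055f),
   (0, 20, 0x20aad6a079f4e00acc60352e41b94e64a9c6a295bec8113ee09fac003b30d0b0c00010000007b4001004001f68000c740010100000400000200010800016cc000a9600010029457f),
   (0, 77, 0x243d8806700001c71884a01004695a00f3104087ba040dac0450f610f96e08a41000100000020000002000101000180000163a001d980004000016cc000a960001000010808d50d1),
   (0, 78, 0xa07b08c2a67403c74e013c3a237e4aa729d2a088e881dfa63389788a646a21eace00100000093e00040000163a0008ea0003da000040000f68000a960001000010800016cca84173),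
   (0, 78, 0xb09306d7451ce3ddc004bebe98a148ac8e8e1bc288cfcc2675f13a3dbe986b261a001000001e8a0014d2000178001f5e0018dc000a720013b400118e0007940017a40007b0127947),
   (0, 78, 0x84a1c218b706aff0ee9f6068548908ab564efbd0e24061b8540abced58f0ba64b8001000000fb4001734000d220015b4000178000bc00014d20007b000118e0007940017a4926b19),
   (0, 25, 0xb41a18afca14f6d77a2817fc0e2d821c21dacb6a3ac7bb1ad3c7f0303136d3ed74001000000fb40003b40007a40008dc001794000bc00017bc0007b0000e8a001178001d22269dff),
   (0, 83, 0xd4087c048506005bc0401b083003e214049a5605924c0bc2501516442804510616001000000800001008001004000f680012000018ea0010200000800003da00100200001032f89f),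
   (0, 81, 0xf01974800770c213d6a6082c42550c821af4a09d2e6305a4aa03da60006a62287200100000010000193e0006cc00004000100400163a0010080000100000800003da00100282fc2f),
   (52, 39, 0x8012224000a82018dc1000e208073404131c020d960102ee0096560042fa00393c001000000800000400001200000100000080001040001020000010001008000004000002269a4b),
   (0, 12, 0x8015724018e02000a21008f6080750040dbc021f5e0109e6009064005178003b3000100000180000040000020000010000008000004000102000001000100800100400100282fc2f),
   (0, 2, 0xf00cb2800202c2011aa60f1e4243ca8200d8a0889a630b5eaa0e0460082862245e00100000010000093e0006cc00004000000400063a0000080000100000800003da000002000001),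
   (87, 86, 0x9449ba7bcc9afa1506048dda10eeba94b9ba69f0d6773d46ab4360a07196ef379000100000178200027c0008fa001ed0000b30001f5e0008ca00186a001cea001aea000e267871a3),
   (0, 32, 0x526da4c2b4483faa02bde3d4b242a22dd7b4afccca08768cd411727d8f9cecae160010000017820018e2001e260011d4000aea001f5e000b8c00186a0008aa001b300018faa617f5),
   (0, 87, 0xcdf716c244a04056f662365cbda58afda7969f79f0610964d7b234664a8eddff6c0010000009ea0000ea00027c0018e8001e2600149e0018e20018fa00186a0008aa001b30d6014b),
   (0, 91, 0x2ff39eb573280f1060c420806c157eb3efda7de5ea79ec648e193837a464c6106600100000083e00193600092e00193c001b3e0004a6001ff2000a58000f0400093a0003a860ac89),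
   (0, 91, 0x5829a4bf410cd67e5abceba02668ee51b314ebd398f6d9b811d568b750445908b600100000054a001ff2001b3e00191e00113e00065600097e000f0400093a0003a8000a58f3bd99),
   (0, 93, 0xefd84eaba54a404f6efdf77eff8a04ef96c6d021a251076e4867d8ef39629fddfc00100000049e0008aa001ed00018ca001b3000052c0010ea0018fa00186a0008e2001aea14a58d),
   (0, 37, 0x8a6914985e467c0298ce184894b7c4dc79f0b581fc075ad01e28b0d24bcac62a8200100000049e00127c000aea001e260018e200052c0018ea0018fa000782000b30000ed0702389),
   (0, 94, 0x9815a63fbef870eb0ca06d32b246f0a0377244654e7049ac600fdc906daef1255200100000086a0018ea0018e20001d40008ca001f5e0018aa000782000b30000ed00018fa5a2d45),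
   (0, 94, 0x4a487ec054ac810200c255e2c45c184011867de8e682d4c00245a4e2011a521cf800100000008200036400101200093c001042000d9a00100200000a000a94001202000102dab16d),
   (0, 94, 0xce18f6c80c66f5e296b3fd28bce12237b6528c05d469f1d6f36872c619a099f71c0010000016ce001638001f6a000c7600101200000600036400010200000a000a94001202d6e313),
   (0, 98, 0xa843ba48d1b470ed06087cc2ac81e080f246c16c5497f444cadac020adcee02eae001000000ff2001a5800083e00154a00197e0011d400092e00093e00091e001ae40006564c7df9),
   (0, 42, 0xab8c9e0ba4e4623c824b17faa907e2c3997ec2b4ccd743c28a696065986cf13e42001000000ff20003a8001656000f04000ae40011d40014f800093e00193a00097e00183e184b2d),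
   (0, 100, 0x928bae8b4ac8e2bc140e02161edee8c4cbe08983469f029627cf4298423a15855e0010000006ce001dc4001002000638001c760004020003d80003640012020007b6001f6a456e5d),
   (0, 44, 0x32c13cae50aab91c102b071c9a8d78e1ceea29d1d01a46cea298de994636ee7a4a0010000006ce001042000f6a000a940017b6000402001d9a0003640018e8000c76000002bf9e85),
   (54, 69, 0x8015fe4019a42000e8101cb2081f00040a3e021f4801194c008a76005c5a00394c0010000008000004000002000001000010800010400010200000100010080000040000020e8db7),
   (0, 63, 0x8007ba4019c620082a100c7a081c60041590021b8c01194c009b30004432003f040010000008000004000002000001000010800010400010200010100010080000040000020f94fb),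
   (0, 85, 0x80144c401a2c2015b41002120812460408aa020640010302008c44005e8a0031d4001000001800000400001200001100001080001040001020001010001008000004000002bf9e87),
   (0, 3, 0x32c214ae4374b90ebe2b05ac9a8364e1c4f229c7ee1a4e50a28322994fa6ee726c0010000006ce000042000f6a000a940007b6000402000d9a0003640008e8000c76000002000003)]

theorem prog_ok : ok prog mem0 = true := by decide +kernel

theorem inv_ok : cmpOK hiC hC idc = true ∧ cmpOK l1iC l1C idc = true ∧ cmpOK l2iC l2C idc = true := by
  decide +kernel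

/-- The matrix `c` occurs in the program. -/
def occ (c : ℕ) : Bool := prog.any fun s => Nat.beq s.2.2 c

theorem occ_y : ∀ i < 12, i ≠ 0 → occ (yC.getD i 0) = true := by decide +kernel

theorem occ_p : occ paC = true ∧ occ pdC = true ∧ occ pgC = true := by decide +kernel

theorem y0_id : yC.getD 0 0 = idc := by
  have h : Nat.beq (yC.getD 0 0) idc = true := by decide +kernel
  exact Nat.eq_of_beq_eq_true h

theorem h_moves : Nat.beq (lin hC 4096) 4096 = false := by decide +kernel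

/-- The stabiliser of the standard frame. -/
def stab : Subgroup Co0 where
  carrier := {A | PreservesCross A}
  one_mem' := (preserves_iff 1).2 fixesFrame_one
  mul_mem' := fun {A B} hA hB =>
    (preserves_iff (A * B)).2 (fixesFrame_mul ((preserves_iff A).1 hA) ((preserves_iff B).1 hB))
  inv_mem' := fun {A} hA => (preserves_iff A⁻¹).2 (fixesFrame_inv ((preserves_iff A).1 hA))

theorem stab_coatom : IsCoatom stab := Cfsg.Agent.S1572.result stab rfl

/-- **Generation.** -/
theorem eq_top (H : Subgroup Co0) (hz : Subgroup.center Co0 ≤ H) (he0 : Has H e0C) (he1 : Has H e1C)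
    (hl1 : Has H l1C) (hl2 : Has H l2C) (hh : Has H hC) : H = ⊤ := by
  have hm : ∀ c ∈ mem0, Has H c := by
    intro c hc
    simp only [mem0, List.mem_cons, List.not_mem_nil, or_false] at hc
    rcases hc with rfl | rfl | rfl | rfl | rfl | rfl | rfl | rfl
    · exact hh.inv inv_ok.1
    · exact hh
    · exact hl2.inv inv_ok.2.2
    · exact hl1.inv inv_ok.2.1
    · exact hl2
    · exact hl1
    · exact he1
    · exact he0
  have hp := ok_sound prog mem0 hm prog_ok
  have hocc : ∀ c, occ c = true → Has H c := by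
    intro c hc
    obtain ⟨s, hs, he⟩ := List.any_eq_true.1 hc
    rw [← Nat.eq_of_beq_eq_true he]
    exact hp s hs
  have hs : ∀ i < 12, ∃ A ∈ H, IsSign A (cb.getD i 0) := by
    intro i hi
    obtain ⟨A, hA⟩ := exists_y i hi
    refine ⟨A, ?_, hA⟩
    refine Has.mem (c := yC.getD i 0) hz ?_ (code_sign hi hA)
    rcases eq_or_ne i 0 with rfl | h0
    · rw [y0_id]; exact Has.one H
    · exact hocc _ (occ_y i hi h0)
  obtain ⟨pS, isPerm_pS⟩ := exists_perm Cfsg.Agent.SporadicA.M24Gens.shift_mem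
  obtain ⟨pC, isPerm_pC⟩ := exists_perm Cfsg.Agent.SporadicA.M24Gens.cubeTwist_mem
  obtain ⟨pI, isPerm_pI⟩ := exists_perm Cfsg.Agent.SporadicA.M24Gens.projInv_mem
  have h1 : stab ≤ H := fun A hA =>
    mem_of_preserves H hs ⟨pS, (hocc _ occ_p.1).mem hz (code_shift isPerm_pS), isPerm_pS⟩
      ⟨pI, (hocc _ occ_p.2.2).mem hz (code_projInv isPerm_pI), isPerm_pI⟩
      ⟨pC, (hocc _ occ_p.2.1).mem hz (code_cube isPerm_pC), isPerm_pC⟩ A hA
  rcases stab_coatom.le_iff.1 h1 with h | h
  · exact h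
  · exfalso
    obtain ⟨A, hA, hA'⟩ := hh
    rw [h] at hA
    have h2 : FixesFrame A := (preserves_iff A).1 hA
    have h3 := hA' v0
    have h4 : codeL v0 = codeL (A • v0) := codeL_eq_iff.2 h2
    rw [← h4, Cfsg.Agent.MonsterX.FrameInst.codeL_v0] at h3
    have h5 := h_moves
    rw [← h3] at h5
    simp at h5

/-- **Generation in `Co1`.** -/
theorem eq_top1 (S : Subgroup Co1)
    (h : ∀ c ∈ [e0C, e1C, l1C, l2C, hC], ∃ A : Co0, (QuotientGroup.mk A : Co1) ∈ S ∧ Rp A c) : S = ⊤ := by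
  have h1 : S.comap (QuotientGroup.mk' (Subgroup.center Co0)) = ⊤ := by
    refine eq_top _ ?_ (h e0C ?_) (h e1C ?_) (h l1C ?_) (h l2C ?_) (h hC ?_)
    · intro z hz
      rw [Subgroup.mem_comap]
      have : QuotientGroup.mk' (Subgroup.center Co0) z = 1 := (QuotientGroup.eq_one_iff z).2 hz
      rw [this]
      exact S.one_mem
    all_goals simp
  rw [eq_top_iff]
  intro x _
  obtain ⟨A, rfl⟩ := QuotientGroup.mk_surjective x
  have h2 : A ∈ S.comap (QuotientGroup.mk' (Subgroup.center Co0)) := by rw [h1]; trivial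
  exact h2

end Cfsg.Agent.MonsterU.ModGen
end

-- part: MonsterU/ModFinal
section
/-!
# The uniqueness of the 24-dimensional module of `Co1` over the field with two elements
-/

set_option autoImplicit false

universe u

namespace Cfsg.Agent.MonsterU.ModFinal

open Cfsg Cfsg.Spor Cfsg.Agent.MonsterU.Lam2 Cfsg.Agent.MonsterX.FrameAct
open Cfsg.Agent.MonsterX.Lin24

/-- An element of `Co1` acting through the matrix `c` comes from an element of `Co0` with the code matrix `c`. -/
theorem lift_rp {g : Co1} {c : ℕ} (h : ModCode.Rp g c) :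
    ∃ A : Co0, (QuotientGroup.mk A : Co1) = g ∧ ModGen.Rp A c := by
  obtain ⟨A, rfl⟩ := QuotientGroup.mk_surjective g
  refine ⟨A, rfl, fun v => ?_⟩
  have h1 := h (cl v)
  rw [mk_smul, smul_cl, ModCode.code_cl, ModCode.code_cl] at h1
  exact h1

theorem mt_eq : Nat.beq (ModCode.mt 0) ModGen.e0C = true ∧ Nat.beq (ModCode.mt 1) ModGen.e1C = true ∧
    Nat.beq (ModCode.mt 7) ModGen.l1C = true ∧ Nat.beq (ModCode.mt 8) ModGen.l2C = true ∧
    Nat.beq (ModCode.mt 9) ModGen.hC = true := by decide +kernel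

/-- Generation. -/
theorem gen (S : Subgroup Co1) (h0 : ModRel.el 0 ∈ S) (h1 : ModRel.el 1 ∈ S) (h7 : ModRel.el 7 ∈ S)
    (h8 : ModRel.el 8 ∈ S) (h9 : ModRel.el 9 ∈ S) : S = ⊤ := by
  have key : ∀ a < 13, ModRel.el a ∈ S → ∀ c, Nat.beq (ModCode.mt a) c = true →
      ∃ A : Co0, (QuotientGroup.mk A : Co1) ∈ S ∧ ModGen.Rp A c := by
    intro a ha hS c hc
    obtain ⟨A, hA, hr⟩ := lift_rp (ModRel.rp_el ha)
    rw [Nat.eq_of_beq_eq_true hc] at hr
    exact ⟨A, by rw [hA]; exact hS, hr⟩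
  apply ModGen.eq_top1 S
  intro c hc
  simp only [List.mem_cons, List.not_mem_nil, or_false] at hc
  rcases hc with rfl | rfl | rfl | rfl | rfl
  · exact key 0 (by norm_num) h0 _ mt_eq.1
  · exact key 1 (by norm_num) h1 _ mt_eq.2.1
  · exact key 7 (by norm_num) h7 _ mt_eq.2.2.1
  · exact key 8 (by norm_num) h8 _ mt_eq.2.2.2.1
  · exact key 9 (by norm_num) h9 _ mt_eq.2.2.2.2

/-- **(A1)** Every nontrivial 24-dimensional module of `Co1` over the field with two elements is `Λ / 2Λ`. -/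
theorem moduleThm : Ch.ModuleThm.{u} := (ModRel.rels gen).moduleThm

end Cfsg.Agent.MonsterU.ModFinal
end
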