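import Cfsg.Agent.MonsterX.KModel
import Cfsg.Agent.MonsterU.Lam2
import Cfsg.Agent.MonsterU.InvTwo
import Cfsg.Agent.CoOneType.ClosingFacts
set_option linter.all false

-- part: MonsterU/TwoCls
section
/-!
# The class in `Λ / 2Λ` of an element of the extraspecial group

For `L : Lift M θ` the map `clP L : P → L2` (with `L2 = Λ / 2Λ` of `Lam2`) is the quotient map
`P → P / ⟨zc⟩ = Λ / 2Λ`.
-/

set_option autoImplicit false

namespace Cfsg.Agent.MonsterU.TwoCls

open Cfsg Cfsg.Agent.LeechMat.Core Cfsg.Agent.MonsterX.KSide Cfsg.Agent.MonsterX.KLift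
open Cfsg.Agent.MonsterU.Lam2

variable {G V P W : Type*} [Group G] [AddCommGroup V] [Module ℚ V]
  [DistribMulAction G V] [SMulCommClass G ℚ V] [Group P] [AddCommGroup W] [Module ℚ W]
  {M : KS G V P W} {θ : leechLattice → P}

theorem Eqz_one {x : P} : Eqz M x 1 ↔ x = 1 ∨ x = M.zc := by
  unfold Eqz
  rw [mul_one]

theorem θ_cong (L : Lift M θ) {v w : leechLattice} (h : cl v = cl w) : Eqz M (θ v) (θ w) := by
  obtain ⟨u, hu⟩ := cl_eq.1 h
  have e : v = 2 • u + w := by rw [← hu]; abel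
  have h1 : Eqz M (θ (2 • u + w)) (θ (2 • u) * θ w) := L.add _ _
  rw [e]
  refine h1.trans ?_
  have h2 := (θ_two L u).mul (Eqz.refl (M := M) (θ w))
  rwa [one_mul] at h2

theorem cong_of_θ (L : Lift M θ) {v w : leechLattice} (h : Eqz M (θ v) (θ w)) : cl v = cl w := by
  have h1 : Eqz M (θ (v + -w)) (θ v * θ (-w)) := L.add _ _
  have h2 : Eqz M (θ (w + -w)) (θ w * θ (-w)) := L.add _ _
  rw [add_neg_cancel] at h2
  have h3 : Eqz M (θ (v + -w)) 1 :=
    (h1.trans (h.mul (Eqz.refl _))).trans (h2.symm.trans (θ_zero L))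
  obtain ⟨t, ht⟩ := L.ker _ (Eqz_one.1 h3)
  exact cl_eq.2 ⟨t, by rw [← ht, sub_eq_add_neg]⟩

/-- The class of an element of the extraspecial group in `Λ / 2Λ`. -/
noncomputable def clP (L : Lift M θ) (p : P) : L2 := cl (Classical.choose (L.surj p))

theorem clP_eq_cl (L : Lift M θ) {p : P} {v : leechLattice} : clP L p = cl v ↔ Eqz M p (θ v) := by
  have h : Eqz M p (θ (Classical.choose (L.surj p))) := Classical.choose_spec (L.surj p)
  constructor
  · intro e
    exact h.trans (θ_cong L e)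
  · intro e
    exact cong_of_θ L (h.symm.trans e)

theorem clP_θ (L : Lift M θ) (v : leechLattice) : clP L (θ v) = cl v :=
  (clP_eq_cl L).2 (Eqz.refl _)

theorem clP_eq (L : Lift M θ) {p q : P} : clP L p = clP L q ↔ Eqz M p q := by
  obtain ⟨v, hv⟩ := L.surj q
  have hv' : Eqz M q (θ v) := hv
  rw [(clP_eq_cl L).2 hv', clP_eq_cl]
  exact ⟨fun h => h.trans hv'.symm, fun h => h.trans hv'⟩

theorem clP_eq' (L : Lift M θ) {p q : P} : clP L p = clP L q ↔ p = q ∨ p = M.zc * q := clP_eq L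

theorem clP_surjective (L : Lift M θ) (x : L2) : ∃ p, clP L p = x := by
  obtain ⟨v, rfl⟩ := cl_surjective x
  exact ⟨θ v, clP_θ L v⟩

theorem clP_mul (L : Lift M θ) (p q : P) : clP L (p * q) = clP L p + clP L q := by
  obtain ⟨v, hv⟩ := L.surj p
  obtain ⟨w, hw⟩ := L.surj q
  have hv' : Eqz M p (θ v) := hv
  have hw' : Eqz M q (θ w) := hw
  rw [(clP_eq_cl L).2 hv', (clP_eq_cl L).2 hw', ← map_add, clP_eq_cl]
  have h1 : Eqz M (θ (v + w)) (θ v * θ w) := L.add _ _
  exact (hv'.mul hw').trans h1.symm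

theorem clP_one (L : Lift M θ) : clP L 1 = 0 := by
  rw [← map_zero cl, clP_eq_cl]
  exact (θ_zero L).symm

theorem clP_eq_zero (L : Lift M θ) {p : P} : clP L p = 0 ↔ p = 1 ∨ p = M.zc := by
  rw [← clP_one L, clP_eq, Eqz_one]

theorem clP_zc (L : Lift M θ) : clP L M.zc = 0 := (clP_eq_zero L).2 (Or.inr rfl)

theorem clP_inv (L : Lift M θ) (p : P) : clP L p⁻¹ = clP L p := by
  have h := clP_mul L p p⁻¹
  rw [mul_inv_cancel, clP_one] at h
  exact (eq_of_add_eq_zero h.symm).symm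

theorem clP_zc_mul (L : Lift M θ) (p : P) : clP L (M.zc * p) = clP L p := by
  rw [clP_mul, clP_zc, zero_add]

theorem clP_conj (L : Lift M θ) (q p : P) : clP L (q * p * q⁻¹) = clP L p := by
  rw [clP_mul, clP_mul, clP_inv, add_comm (clP L q), add_assoc, add_self, add_zero]

/-- Commutation up to the centre. -/
theorem comm_of_Eqz {x y x' y' : P} (h1 : Eqz M x x') (h2 : Eqz M y y') (h3 : x * y = y * x) :
    x' * y' = y' * x' := by
  rcases h1 with rfl | rfl <;> rcases h2 with rfl | rfl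
  · exact h3
  · rw [← mul_assoc, ← M.zc_comm, mul_assoc, mul_assoc] at h3
    exact mul_left_cancel h3
  · rw [mul_assoc, ← mul_assoc y, ← M.zc_comm y, mul_assoc] at h3
    exact mul_left_cancel h3
  · have h4 : M.zc * x' * (M.zc * y') = x' * y' := by
      rw [mul_assoc, ← mul_assoc x', ← M.zc_comm x', mul_assoc, M.zc_zc]
    have h5 : M.zc * y' * (M.zc * x') = y' * x' := by
      rw [mul_assoc, ← mul_assoc y', ← M.zc_comm y', mul_assoc, M.zc_zc]
    rw [h4, h5] at h3
    exact h3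

theorem comm_iff_bf (L : Lift M θ) (p q : P) : p * q = q * p ↔ bf (clP L p) (clP L q) = 0 := by
  obtain ⟨v, hv⟩ := L.surj p
  obtain ⟨w, hw⟩ := L.surj q
  have hv' : Eqz M p (θ v) := hv
  have hw' : Eqz M q (θ w) := hw
  rw [(clP_eq_cl L).2 hv', (clP_eq_cl L).2 hw', bf_cl_eq_zero]
  have h1 : (16 : ℤ) ∣ dotInt (v : GolayPt → ℤ) (w : GolayPt → ℤ) ↔ θ v * θ w = θ w * θ v :=
    L.comm v w
  rw [h1]
  exact ⟨comm_of_Eqz hv' hw', comm_of_Eqz hv'.symm hw'.symm⟩

theorem sq_zc_mul (p : P) : (M.zc * p) * (M.zc * p) = p * p := by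
  rw [mul_assoc, ← mul_assoc p, ← M.zc_comm p, mul_assoc, M.zc_zc]

theorem sq_of_Eqz {x y : P} (h : Eqz M x y) : x * x = y * y := by
  rcases h with rfl | rfl
  · rfl
  · exact sq_zc_mul y

theorem comm_or' (p q : P) : p * q = q * p ∨ p * q = M.zc * (q * p) := by
  rcases M.comm_or p q with e | e
  · left; exact mul_inv_eq_iff_eq_mul.1 e
  · right
    rw [mul_inv_eq_iff_eq_mul] at e
    rw [e, mul_assoc]

theorem zmod2 (x : ZMod 2) : x = 0 ∨ x = 1 := by
  fin_cases x
  · exact Or.inl rfl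
  · exact Or.inr rfl

/-- the square of a product, commuting case -/
theorem sq_mul_comm {p q : P} (h : p * q = q * p) :
    (p * q) * (p * q) = (p * p) * (q * q) := by
  have h1 : (p * q) * (p * q) = p * (q * p) * q := by group
  rw [h1, ← h]
  group

/-- the square of a product, the other case -/
theorem sq_mul_ncomm {p q : P} (h : ¬ p * q = q * p) :
    (p * q) * (p * q) = M.zc * ((p * p) * (q * q)) := by
  have h1 : (p * q) * (p * q) = p * (q * p) * q := by group
  have h2 : p * q = M.zc * (q * p) := (comm_or' (M := M) p q).resolve_left h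
  have h3 : q * p = M.zc * (p * q) := by rw [h2, M.zc_zc]
  rw [h1, h3, ← mul_assoc p M.zc, ← M.zc_comm p]
  group

/-- The value of the quadratic form is the square. -/
theorem sq_iff_q0 (L : Lift M θ) (v : leechLattice) : θ v * θ v = 1 ↔ q0 v = 0 := by
  classical
  refine min_induction (p := fun v => θ v * θ v = 1 ↔ q0 v = 0) ?_ ?_ ?_ ?_ v
  · rw [sq_of_Eqz (θ_zero L), mul_one]
    have h := q0_two 0
    rw [smul_zero] at h
    exact ⟨fun _ => h, fun _ => rfl⟩
  · intro v w hv hw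
    have h1 : Eqz M (θ (v + w)) (θ v * θ w) := L.add v w
    rw [sq_of_Eqz h1, q0_add]
    have h2 : (θ v * θ w = θ w * θ v) ↔ b0 v w = 0 := by
      rw [comm_iff_bf L, clP_θ, clP_θ, bf_cl]
    have hzne : M.zc ≠ 1 := M.zc_ne
    have hz2 := M.zc_mul
    have hv' : q0 v = if θ v * θ v = M.zc then 1 else 0 := by
      rcases L.sq (θ v) with e | e
      · rw [e, if_neg (fun h => hzne h.symm)]; exact hv.1 e
      · rw [if_pos e]
        rcases zmod2 (q0 v) with f | f
        · exact absurd (hv.2 f) (by rw [e]; exact hzne)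
        · exact f
    have hw' : q0 w = if θ w * θ w = M.zc then 1 else 0 := by
      rcases L.sq (θ w) with e | e
      · rw [e, if_neg (fun h => hzne h.symm)]; exact hw.1 e
      · rw [if_pos e]
        rcases zmod2 (q0 w) with f | f
        · exact absurd (hw.2 f) (by rw [e]; exact hzne)
        · exact f
    rw [hv', hw']
    have hne : ¬ (1 : P) = M.zc := fun h => hzne h.symm
    by_cases h : θ v * θ w = θ w * θ v
    · rw [sq_mul_comm h, h2.1 h, add_zero]
      rcases L.sq (θ v) with ev | ev <;> rcases L.sq (θ w) with ew | ew <;> rw [ev, ew]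
      · rw [mul_one, if_neg hne]
        exact ⟨fun _ => by decide, fun _ => rfl⟩
      · rw [one_mul, if_neg hne, if_pos rfl]
        exact ⟨fun h => absurd h hzne, fun h => absurd h (by decide)⟩
      · rw [mul_one, if_neg hne, if_pos rfl]
        exact ⟨fun h => absurd h hzne, fun h => absurd h (by decide)⟩
      · rw [hz2, if_pos rfl]
        exact ⟨fun _ => by decide, fun _ => rfl⟩
    · have hb : b0 v w = 1 := (zmod2 (b0 v w)).resolve_left fun e => h (h2.2 e)
      rw [sq_mul_ncomm (M := M) h, hb]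
      rcases L.sq (θ v) with ev | ev <;> rcases L.sq (θ w) with ew | ew <;> rw [ev, ew]
      · rw [mul_one, mul_one, if_neg hne]
        exact ⟨fun h => absurd h hzne, fun h => absurd h (by decide)⟩
      · rw [one_mul, hz2, if_neg hne, if_pos rfl]
        exact ⟨fun _ => by decide, fun _ => rfl⟩
      · rw [mul_one, hz2, if_neg hne, if_pos rfl]
        exact ⟨fun _ => by decide, fun _ => rfl⟩
      · rw [hz2, mul_one, if_pos rfl]
        exact ⟨fun h => absurd h hzne, fun h => absurd h (by decide)⟩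
  · intro v hv
    have h1 := sq_of_Eqz (θ_neg L v)
    rw [h1, hv]
    have h2 : q0 (-v) = q0 v := q0_congr (cl_neg v)
    rw [h2]
  · intro v hv
    obtain ⟨x, hx, hxv⟩ := M.lam_surj v hv
    have h1 : Eqz M (θ v) x := (θ_pm L hxv).trans (L.lam x hx)
    rw [sq_of_Eqz h1, L.sh_sq x hx]
    have h2 : q0 v = 0 := by
      unfold q0
      have : sqNorm (v : GolayPt → ℤ) = 32 := hv
      rw [this]
      decide
    exact ⟨fun _ => h2, fun _ => rfl⟩

theorem sq_iff_qf (L : Lift M θ) (p : P) : p * p = 1 ↔ qf (clP L p) = 0 := by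
  obtain ⟨v, hv⟩ := L.surj p
  have hv' : Eqz M p (θ v) := hv
  rw [sq_of_Eqz hv', (clP_eq_cl L).2 hv', qf_cl, sq_iff_q0 L]

theorem clP_act (L : Lift M θ) {k : G} {A : Co0} {α : P ≃* P} {T : Module.End ℚ W}
    (hA : Acts M.Sh M.lam M.u M.X M.Θ M.ρ k A α T) (p : P) : clP L (α p) = A • clP L p := by
  obtain ⟨v, hv⟩ := L.surj p
  have hv' : Eqz M p (θ v) := hv
  rw [(clP_eq_cl L).2 hv', smul_cl, clP_eq_cl]
  have h1 := hv'.map α (α_zc L α)
  exact h1.trans (act_θ L hA v).symm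

/-- a noncentral element is conjugate to its product with the centre -/
theorem exists_flip' (L : Lift M θ) (p : P) (hp : clP L p ≠ 0) :
    ∃ q, q * p * q⁻¹ = M.zc * p := by
  by_contra hcon
  push Not at hcon
  apply hp
  rw [clP_eq_zero]
  refine L.center p fun q => ?_
  rcases M.comm_or q p with e | e
  · exact (mul_inv_eq_iff_eq_mul.1 e).symm
  · exact absurd e (hcon q)

/-- short elements are the elements over the vectors of type 2 -/
theorem mem_Sh_iff (L : Lift M θ) (p : P) : p ∈ M.Sh ↔ IsType 2 (clP L p) := by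
  constructor
  · intro h
    refine ⟨M.lam p, ?_, ?_⟩
    · have := M.lam_norm p h
      show nrm _ = _
      rw [this]; norm_num
    · rw [eq_comm, clP_eq_cl]
      have h1 : Eqz M (θ (M.lam p)) p := L.lam p h
      exact h1.symm
  · rintro ⟨v, hv, hc⟩
    have hv' : nrm v = 32 := by
      show sqNorm _ = _
      rw [hv]; norm_num
    obtain ⟨x, hx, hxv⟩ := M.lam_surj v hv'
    have h1 : Eqz M (θ v) x := (θ_pm L hxv).trans (L.lam x hx)
    have h2 : Eqz M p (θ v) := (clP_eq_cl L).1 hc.symm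
    rcases h2.trans h1 with e | e
    · rw [e]; exact hx
    · rw [e]; exact M.Sh_z x hx

theorem qf_type2 {x : L2} (h : IsType 2 x) : qf x = 0 := by
  obtain ⟨v, hv, rfl⟩ := h
  rw [qf_cl_eq_zero, hv]
  norm_num

theorem qf_type3 {x : L2} (h : IsType 3 x) : qf x ≠ 0 := by
  obtain ⟨v, hv, rfl⟩ := h
  rw [Ne, qf_cl_eq_zero, hv]
  norm_num

theorem qf_type4 {x : L2} (h : IsType 4 x) : qf x = 0 := by
  obtain ⟨v, hv, rfl⟩ := h
  rw [qf_cl_eq_zero, hv]
  norm_num

end Cfsg.Agent.MonsterU.TwoCls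
end

-- part: MonsterU/TwoQ
section
/-!
# Involutions of the Monster: reduction to `K`, involutions in the extraspecial group

* `exists_conj_of_odd` : an involution of a finite group is conjugate into a subgroup of odd index;
* `aut` : conjugation of `ι P` by an element of `K` inducing `A`;
* `two_Q` : an involution of `ι P` is conjugate to `z` or a short element;
* `reg`, `reg_z`, `reg_one` : the elements over an element of `Co0` acting freely on `Λ / 2Λ`.
-/

set_option autoImplicit false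

namespace Cfsg.Agent.MonsterU.TwoQ

open Cfsg Cfsg.Spor Cfsg.Agent.LeechMat.Core Cfsg.Agent.MonsterX.KSide Cfsg.Agent.MonsterX.KLift
open Cfsg.Agent.MonsterX.FrameKS Cfsg.Agent.MonsterX.KModel
open Cfsg.Agent.MonsterU.Lam2 Cfsg.Agent.MonsterU.TwoCls Cfsg.Agent.MonsterU.InvTwo
open Cfsg.Agent.SporadicA.Co0Mono Cfsg.Agent.SporadicA.Co1Simple
open Cfsg.Agent.CoOneType.ClosingFacts Cfsg.Agent.SporadicStructure.Co0Base

/-! ### Subgroups of odd index -/

/-- An involution is conjugate into a subgroup of odd index. -/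
theorem exists_conj_of_odd {Γ : Type*} [Group Γ] [Finite Γ] (K : Subgroup Γ) (hK : ¬ 2 ∣ K.index)
    (u : Γ) (hu : u * u = 1) : ∃ g : Γ, g * u * g⁻¹ ∈ K := by
  have hp : IsPGroup 2 (Subgroup.zpowers u) := by
    have h7 : orderOf u ∣ 2 ^ 1 := by
      apply orderOf_dvd_of_pow_eq_one
      rw [pow_one, pow_two]
      exact hu
    obtain ⟨k, _, hk⟩ := (Nat.dvd_prime_pow Nat.prime_two).1 h7
    exact IsPGroup.of_card (n := k) (by rw [Nat.card_zpowers, hk])
  have : Fact (Nat.Prime 2) := ⟨Nat.prime_two⟩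
  obtain ⟨x, hx⟩ := hp.nonempty_fixed_point_of_prime_not_dvd_card (Γ ⧸ K)
    (by rw [← Subgroup.index_eq_card]; exact hK)
  obtain ⟨g, rfl⟩ := QuotientGroup.mk_surjective x
  have h8 := hx ⟨u, Subgroup.mem_zpowers _⟩
  have h9 : (QuotientGroup.mk (u * g) : Γ ⧸ K) = QuotientGroup.mk g := h8
  have h10 := QuotientGroup.eq.1 h9.symm
  refine ⟨g⁻¹, ?_⟩
  rw [inv_inv]
  rwa [← mul_assoc] at h10

/-- The same for subgroups `K ≤ Γ` of a group. -/
theorem exists_conj_of_odd' {G : Type*} [Group G] {K Γ : Subgroup G} (hΓ : Finite Γ)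
    (hK : ¬ 2 ∣ K.relIndex Γ) {u : G} (hu : u ∈ Γ) (hu2 : u * u = 1) :
    ∃ g ∈ Γ, g * u * g⁻¹ ∈ K := by
  obtain ⟨g, hg⟩ := exists_conj_of_odd (K.subgroupOf Γ) hK ⟨u, hu⟩ (Subtype.ext hu2)
  exact ⟨g, g.2, hg⟩

variable {G V P W : Type*} [Group G] [AddCommGroup V] [Module ℚ V]
  [DistribMulAction G V] [SMulCommClass G ℚ V] [Group P] [AddCommGroup W] [Module ℚ W]
  {M : KS G V P W} {θ : leechLattice → P}

/-! ### Elements of `K` over elements of `Co0` -/

theorem ind_ι (p : P) : Ind M (M.ι p) 1 := fun v => by rw [M.ι_u, one_smul]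

theorem exists_ind (M : KS G V P W) (A : Co0) : ∃ g ∈ M.K, Ind M g A := M.onto A

theorem ind_exists {g : G} (hg : g ∈ M.K) : ∃ A, Ind M g A := by
  obtain ⟨A, α, T, hA⟩ := M.acts g hg
  exact ⟨A, hA.act_u⟩

theorem Ind_conj {g h : G} {A B : Co0} (hg : Ind M g A) (hh : Ind M h B) :
    Ind M (h * g * h⁻¹) (B * A * B⁻¹) := (hh.mul hg).mul hh.inv

theorem mk_of_u {A B : Co0} (h : ∀ v, M.u (A • v) = M.u (B • v)) : mk A = mk B := by
  have h1 : ∀ v, M.u ((B⁻¹ * A) • v) = M.u v := by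
    obtain ⟨k, hk, hkB⟩ := M.onto B
    intro v
    have h2 : k • M.u ((B⁻¹ * A) • v) = k • M.u v := by
      rw [hkB, hkB, mul_smul, smul_inv_smul]
      exact h v
    have h3 := congrArg (k⁻¹ • ·) h2
    simpa using h3
  have h2 := mem_center_of_pm (B⁻¹ * A) (M.pm_of_u _ h1)
  exact (QuotientGroup.eq.2 h2).symm

theorem Ind_mk_eq {g : G} {A B : Co0} (h : Ind M g A) (h' : Ind M g B) : mk A = mk B :=
  mk_of_u fun v => by rw [← h, h']

theorem Ind_of_mk {g : G} {A B : Co0} (h : Ind M g A) (e : mk A = mk B) : Ind M g B := by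
  intro v
  rw [h]
  rcases (Cfsg.Agent.CoOneType.ClosingFacts.mk_eq A B).1 e with rfl | rfl
  · rfl
  · rw [mul_smul]
    have h1 : signCo0 allOne • v = -v := allOne_smul v
    rw [h1, Cfsg.Agent.LeechMat.Core.co0_smul_neg, M.u_neg]

theorem Ind_eq_ι {g h : G} {A : Co0} (hgK : g ∈ M.K) (hhK : h ∈ M.K) (hg : Ind M g A)
    (hh : Ind M h A) : ∃ p, g = M.ι p * h := by
  obtain ⟨q, hq⟩ := M.mem_ι_of_trivial (g * h⁻¹) (M.K.mul_mem hgK (M.K.inv_mem hhK)) (fun v => by
    have h2 := (hg.mul hh.inv) v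
    rwa [mul_inv_cancel, one_smul] at h2)
  exact ⟨q, by rw [← hq, inv_mul_cancel_right]⟩

/-- an element of `K` is in `ι P` exactly when it induces `± 1` -/
theorem Ind_mem_iff {g : G} {A : Co0} (hgK : g ∈ M.K) (hg : Ind M g A) :
    (∃ p, g = M.ι p) ↔ mk A = 1 := by
  constructor
  · rintro ⟨p, rfl⟩
    exact Ind_mk_eq hg (ind_ι p)
  · intro h
    obtain ⟨p, hp⟩ := Ind_eq_ι hgK M.K.one_mem (Ind_of_mk hg h) (Ind.one M)
    exact ⟨p, by rw [hp, mul_one]⟩

/-- Conjugation of `ι P` by an element inducing `A`. -/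
theorem aut (L : Lift M θ) {g : G} {A : Co0} (hgK : g ∈ M.K) (hg : Ind M g A) :
    ∃ α : P ≃* P, (∀ p, g * M.ι p = M.ι (α p) * g) ∧ ∀ p, clP L (α p) = A • clP L p := by
  obtain ⟨B, α, T, hB⟩ := M.acts g hgK
  refine ⟨α, conj_ι hB, fun p => ?_⟩
  rw [clP_act L hB]
  have h1 : Ind M g B := hB.act_u
  exact smul_eq_of_mk (Ind_mk_eq h1 hg) _

theorem z_comm (k : G) (hk : k ∈ M.K) : k * M.z = M.z * k := M.z_comm_K k hk

theorem z_comm_ι (q : P) : M.ι q * M.z = M.z * M.ι q := M.z_comm_K _ (M.ι_mem q)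

theorem z_ne_one (L : Lift M θ) : M.z ≠ 1 := by
  intro e
  apply M.zc_ne
  apply ι_inj L
  rw [map_one]
  exact e

/-! ### Involutions in `ι P` -/

theorem conj_in_Q (L : Lift M θ) {p p' : P} (h0 : clP L p' ≠ 0)
    (h : ∃ A : Co0, A • clP L p = clP L p') : ∃ g ∈ M.K, g * M.ι p * g⁻¹ = M.ι p' := by
  obtain ⟨A, hA⟩ := h
  obtain ⟨g, hgK, hg⟩ := exists_ind M A
  obtain ⟨α, h1, h2⟩ := aut L hgK hg
  have h3 : clP L (α p) = clP L p' := by rw [h2, hA]
  have h4 : g * M.ι p * g⁻¹ = M.ι (α p) := by rw [h1, mul_inv_cancel_right]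
  rcases (clP_eq' L).1 h3 with e | e
  · exact ⟨g, hgK, by rw [h4, e]⟩
  · obtain ⟨q, hq⟩ := exists_flip' L p' h0
    have hq' : q * (M.zc * p') * q⁻¹ = p' := by
      have h5 : q * (M.zc * p') * q⁻¹ = M.zc * (q * p' * q⁻¹) := by
        rw [← mul_assoc q, ← M.zc_comm q]
        group
      rw [h5, hq, M.zc_zc]
    refine ⟨M.ι q * g, M.K.mul_mem (M.ι_mem q) hgK, ?_⟩
    have h6 : M.ι q * g * M.ι p * (M.ι q * g)⁻¹ = M.ι q * (g * M.ι p * g⁻¹) * (M.ι q)⁻¹ := by
      group
    rw [h6, h4, e, ← map_inv, ← map_mul, ← map_mul, hq']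

theorem isType_e8 : IsType 4 (cl (e8 none)) := by
  refine ⟨e8 none, ?_, rfl⟩
  decide +kernel

/-- **An involution of `ι P` is conjugate to `z` or to a short element.** -/
theorem two_Q (L : Lift M θ) {Γ : Subgroup G} {τ : G} {y : P} (H : TauHyp M θ Γ τ y) (q : P)
    (hq : M.ι q * M.ι q = 1) (hq1 : M.ι q ≠ 1) : Con M Γ (M.ι q) := by
  have hp2 : q * q = 1 := by
    apply ι_inj L
    rw [map_mul, hq, map_one]
  have hqf := (sq_iff_qf L q).1 hp2
  rcases type_cases (clP L q) with h | h | h | h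
  · rcases (clP_eq_zero L).1 h with e | e
    · exact absurd (by rw [e, map_one]) hq1
    · left
      exact ⟨1, Γ.one_mem, by rw [e, one_mul, inv_one, mul_one]; rfl⟩
  · right
    exact ⟨1, Γ.one_mem, q, (mem_Sh_iff L q).2 h, by rw [one_mul, inv_one, mul_one]⟩
  · exact absurd hqf (qf_type3 h)
  · left
    have h1 : clP L y = cl (e8 none) := (clP_eq_cl L).2 H.y_eq
    have h4 : IsType 4 (clP L y) := by rw [h1]; exact isType_e8
    have h0 : clP L y ≠ 0 := by
      intro e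
      rcases (clP_eq_zero L).1 e with e' | e'
      · have h2 := H.τ_z
        rw [e', map_one, mul_inv_eq_one, mul_eq_left] at h2
        exact z_ne_one L h2
      · -- then `y` is central and of type 4
        rw [h1] at e
        obtain ⟨v, hv⟩ := cl_eq_zero.1 e
        have h5 : sqNorm ((e8 none : leechLattice) : GolayPt → ℤ) = 4 * sqNorm (v : GolayPt → ℤ) := by
          have : ((2 • v : leechLattice) : GolayPt → ℤ) = (2 : ℤ) • (v : GolayPt → ℤ) := by
            rw [two_smul, two_smul]; rfl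
          rw [hv, this, Cfsg.Agent.LeechMat.Core.sqNorm_smul]; norm_num
        have h6 : sqNorm ((e8 none : leechLattice) : GolayPt → ℤ) = 64 := by decide +kernel
        rw [h6] at h5
        have h7 : sqNorm (v : GolayPt → ℤ) = 16 := by omega
        have hv0 : (v : GolayPt → ℤ) ≠ 0 := by
          intro e0
          rw [e0] at h7
          revert h7
          decide +kernel
        have h8 := Cfsg.Agent.S0391.result v v.2 hv0
        omega
    obtain ⟨g, hg, e⟩ := conj_in_Q L h0 (h.trans (Or.inr (Or.inr rfl)) h4)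
    refine ⟨τ⁻¹ * g, Γ.mul_mem (Γ.inv_mem H.τ_mem) (H.K_le hg), ?_⟩
    calc τ⁻¹ * g * M.ι q * (τ⁻¹ * g)⁻¹ = τ⁻¹ * (g * M.ι q * g⁻¹) * τ := by group
      _ = M.z := by rw [e, ← H.τ_z]; group

/-! ### Elements over an element of `Co0` acting freely on `Λ / 2Λ` -/

/-- `A` acts freely on `Λ / 2Λ`: the fixed points are the commutators. -/
def Free (A : Co0) : Prop := ∀ x : L2, A • x = x → ∃ y : L2, x = A • y + y

/-- The class of the factor in `ι P` of an element with central square is fixed. -/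
theorem fixed_of_sq (L : Lift M θ) {A : Co0} {k₀ : G} {p : P} (hk₀ : k₀ ∈ M.K) (hk : Ind M k₀ A)
    (hk2 : k₀ * k₀ = 1 ∨ k₀ * k₀ = M.z)
    (hu2 : M.ι p * k₀ * (M.ι p * k₀) = 1 ∨ M.ι p * k₀ * (M.ι p * k₀) = M.z) :
    A • clP L p = clP L p := by
  obtain ⟨α, h1, h2⟩ := aut L hk₀ hk
  have h4 : M.ι p * k₀ * (M.ι p * k₀) = M.ι (p * α p) * (k₀ * k₀) := by
    rw [map_mul]
    calc M.ι p * k₀ * (M.ι p * k₀) = M.ι p * (k₀ * M.ι p) * k₀ := by group
      _ = M.ι p * (M.ι (α p) * k₀) * k₀ := by rw [h1]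
      _ = _ := by group
  have h5 : M.ι (p * α p) = 1 ∨ M.ι (p * α p) = M.z := by
    have h6 : M.ι (p * α p) = M.ι p * k₀ * (M.ι p * k₀) * (k₀ * k₀)⁻¹ := by
      rw [h4]; group
    rw [h6]
    rcases hu2 with e | e <;> rcases hk2 with e' | e' <;> rw [e, e']
    · left; group
    · right; rw [one_mul]; exact inv_eq_of_mul_eq_one_left M.z_mul
    · right; group
    · left; group
  have h6 : clP L (p * α p) = 0 := by
    rw [clP_eq_zero]
    rcases h5 with e | e
    · left; apply ι_inj L; rw [e, map_one]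
    · right; apply ι_inj L; rw [e]; rfl
  rw [clP_mul, h2] at h6
  exact (eq_of_add_eq_zero h6).symm

/-- If `k₀` lies over `A`, `k₀²` is central and `A` acts freely on `Λ / 2Λ` then all elements `u`
over `A` with `u²` central are conjugate under `ι P` to `k₀` or `z k₀`. -/
theorem reg (L : Lift M θ) {A : Co0} (hA : Free A) {k₀ u : G} (hk₀ : k₀ ∈ M.K)
    (hk : Ind M k₀ A) (huK : u ∈ M.K) (hu : Ind M u A) (hk2 : k₀ * k₀ = 1 ∨ k₀ * k₀ = M.z)
    (hu2 : u * u = 1 ∨ u * u = M.z) :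
    ∃ q, u = M.ι q * k₀ * (M.ι q)⁻¹ ∨ u = M.z * (M.ι q * k₀ * (M.ι q)⁻¹) := by
  obtain ⟨p, rfl⟩ := Ind_eq_ι huK hk₀ hu hk
  have h3 := fixed_of_sq L hk₀ hk hk2 hu2
  obtain ⟨α, h1, h2⟩ := aut L hk₀ hk
  obtain ⟨y, hy⟩ := hA _ h3
  obtain ⟨q, rfl⟩ := clP_surjective L y
  have h7 : clP L p = clP L (q * (α q)⁻¹) := by
    rw [hy, clP_mul, clP_inv, h2, add_comm]
  have h8 : M.ι q * k₀ * (M.ι q)⁻¹ = M.ι (q * (α q)⁻¹) * k₀ := by
    have h9 : k₀ * (M.ι q)⁻¹ = (M.ι (α q))⁻¹ * k₀ := by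
      rw [← map_inv, h1, map_inv, map_inv]
    rw [mul_assoc, h9, map_mul, map_inv]
    group
  refine ⟨q, ?_⟩
  rw [h8]
  rcases (clP_eq' L).1 h7 with e | e
  · left; rw [← e]
  · right
    rw [e, map_mul, mul_assoc]
    rfl

end Cfsg.Agent.MonsterU.TwoQ
end
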