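import Cfsg.Agent.MonsterU.InvTwo
import Cfsg.Agent.MonsterU.InvTwoLat
import Cfsg.Agent.GolayTrio.Trans
import Cfsg.Agent.MonsterU.TwoQ
import Cfsg.Agent.FastGrp
import Cfsg.Agent.Prune
set_option linter.all false

section
prune_inst 0x7ffeffffaff8bfffffff7e7ffffffffdfbf9dfffefdffdfbffe1efffffff376fafe5fbafefe4d2fedef6e2bc10ba7853ff7eefffeb6bde7ffffdfff45ffbee5ff7ffbd0971ff9cbe1ffc6ffffbf37fff7f3fffffffffffffffffffffffffffffffffffffffff

-- part: MonsterU/InvTwoOct
section
prune_inst 0x100005004400000000000000000000004000000200000000000000000008040000000000008000100000080000000000000000004000000000000000000000000000400002000000200000000000000000000000000000000000000000000000000000000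
set_option linter.all false
open scoped Cfsg.Agent.FastGrp

-- part: MonsterU/InvTwoGrp
section
/-!
Calculations in `K` modulo `z`, and the group `Y = τ ι(P) τ⁻¹`.
-/

set_option autoImplicit false

namespace Cfsg.Agent.MonsterU.InvTwo

open Cfsg Cfsg.Agent.LeechMat.Core Cfsg.Agent.MonsterX.KSide Cfsg.Agent.MonsterX.KLift
open Cfsg.Agent.MonsterX.FrameKS
open Cfsg.Agent.SporadicStructure.Co0Base (e8 e8_coe)
open Cfsg.Agent.SporadicA.Co0Mono (signCo0 permCo0 wordPerm permCo0_smul signCo0_smul perm_mul_sign_mul_inv)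
open Cfsg.Agent.MonsterU.InvTwoLat

variable {G V P W : Type*} [Group G] [AddCommGroup V] [Module ℚ V]
  [DistribMulAction G V] [SMulCommClass G ℚ V] [Group P] [AddCommGroup W] [Module ℚ W]
  {M : KS G V P W} {θ : leechLattice → P} {Γ : Subgroup G} {τ : G} {y : P}

/-- The element of `K` over a lattice vector. -/
def phi (M : KS G V P W) (θ : leechLattice → P) (v : leechLattice) : G := M.ι (θ v)

theorem phi_mem (v : leechLattice) : phi M θ v ∈ M.K := M.ι_mem _

theorem z_mem_K : M.z ∈ M.K := M.ι_mem _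

theorem z_comm (L : Lift M θ) {k : G} (hk : k ∈ M.K) : k * M.z = M.z * k := by
  obtain ⟨A, α, T, hA⟩ := M.acts k hk
  have h := conj_ι hA M.zc
  rw [α_zc L α] at h
  exact h

theorem Zq.refl (a : G) : Zq M a a := Or.inl rfl

theorem Zq.of_eq {a b : G} (h : a = b) : Zq M a b := Or.inl h

theorem Zq.symm {a b : G} (h : Zq M a b) : Zq M b a := by
  rcases h with rfl | rfl
  · exact Or.inl rfl
  · right; rw [← mul_assoc, M.z_mul, one_mul]

theorem Zq.trans {a b c : G} (h : Zq M a b) (h' : Zq M b c) : Zq M a c := by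
  rcases h with rfl | rfl
  · exact h'
  · rcases h' with rfl | rfl
    · exact Or.inr rfl
    · left; rw [← mul_assoc, M.z_mul, one_mul]

theorem Zq.mul (L : Lift M θ) {a b c d : G} (hb : b ∈ M.K) (h : Zq M a b) (h' : Zq M c d) :
    Zq M (a * c) (b * d) := by
  rcases h with rfl | rfl <;> rcases h' with rfl | rfl
  · exact Or.inl rfl
  · right; rw [← mul_assoc, z_comm L hb, mul_assoc]
  · right; rw [mul_assoc]
  · left
    rw [show M.z * b * (M.z * d) = M.z * (b * M.z) * d by group, z_comm L hb,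
      show M.z * (M.z * b) * d = M.z * M.z * (b * d) by group, M.z_mul, one_mul]

theorem Zq.inv (L : Lift M θ) {a b : G} (hb : b ∈ M.K) (h : Zq M a b) : Zq M a⁻¹ b⁻¹ := by
  have hz : (M.z)⁻¹ = M.z := inv_eq_of_mul_eq_one_left M.z_mul
  rcases h with rfl | rfl
  · exact Or.inl rfl
  · right
    rw [mul_inv_rev, hz, z_comm L (M.K.inv_mem hb)]

/-- Conjugation by an element of `K`. -/
theorem Zq.conj (L : Lift M θ) {k a b : G} (hk : k ∈ M.K) (h : Zq M a b) :
    Zq M (k * a * k⁻¹) (k * b * k⁻¹) := by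
  rcases h with rfl | rfl
  · exact Or.inl rfl
  · right
    rw [← mul_assoc, z_comm L hk]; group

theorem Zq.mem {a b : G} (h : Zq M a b) (hb : b ∈ M.K) : a ∈ M.K := by
  rcases h with rfl | rfl
  · exact hb
  · exact M.K.mul_mem z_mem_K hb

theorem phi_add (L : Lift M θ) (v w : leechLattice) :
    Zq M (phi M θ (v + w)) (phi M θ v * phi M θ w) := by
  unfold phi
  rw [← map_mul]
  exact Zq.of_eqz (L.add v w)

theorem phi_two (L : Lift M θ) (v w : leechLattice) :
    Zq M (phi M θ (v + 2 • w)) (phi M θ v) :=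
  Zq.of_eqz (eqz_of_congr L ⟨w, by abel⟩)

theorem phi_eqz_of (L : Lift M θ) {v w : leechLattice} (h : ∃ t : leechLattice, v - w = 2 • t) :
    Zq M (phi M θ v) (phi M θ w) := Zq.of_eqz (eqz_of_congr L h)

theorem eqz_of_zq (L : Lift M θ) {a b : P} (h : Zq M (M.ι a) (M.ι b)) : Eqz M a b := by
  rcases h with h | h
  · exact Or.inl (ι_inj L h)
  · exact Or.inr (ι_inj L (by rw [h, map_mul]; rfl))

theorem congr_of_zq (L : Lift M θ) {v w : leechLattice} (h : Zq M (phi M θ v) (phi M θ w)) :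
    ∃ t : leechLattice, v - w = 2 • t := congr_of_eqz L (eqz_of_zq L h)

theorem phi_one_of (L : Lift M θ) {v : leechLattice} (h : Zq M (phi M θ v) 1) :
    ∃ t : leechLattice, v = 2 • t := by
  have h1 : Zq M (M.ι (θ v)) (M.ι 1) := by rw [map_one]; exact h
  exact L.ker v (by
    rcases eqz_of_zq L h1 with h2 | h2
    · exact Or.inl h2
    · exact Or.inr (by rw [h2, mul_one]))

theorem phi_sq (L : Lift M θ) (v : leechLattice) : Zq M (phi M θ v * phi M θ v) 1 := by
  unfold phi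
  rw [← map_mul]
  rcases L.sq (θ v) with h | h
  · left; rw [h, map_one]
  · right; rw [h, mul_one]; rfl

theorem phi_inv (L : Lift M θ) (v : leechLattice) : Zq M (phi M θ v)⁻¹ (phi M θ v) := by
  have h := (phi_sq L v).mul L (M.K.one_mem) (Zq.refl (M := M) (phi M θ v)⁻¹)
  rw [mul_inv_cancel_right, one_mul] at h
  exact h.symm

/-- An element of `K` with its action on `P`. -/
theorem exists_alpha (L : Lift M θ) {k : G} {A : Co0} (hk : k ∈ M.K) (h : Ind M k A) :
    ∃ α : P ≃* P, (∀ p, k * M.ι p = M.ι (α p) * k) ∧ ∀ v, Eqz M (θ (A • v)) (α (θ v)) := by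
  obtain ⟨A', α, T, hA⟩ := M.acts k hk
  refine ⟨α, conj_ι hA, fun v => ?_⟩
  have hAr : ∀ v : leechLattice, A' • v = A • v ∨ A' • v = -(A • v) := by
    have h1 : ∀ v, M.u ((A'⁻¹ * A) • v) = M.u v := by
      intro v
      have h2 := hA.act_u (A'⁻¹ • A • v)
      rw [smul_inv_smul, ← h] at h2
      have h3 := congrArg (k⁻¹ • ·) h2
      simp only [inv_smul_smul] at h3
      rw [mul_smul]
      exact h3
    intro v
    rcases M.pm_of_u _ h1 with h2 | h2
    · left
      have := h2 v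
      rw [mul_smul, inv_smul_eq_iff] at this
      exact this.symm
    · right
      have := h2 v
      rw [mul_smul, inv_smul_eq_iff, co0_smul_neg] at this
      rw [this, neg_neg]
  refine Eqz.trans ?_ (act_θ L hA v)
  apply θ_pm L
  rcases hAr v with h | h
  · exact Or.inl h.symm
  · right; rw [h, neg_neg]

theorem phi_conj (L : Lift M θ) {k : G} {A : Co0} (hk : k ∈ M.K) (h : Ind M k A) (v : leechLattice) :
    Zq M (k * phi M θ v * k⁻¹) (phi M θ (A • v)) := by
  obtain ⟨α, h1, h2⟩ := exists_alpha L hk h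
  have h3 : k * phi M θ v * k⁻¹ = M.ι (α (θ v)) := by
    unfold phi
    rw [h1, mul_inv_cancel_right]
  rw [h3]
  exact (Zq.of_eqz (h2 v)).symm

/-- Elements of `K` acting trivially on the lattice modulo sign. -/
theorem exists_phi (L : Lift M θ) {k : G} (hk : k ∈ M.K) (h : Ind M k 1) :
    ∃ v, Zq M k (phi M θ v) := by
  obtain ⟨q, rfl⟩ := M.mem_ι_of_trivial k hk (fun v => by rw [h v, one_smul])
  obtain ⟨v, hv⟩ := L.surj q
  exact ⟨v, Zq.of_eqz hv⟩

theorem ind_phi (v : leechLattice) : Ind M (phi M θ v) 1 := fun w => by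
  rw [one_smul]; exact M.ι_u _ _

/-- Two elements of `K` over the same element of `Co0`. -/
theorem exists_phi_mul (L : Lift M θ) {u s : G} {A : Co0} (hu : u ∈ M.K) (hs : s ∈ M.K)
    (hA : Ind M u A) (hA' : Ind M s A) : ∃ x, Zq M u (phi M θ x * s) := by
  obtain ⟨x, hx⟩ := exists_phi L (k := u * s⁻¹) (M.K.mul_mem hu (M.K.inv_mem hs)) (by
    have := hA.mul hA'.inv
    rwa [mul_inv_cancel] at this)
  refine ⟨x, ?_⟩
  have h := hx.mul L (phi_mem x) (Zq.refl (M := M) s)
  rwa [inv_mul_cancel_right] at h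

/-- Conjugating `φ x · s` by `φ r`. -/
theorem phi_conj_mul (L : Lift M θ) {s : G} {ε : Co0} (hs : s ∈ M.K) (hε : Ind M s ε)
    (r x : leechLattice) :
    Zq M (phi M θ r * (phi M θ x * s) * (phi M θ r)⁻¹) (phi M θ (x + (r - ε • r)) * s) := by
  have h1 : phi M θ r * (phi M θ x * s) * (phi M θ r)⁻¹ =
      phi M θ r * phi M θ x * (s * phi M θ r * s⁻¹)⁻¹ * s := by group
  rw [h1]
  have h2 := (phi_conj L hs hε r).inv L (phi_mem _)
  have h3 := h2.trans (phi_inv L (ε • r))
  have h4 : Zq M (phi M θ r * phi M θ x * (s * phi M θ r * s⁻¹)⁻¹)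
      (phi M θ r * phi M θ x * phi M θ (ε • r)) :=
    (Zq.refl _).mul L (M.K.mul_mem (phi_mem _) (phi_mem _)) h3
  have h5 : Zq M (phi M θ (x + (r - ε • r))) (phi M θ r * phi M θ x * phi M θ (ε • r)) := by
    have e : x + (r - ε • r) = r + x + ε • r + 2 • (-(ε • r)) := by
      rw [smul_neg, two_smul]; abel
    rw [e]
    refine (phi_two L _ _).trans ((phi_add L _ _).trans ?_)
    exact (phi_add L _ _).mul L (M.K.mul_mem (phi_mem _) (phi_mem _)) (Zq.refl _)
  exact (h4.trans h5.symm).mul L (phi_mem _) (Zq.refl _)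

/-- The square of `φ x · s`. -/
theorem congr_of_sq (L : Lift M θ) {s u : G} {ε : Co0} (hs : s ∈ M.K) (hε : Ind M s ε)
    (hss : s * s = 1) (huu : u * u = 1) {x : leechLattice} (hu : Zq M u (phi M θ x * s)) :
    ∃ t : leechLattice, x - ε • x = 2 • t := by
  have h1 : Zq M 1 (phi M θ x * s * (phi M θ x * s)) := by
    have := hu.mul L (M.K.mul_mem (phi_mem _) hs) hu
    rwa [huu] at this
  have h2 : phi M θ x * s * (phi M θ x * s) = phi M θ x * (s * phi M θ x * s⁻¹) * (s * s) := by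
    group
  rw [h2, hss, mul_one] at h1
  have h3 : Zq M (phi M θ x * (s * phi M θ x * s⁻¹)) (phi M θ (x + ε • x)) :=
    ((Zq.refl (M := M) (phi M θ x)).mul L (phi_mem _) (phi_conj L hs hε x)).trans
      (phi_add L _ _).symm
  obtain ⟨t, ht⟩ := phi_one_of L (h1.trans h3).symm
  refine ⟨x - t, ?_⟩
  have : x - ε • x = 2 • x - (x + ε • x) := by rw [two_smul]; abel
  rw [this, ht, smul_sub]

/-! ### The group `Y = τ ι(P) τ⁻¹` -/

/-- Membership in `Y`. -/
def InY (M : KS G V P W) (τ g : G) : Prop := ∃ q, g = τ * M.ι q * τ⁻¹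

theorem InY.mul {a b : G} (ha : InY M τ a) (hb : InY M τ b) : InY M τ (a * b) := by
  obtain ⟨p, rfl⟩ := ha
  obtain ⟨q, rfl⟩ := hb
  exact ⟨p * q, by rw [map_mul]; group⟩

theorem InY.inv {a : G} (ha : InY M τ a) : InY M τ a⁻¹ := by
  obtain ⟨p, rfl⟩ := ha
  exact ⟨p⁻¹, by rw [map_inv]; group⟩

/-- The class of `8 e_∞` is not zero. -/
theorem e8_ne : ¬ ∃ t : leechLattice, e8 none = 2 • t := by
  rintro ⟨t, ht⟩
  have h := even_of_four t (fun i => if i = none then 1 else 0) (fun i => by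
    have h1 := congrArg (fun v : leechLattice => (v : GolayPt → ℤ) i) ht
    simp only [coe_two, e8_coe] at h1
    by_cases hi : i = none
    · subst hi
      rw [Pi.single_eq_same] at h1
      rw [if_pos rfl]; omega
    · rw [Pi.single_eq_of_ne hi] at h1
      rw [if_neg hi]; omega)
  rw [Finset.sum_ite_eq'] at h
  simp at h

section

variable (L : Lift M θ) (H : TauHyp M θ Γ τ y)

include H in
theorem zq_y : Zq M (M.ι y) (phi M θ (e8 none)) := Zq.of_eqz H.y_eq

include L H in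
theorem y_ne : ¬ Zq M (M.ι y) 1 := fun h =>
  e8_ne (phi_one_of L ((zq_y H).symm.trans h))

include H in
theorem z_inY : InY M τ M.z := H.z_mem

include H in
theorem y_mul : M.ι y * M.ι y = 1 := by
  rw [← H.τ_z]
  have := M.z_mul
  calc τ * M.z * τ⁻¹ * (τ * M.z * τ⁻¹) = τ * (M.z * M.z) * τ⁻¹ := by group
    _ = 1 := by rw [this]; group

include H in
/-- `ι y` is central in `Y`. -/
theorem y_comm {a : G} (ha : InY M τ a) : a * M.ι y = M.ι y * a := by
  obtain ⟨p, rfl⟩ := ha
  rw [← H.τ_z]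
  have h : M.ι p * M.z = M.z * M.ι p := by
    rw [KS.z, ← map_mul, ← map_mul, M.zc_comm]
  calc τ * M.ι p * τ⁻¹ * (τ * M.z * τ⁻¹) = τ * (M.ι p * M.z) * τ⁻¹ := by group
    _ = _ := by rw [h]; group

include H in
theorem comm_or_Y {a b : G} (ha : InY M τ a) (hb : InY M τ b) :
    a * b * a⁻¹ = b ∨ a * b * a⁻¹ = M.ι y * b := by
  obtain ⟨p, rfl⟩ := ha
  obtain ⟨q, rfl⟩ := hb
  have e : τ * M.ι p * τ⁻¹ * (τ * M.ι q * τ⁻¹) * (τ * M.ι p * τ⁻¹)⁻¹ =
      τ * M.ι (p * q * p⁻¹) * τ⁻¹ := by rw [map_mul, map_mul, map_inv]; group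
  rw [e]
  rcases M.comm_or p q with h | h
  · left; rw [h]
  · right
    rw [h, map_mul, ← H.τ_z]
    show τ * (M.z * M.ι q) * τ⁻¹ = _
    group

include L H in
theorem sq_Y {a : G} (ha : InY M τ a) : a * a = 1 ∨ a * a = M.ι y := by
  obtain ⟨p, rfl⟩ := ha
  have e : τ * M.ι p * τ⁻¹ * (τ * M.ι p * τ⁻¹) = τ * M.ι (p * p) * τ⁻¹ := by
    rw [map_mul]; group
  rw [e]
  rcases L.sq p with h | h
  · left; rw [h, map_one]; group
  · right; rw [h]; exact H.τ_z

theorem ι_sq (L : Lift M θ) (p : P) : M.ι p * M.ι p = 1 ∨ M.ι p * M.ι p = M.z := by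
  rw [← map_mul]
  rcases L.sq p with h | h
  · left; rw [h, map_one]
  · right; rw [h]; rfl

theorem ι_comm_or (p q : P) : M.ι p * M.ι q * (M.ι p)⁻¹ = M.ι q ∨
    M.ι p * M.ι q * (M.ι p)⁻¹ = M.z * M.ι q := by
  rw [← map_inv, ← map_mul, ← map_mul]
  rcases M.comm_or p q with h | h
  · left; rw [h]
  · right; rw [h, map_mul]; rfl

include L H in
/-- Elements of `ι(P) ∩ Y` have square 1. -/
theorem sq_inter {p : P} (hp : InY M τ (M.ι p)) : M.ι p * M.ι p = 1 := by
  rcases ι_sq L p with h | h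
  · exact h
  · rcases sq_Y L H hp with h' | h'
    · exact h'
    · exfalso
      apply y_ne L H
      right
      rw [← h', h, mul_one]

include L H in
/-- A conjugate which is equal up to `z` and up to `ι y` is equal. -/
theorem eq_of_both {a b : G} (h1 : Zq M a b) (h2 : a = b ∨ a = M.ι y * b) : a = b := by
  rcases h2 with h2 | h2
  · exact h2
  · exfalso
    apply y_ne L H
    rcases h1 with h1 | h1
    · left
      have : M.ι y * b = 1 * b := by rw [one_mul, ← h2, h1]
      exact mul_right_cancel this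
    · right
      rw [mul_one]
      exact mul_right_cancel (h2.symm.trans h1)

include L H in
/-- The elements of `Y` in `ι(P)` over vectors divisible by 4. -/
theorem phi_inY {v : leechLattice} (hv : ∀ i, (4 : ℤ) ∣ (v : GolayPt → ℤ) i) :
    InY M τ (phi M θ v) := H.E_mem v hv

theorem pr_dvd (i j k : GolayPt) : (4 : ℤ) ∣ ((pr i j : leechLattice) : GolayPt → ℤ) k :=
  ⟨_, pr_coe i j k⟩

/-- The class of `8 e_i` does not depend on `i`. -/
theorem e8_congr (i j : GolayPt) : ∃ t : leechLattice, e8 i - e8 j = 2 • t := by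
  refine ⟨pr i j - e8 j, ?_⟩
  apply Subtype.ext
  funext k
  rw [coe_sub, coe_two, coe_sub, pr_coe, e8_coe, e8_coe]
  simp only [Pi.single_apply]
  split_ifs <;> ring

include L H in
/-- **(E1)** An involution of `Y ∩ K` over the sign change on a word. -/
theorem exists_s (c : golayCode) {o p : GolayPt} (ho : o ∈ (support₂ (c : GolayPt → ZMod 2) :))
    (hp : p ∉ support₂ (c : GolayPt → ZMod 2)) :
    ∃ s ∈ M.K, InY M τ s ∧ s * s = 1 ∧ Ind M s (signCo0 c) := by
  obtain ⟨q, hK, hI⟩ := H.sgn c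
  set s := τ * M.ι q * τ⁻¹ with hs
  have hsY : InY M τ s := ⟨q, hs⟩
  rcases sq_Y L H hsY with h | h
  · exact ⟨s, hK, hsY, h, hI⟩
  set e := phi M θ (pr o p) with he
  have heY : InY M τ e := phi_inY L H (pr_dvd o p)
  have hee : e * e = 1 := sq_inter L H heY
  refine ⟨e * s, M.K.mul_mem (phi_mem _) hK, heY.mul hsY, ?_, ?_⟩
  · have h1 : s * e * s⁻¹ = M.ι y * e := by
      rcases comm_or_Y H hsY heY with h2 | h2
      · exfalso
        have h3 := phi_conj L hK hI (pr o p)
        rw [← he, h2] at h3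
        have hε := isEps_sign c
        have h4 : signCo0 c • pr o p = pr o p + e8 none + 2 • (-(e8 o)) + (e8 o - e8 none) := by
          apply Subtype.ext
          funext k
          rw [coe_add, coe_add, coe_add, coe_two, coe_neg, coe_sub, hε, pr_coe, e8_coe, e8_coe]
          by_cases hko : k = o
          · subst hko
            have hkp : k ≠ p := fun e => hp (e ▸ ho)
            simp [ho, hkp]
            ring
          · by_cases hkp : k = p
            · subst hkp
              simp [hp, hko]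
            · simp [hko, hkp]
        obtain ⟨t, ht⟩ := e8_congr o none
        have h5 : Zq M (phi M θ (signCo0 c • pr o p)) (phi M θ (pr o p) * M.ι y) := by
          rw [h4, ht]
          refine (phi_two L _ _).trans ((phi_two L _ _).trans ((phi_add L _ _).trans ?_))
          exact (Zq.refl _).mul L (phi_mem _) (zq_y H).symm
        have h6 : Zq M (e⁻¹ * e) (e⁻¹ * (e * M.ι y)) :=
          (Zq.refl (M := M) e⁻¹).mul L (M.K.inv_mem (phi_mem _)) (h3.trans h5)
        rw [inv_mul_cancel, inv_mul_cancel_left] at h6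
        exact y_ne L H h6.symm
      · exact h2
    have h2 : e * s * (e * s) = e * (s * e * s⁻¹) * (s * s) := by group
    rw [h2, h1, h]
    have h3 := y_comm H heY
    calc e * (M.ι y * e) * M.ι y = (e * M.ι y) * (e * M.ι y) := by group
      _ = (e * M.ι y) * (M.ι y * e) := by rw [h3]
      _ = e * (M.ι y * M.ι y) * e := by group
      _ = 1 := by rw [y_mul H, mul_one, hee]
  · have := (ind_phi (M := M) (θ := θ) (pr o p)).mul hI
    rwa [one_mul] at this

include L H in
/-- **(E5)** The elements of `K` commuting with `ι y` normalise `Y`. -/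
theorem conj_inY {k : G} (hk : k ∈ M.K) (hky : k * M.ι y * k⁻¹ = M.ι y) {g : G} (hg : InY M τ g) :
    InY M τ (k * g * k⁻¹) := by
  obtain ⟨q, rfl⟩ := hg
  have hm : τ⁻¹ * k * τ ∈ M.K := by
    apply H.cent
    · exact Γ.mul_mem (Γ.mul_mem (Γ.inv_mem H.τ_mem) (H.K_le hk)) H.τ_mem
    · have h1 : k * M.ι y = M.ι y * k := by
        rw [← hky]; simp only [inv_mul_cancel_right]
        rw [hky]
      have h2 : τ * M.z = M.ι y * τ := by rw [← H.τ_z]; group
      calc τ⁻¹ * k * τ * M.z = τ⁻¹ * k * (τ * M.z) := by group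
        _ = τ⁻¹ * (k * M.ι y) * τ := by rw [h2]; group
        _ = τ⁻¹ * M.ι y * k * τ := by rw [h1]; group
        _ = M.z * (τ⁻¹ * k * τ) := by rw [← H.τ_z]; group
  obtain ⟨A, α, T, hA⟩ := M.acts _ hm
  refine ⟨α q, ?_⟩
  have h := conj_ι hA q
  calc k * (τ * M.ι q * τ⁻¹) * k⁻¹ = τ * (τ⁻¹ * k * τ * M.ι q) * (τ⁻¹ * k⁻¹) := by group
    _ = τ * M.ι (α q) * τ⁻¹ := by rw [h]; group

include L H in
/-- **(E6)** A permutation is induced by an element of `K` commuting with `ι y`. -/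
theorem exists_perm (σ : M24) : ∃ k ∈ M.K, Ind M k (permCo0 σ) ∧ k * M.ι y * k⁻¹ = M.ι y := by
  obtain ⟨k, hk, hI⟩ := M.onto (permCo0 σ)
  have hI : Ind M k (permCo0 σ) := hI
  have h1 : Zq M (k * M.ι y * k⁻¹) (M.ι y) := by
    refine ((zq_y H).conj L hk).trans ((phi_conj L hk hI _).trans ?_)
    have h2 : permCo0 σ • e8 none = e8 ((σ : Equiv.Perm GolayPt) none) := by
      apply Subtype.ext
      funext i
      rw [permCo0_smul]
      show ((e8 none : leechLattice) : GolayPt → ℤ) ((σ : Equiv.Perm GolayPt).symm i) = _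
      rw [e8_coe, e8_coe, Pi.single_apply, Pi.single_apply]
      by_cases h : i = (σ : Equiv.Perm GolayPt) none
      · rw [if_pos h, if_pos (by rw [h, Equiv.symm_apply_apply])]
      · rw [if_neg h, if_neg (fun e => h (by rw [← e, Equiv.apply_symm_apply]))]
    rw [h2]
    exact (phi_eqz_of L (e8_congr _ _)).trans (zq_y H).symm
  rcases h1 with h1 | h1
  · exact ⟨k, hk, hI, h1⟩
  · refine ⟨phi M θ r₀ * k, M.K.mul_mem (phi_mem _) hk, ?_, ?_⟩
    · have := (ind_phi (M := M) (θ := θ) r₀).mul hI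
      rwa [one_mul] at this
    · have h2 : phi M θ r₀ * M.ι y * (phi M θ r₀)⁻¹ = M.z * M.ι y := by
        rcases ι_comm_or (M := M) (θ r₀) y with h | h
        · exfalso
          have h3 : θ r₀ * y = y * θ r₀ := by
            apply ι_inj L
            rw [map_mul, map_mul]
            exact mul_inv_eq_iff_eq_mul.1 h
          have h4 : θ r₀ * θ (e8 none) = θ (e8 none) * θ r₀ := by
            rcases H.y_eq with e | e
            · rw [← e]; exact h3
            · have e' : θ (e8 none) = M.zc * y := by rw [e, M.zc_zc]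
              rw [e', ← mul_assoc, ← M.zc_comm, mul_assoc, h3, mul_assoc]
          have h5 := (L.comm r₀ (e8 none)).2 h4
          have h6 : dot r₀ (e8 none) = -24 := by
            show dotInt _ _ = _
            unfold dotInt
            rw [e8_coe, Finset.sum_eq_single none]
            · rw [Pi.single_eq_same, r₀_coe, if_pos rfl]; norm_num
            · intro b _ hb
              rw [Pi.single_eq_of_ne hb, mul_zero]
            · intro h; exact absurd (Finset.mem_univ _) h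
          rw [h6] at h5
          norm_num at h5
        · exact h
      have hz := z_comm L (phi_mem (M := M) (θ := θ) r₀)
      calc phi M θ r₀ * k * M.ι y * (phi M θ r₀ * k)⁻¹
          = phi M θ r₀ * (k * M.ι y * k⁻¹) * (phi M θ r₀)⁻¹ := by group
        _ = (phi M θ r₀ * M.z) * M.ι y * (phi M θ r₀)⁻¹ := by rw [h1]; group
        _ = M.z * (phi M θ r₀ * M.ι y * (phi M θ r₀)⁻¹) := by rw [hz]; group
        _ = M.ι y := by rw [h2, ← mul_assoc, M.z_mul, one_mul]

include L H in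
/-- **(E7)** The elements of `ι(P) ∩ Y`. -/
theorem exists_dvd {p : P} (hp : InY M τ (M.ι p)) :
    ∃ w : leechLattice, (∀ i, (4 : ℤ) ∣ (w : GolayPt → ℤ) i) ∧ Zq M (M.ι p) (phi M θ w) := by
  obtain ⟨x, hx⟩ := L.surj p
  have hx : Eqz M p (θ x) := hx
  have hcomm : ∀ v : leechLattice, M.ι p * phi M θ v = phi M θ v * M.ι p → (16 : ℤ) ∣ dot x v := by
    intro v hv
    rw [L.comm]
    have h1 : p * θ v = θ v * p := by
      apply ι_inj L
      rw [map_mul, map_mul]; exact hv
    rcases hx with e | e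
    · rw [← e]; exact h1
    · have e' : θ x = M.zc * p := by rw [e, M.zc_zc]
      rw [e', mul_assoc, h1, ← mul_assoc, M.zc_comm, mul_assoc]
  obtain ⟨w, hw⟩ := exists_dvd_of_dot x (by
    apply hcomm
    have h1 := y_comm H hp
    rcases zq_y (M := M) H with h | h
    · rw [← h]; exact h1
    · have h' : phi M θ (e8 none) = M.z * M.ι y := by
        rw [h, ← mul_assoc, M.z_mul, one_mul]
      have hz := z_comm L (M.ι_mem p)
      rw [h', ← mul_assoc, hz, mul_assoc, h1, ← mul_assoc]) (by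
    intro v hv
    apply hcomm
    have hvY := phi_inY L H hv
    have h1 : M.ι p * phi M θ v * (M.ι p)⁻¹ = phi M θ v :=
      eq_of_both L H (ι_comm_or p (θ v)) (comm_or_Y H hp hvY)
    exact mul_inv_eq_iff_eq_mul.1 h1)
  exact ⟨x + 2 • w, hw, (Zq.of_eqz hx).trans (phi_two L _ _).symm⟩

end

end Cfsg.Agent.MonsterU.InvTwo
end

-- part: MonsterU/InvTwoOct
section
/-!
The involutions of `K` over the sign changes on octads are conjugate in `K` to elements of `Y = τ ι(P) τ⁻¹`.
-/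

set_option autoImplicit false

namespace Cfsg.Agent.MonsterU.InvTwo

open Cfsg Cfsg.Agent.LeechMat.Core Cfsg.Agent.MonsterX.KSide Cfsg.Agent.MonsterX.KLift
open Cfsg.Agent.MonsterX.FrameKS
open Cfsg.Agent.SporadicStructure.Co0Base (e8 e8_coe)
open Cfsg.Agent.SporadicA.Co0Mono (signCo0 permCo0 wordPerm permCo0_smul signCo0_smul perm_mul_sign_mul_inv)
open Cfsg.Agent.MonsterU.InvTwoLat
open scoped Pointwise

variable {G V P W : Type*} [Group G] [AddCommGroup V] [Module ℚ V]
  [DistribMulAction G V] [SMulCommClass G ℚ V] [Group P] [AddCommGroup W] [Module ℚ W]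
  {M : KS G V P W} {θ : leechLattice → P} {Γ : Subgroup G} {τ : G} {y : P}

/-- `u` is conjugate in `K` to an element of `Y`. -/
def GY (M : KS G V P W) (τ u : G) : Prop := ∃ k ∈ M.K, InY M τ (k * u * k⁻¹)

theorem GY.conj {u k : G} (hk : k ∈ M.K) (h : GY M τ (k * u * k⁻¹)) : GY M τ u := by
  obtain ⟨l, hl, h⟩ := h
  exact ⟨l * k, M.K.mul_mem hl hk, by
    rwa [show l * k * u * (l * k)⁻¹ = l * (k * u * k⁻¹) * l⁻¹ by group]⟩

theorem GY.conj_inv {u k : G} (hk : k ∈ M.K) (h : GY M τ u) : GY M τ (k * u * k⁻¹) := by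
  apply GY.conj (M.K.inv_mem hk)
  rwa [show k⁻¹ * (k * u * k⁻¹) * k⁻¹⁻¹ = u by group]

theorem InY.of_zq (H : TauHyp M θ Γ τ y) {a b : G} (h : Zq M a b) (hb : InY M τ b) : InY M τ a := by
  rcases h with rfl | rfl
  · exact hb
  · exact (z_inY H).mul hb

theorem GY.of_zq (L : Lift M θ) (H : TauHyp M θ Γ τ y) {a b : G} (h : Zq M a b) (hb : GY M τ b) :
    GY M τ a := by
  obtain ⟨k, hk, hY⟩ := hb
  exact ⟨k, hk, hY.of_zq H (h.conj L hk)⟩

/-- Involutions over the sign change on `c` which differ from an element of `Y` by a vector congruent to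
`2 χ_d`. -/
structure Form (M : KS G V P W) (θ : leechLattice → P) (τ : G) (c : golayCode) (d : Finset GolayPt)
    (u : G) : Prop where
  mem : u ∈ M.K
  sq : u * u = 1
  ex : ∃ s ∈ M.K, InY M τ s ∧ s * s = 1 ∧ Ind M s (signCo0 c) ∧
    ∃ x : leechLattice, Cl (x : GolayPt → ℤ) d ∧ Zq M u (phi M θ x * s)

variable (L : Lift M θ) (H : TauHyp M θ Γ τ y)

include L H in
/-- Two elements of `Y ∩ K` over the same sign change. -/
theorem exists_w {s s' : G} {ε : Co0} (hs : s ∈ M.K) (hs' : s' ∈ M.K) (hY : InY M τ s)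
    (hY' : InY M τ s') (hI : Ind M s ε) (hI' : Ind M s' ε) :
    ∃ w : leechLattice, (∀ i, (4 : ℤ) ∣ (w : GolayPt → ℤ) i) ∧ Zq M s' (phi M θ w * s) := by
  obtain ⟨q, hq⟩ := M.mem_ι_of_trivial (s' * s⁻¹) (M.K.mul_mem hs' (M.K.inv_mem hs)) (fun v => by
    have := (hI'.mul hI.inv) v
    rwa [mul_inv_cancel, one_smul] at this)
  have hqY : InY M τ (M.ι q) := by rw [← hq]; exact hY'.mul hY.inv
  obtain ⟨w, hw, h⟩ := exists_dvd L H hqY
  refine ⟨w, hw, ?_⟩
  rw [← hq] at h
  have h1 := h.mul L (phi_mem w) (Zq.refl (M := M) s)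
  rwa [inv_mul_cancel_right] at h1

include L H in
/-- Conjugation by an element of `Y ∩ K`. -/
theorem conj_Y_zq {s g : G} {c : golayCode} (_hs : s ∈ M.K) (hYs : InY M τ s) (hYg : InY M τ g)
    {o p : GolayPt} (ho : o ∈ (support₂ (c : GolayPt → ZMod 2) :))
    (hp : p ∉ support₂ (c : GolayPt → ZMod 2)) :
    ∃ r w : leechLattice, Zq M (g * s * g⁻¹) (phi M θ ((r - signCo0 c • r) + 2 • w) * s) := by
  rcases comm_or_Y H hYg hYs with h | h
  · refine ⟨0, 0, ?_⟩
    rw [h, Cfsg.Agent.SporadicStructure.Co0Base.co0_smul_zero, sub_zero, smul_zero, add_zero]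
    have h0 : Zq M (phi M θ 0) 1 := by
      have h1 := phi_add L (0 : leechLattice) 0
      rw [add_zero] at h1
      exact h1.trans (phi_sq L 0)
    have h1 := h0.mul L M.K.one_mem (Zq.refl (M := M) s)
    rw [one_mul] at h1
    exact h1.symm
  · obtain ⟨r, w, hrw⟩ := exists_of_eight (isEps_sign c) ho hp (e8 none)
      (fun i => if i = none then 1 else 0) (fun i => by
        rw [e8_coe, Pi.single_apply]
        split_ifs <;> ring)
    refine ⟨r, w, ?_⟩
    rw [h, ← hrw]
    exact (zq_y H).mul L (phi_mem _) (Zq.refl _)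

include L H in
/-- **(T5b)** -/
theorem form_conj {c : golayCode} {d : Finset GolayPt} (hO : (support₂ (c : GolayPt → ZMod 2) :) ∈ octads)
    (hd : d ∈ octads) (hdis : Disjoint (support₂ (c : GolayPt → ZMod 2)) d) {u u' : G}
    (hu : Form M θ τ c d u) (hu' : Form M θ τ c d u') : ∃ k ∈ M.K, Zq M (k * u * k⁻¹) u' := by
  obtain ⟨huK, huu, s, hs, hsY, hss, hI, x, hx, hux⟩ := hu
  obtain ⟨hu'K, hu'u', s', hs', hs'Y, hs's', hI', x', hx', hux'⟩ := hu'
  obtain ⟨w, hw, hws⟩ := exists_w L H hs hs' hsY hs'Y hI hI'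
  set t : leechLattice := x' + w with ht
  have htd : Cl (t : GolayPt → ℤ) d := hx'.of_congr fun i => by
    rw [ht, coe_add, add_sub_cancel_left]; exact hw i
  have hut : Zq M u' (phi M θ t * s) := by
    refine hux'.trans (((Zq.refl (M := M) (phi M θ x')).mul L (phi_mem _) hws).trans ?_)
    rw [← mul_assoc]
    exact (phi_add L _ _).symm.mul L (phi_mem _) (Zq.refl _)
  set ε := signCo0 c with hε
  have hεO := isEps_sign c
  obtain ⟨t₁, ht₁⟩ := congr_of_sq L hs hI hss huu hux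
  obtain ⟨t₂, ht₂⟩ := congr_of_sq L hs hI hss hu'u' hut
  have hcong : (t - x) - ε • (t - x) = 2 • (t₂ - t₁) := by
    rw [smul_sub, ← ht₁, ← ht₂, Cfsg.Agent.SporadicStructure.Co0Base.co0_smul_sub]
    abel
  -- the inner product
  set v := t - x with hv
  have hv4 : ∀ i, (4 : ℤ) ∣ (v : GolayPt → ℤ) i := by
    intro i
    obtain ⟨a, ha⟩ := hx i
    obtain ⟨b, hb⟩ := htd i
    exact ⟨b - a, by rw [hv, coe_sub]; linarith only [ha, hb]⟩
  have hbY : InY M τ (phi M θ v) := phi_inY L H hv4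
  have hbb : phi M θ v * phi M θ v = 1 := sq_inter L H hbY
  have hsb : s * phi M θ v * s⁻¹ = phi M θ v := by
    refine eq_of_both L H ((phi_conj L hs hI v).trans (phi_eqz_of L ⟨-(t₂ - t₁), ?_⟩))
      (comm_or_Y H hsY hbY)
    rw [smul_neg, ← hcong]; abel
  have hdot : (16 : ℤ) ∣ dot x v := by
    rw [L.comm]
    apply ι_inj L
    rw [map_mul, map_mul]
    -- `u' = φ v u` up to `z`
    have h1 : Zq M u' (phi M θ v * u) := by
      refine hut.trans ?_
      have h2 : Zq M (phi M θ t * s) (phi M θ v * phi M θ x * s) := by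
        have e : t = v + x := by rw [hv]; abel
        rw [e]
        exact (phi_add L _ _).mul L (M.K.mul_mem (phi_mem _) (phi_mem _)) (Zq.refl _)
      refine h2.trans ?_
      rw [mul_assoc]
      exact (Zq.refl _).mul L (phi_mem _) hux.symm
    have h2 : phi M θ v * u * (phi M θ v * u) = 1 := by
      have hz := z_comm L (M.K.mul_mem (phi_mem (M := M) (θ := θ) v) huK)
      rcases h1 with h1 | h1
      · rw [← h1]; exact hu'u'
      · have h3 : M.z * (phi M θ v * u) * (M.z * (phi M θ v * u)) = 1 := by rw [← h1]; exact hu'u'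
        calc phi M θ v * u * (phi M θ v * u)
            = (M.z * M.z) * (phi M θ v * u * (phi M θ v * u)) := by rw [M.z_mul, one_mul]
          _ = M.z * (M.z * (phi M θ v * u)) * (phi M θ v * u) := by group
          _ = M.z * ((phi M θ v * u) * M.z) * (phi M θ v * u) := by rw [hz]
          _ = M.z * (phi M θ v * u) * (M.z * (phi M θ v * u)) := by group
          _ = 1 := h3
    have h3 : u * phi M θ v * u⁻¹ = phi M θ v := by
      have hui : u⁻¹ = u := inv_eq_of_mul_eq_one_left huu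
      have hvi : (phi M θ v)⁻¹ = phi M θ v := inv_eq_of_mul_eq_one_left hbb
      rw [hui]
      have h4 : phi M θ v * (u * phi M θ v * u) = 1 := by rw [← h2]; group
      exact (inv_eq_of_mul_eq_one_right h4).symm.trans hvi
    -- compute with `u = φ x s` up to `z`
    have h4 : phi M θ x * phi M θ v * (phi M θ x)⁻¹ = u * phi M θ v * u⁻¹ := by
      have h5 : (phi M θ x * s) * phi M θ v * (phi M θ x * s)⁻¹ =
          phi M θ x * phi M θ v * (phi M θ x)⁻¹ := by
        calc (phi M θ x * s) * phi M θ v * (phi M θ x * s)⁻¹ =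
            phi M θ x * (s * phi M θ v * s⁻¹) * (phi M θ x)⁻¹ := by group
          _ = _ := by rw [hsb]
      rw [← h5]
      rcases hux with e | e
      · rw [e]
      · rw [e]
        have hz := z_comm L (phi_mem (M := M) (θ := θ) v)
        have hz' : M.z * (phi M θ x * s) * phi M θ v * (M.z * (phi M θ x * s))⁻¹ =
            M.z * ((phi M θ x * s) * phi M θ v * (phi M θ x * s)⁻¹) * M.z⁻¹ := by group
        have hm : (phi M θ x * s) * phi M θ v * (phi M θ x * s)⁻¹ ∈ M.K :=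
          M.K.mul_mem (M.K.mul_mem (M.K.mul_mem (phi_mem _) hs) (phi_mem _))
            (M.K.inv_mem (M.K.mul_mem (phi_mem _) hs))
        rw [hz', ← z_comm L hm, mul_inv_cancel_right]
    rw [h3] at h4
    exact mul_inv_eq_iff_eq_mul.1 h4
  obtain ⟨B, hB, hBall⟩ := exists_conj_form hO hd hdis hεO x t hx htd ⟨_, hcong⟩ hdot
  obtain ⟨cB', hcB', hcBs⟩ := hB
  set cB : golayCode := ⟨cB', hcB'⟩ with hcB
  obtain ⟨r, w', hrw⟩ := hBall (signCo0 cB) (by
    have := isEps_sign cB
    rwa [show support₂ ((cB : golayCode) : GolayPt → ZMod 2) = B from hcBs] at this)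
  obtain ⟨q, hgK, hgI⟩ := H.sgn cB
  set g := τ * M.ι q * τ⁻¹ with hg
  have hgY : InY M τ g := ⟨q, hg⟩
  obtain ⟨o, ho⟩ : (support₂ (c : GolayPt → ZMod 2)).Nonempty := by
    rw [← Finset.card_pos, hO.2]; norm_num
  obtain ⟨p, hp⟩ : d.Nonempty := by rw [← Finset.card_pos, hd.2]; norm_num
  obtain ⟨r', w'', hgs⟩ := conj_Y_zq L H hs hsY hgY ho (Finset.disjoint_right.1 hdis hp)
  -- `g u g⁻¹`
  have h1 : Zq M (g * u * g⁻¹) (phi M θ (signCo0 cB • x + ((r' - ε • r') + 2 • w'')) * s) := by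
    refine (hux.conj L hgK).trans ?_
    rw [show g * (phi M θ x * s) * g⁻¹ = (g * phi M θ x * g⁻¹) * (g * s * g⁻¹) by group]
    refine ((phi_conj L hgK hgI x).mul L (phi_mem _) hgs).trans ?_
    rw [← mul_assoc]
    exact (phi_add L _ _).symm.mul L (phi_mem _) (Zq.refl _)
  refine ⟨phi M θ (r - r') * g, M.K.mul_mem (phi_mem _) hgK, ?_⟩
  rw [show phi M θ (r - r') * g * u * (phi M θ (r - r') * g)⁻¹ =
    phi M θ (r - r') * (g * u * g⁻¹) * (phi M θ (r - r'))⁻¹ by group]
  refine (h1.conj L (phi_mem _)).trans ((phi_conj_mul L hs hI _ _).trans ?_)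
  refine (Zq.mul L (phi_mem _) (phi_eqz_of L ⟨w'' - w', ?_⟩) (Zq.refl s)).trans hut.symm
  rw [hrw, smul_sub, Cfsg.Agent.SporadicStructure.Co0Base.co0_smul_sub]
  abel

theorem support_wordPerm (σ : M24) (c : golayCode) :
    support₂ ((wordPerm σ c : golayCode) : GolayPt → ZMod 2) =
      (σ : Equiv.Perm GolayPt) • support₂ (c : GolayPt → ZMod 2) := by
  ext i
  rw [Cfsg.Agent.Leech.Code.mem_support₂, ← Finset.inv_smul_mem_iff,
    Cfsg.Agent.Leech.Code.mem_support₂]
  rfl

include L H in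
/-- **(T5a)** -/
theorem form_perm {c : golayCode} {d : Finset GolayPt} {u : G} (hu : Form M θ τ c d u) (σ : M24) :
    ∃ k ∈ M.K, Form M θ τ (wordPerm σ c) ((σ : Equiv.Perm GolayPt) • d) (k * u * k⁻¹) := by
  obtain ⟨huK, huu, s, hs, hsY, hss, hI, x, hx, hux⟩ := hu
  obtain ⟨k, hk, hkI, hky⟩ := exists_perm L H σ
  refine ⟨k, hk, M.K.mul_mem (M.K.mul_mem hk huK) (M.K.inv_mem hk), ?_, k * s * k⁻¹,
    M.K.mul_mem (M.K.mul_mem hk hs) (M.K.inv_mem hk), conj_inY L H hk hky hsY, ?_, ?_,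
    permCo0 σ • x, ?_, ?_⟩
  · rw [show k * u * k⁻¹ * (k * u * k⁻¹) = k * (u * u) * k⁻¹ by group, huu, mul_one, mul_inv_cancel]
  · rw [show k * s * k⁻¹ * (k * s * k⁻¹) = k * (s * s) * k⁻¹ by group, hss, mul_one, mul_inv_cancel]
  · rw [← perm_mul_sign_mul_inv]
    exact (hkI.mul hI).mul hkI.inv
  · intro i
    rw [permCo0_smul]
    have h1 := hx ((σ : Equiv.Perm GolayPt).symm i)
    have h2 : Cfsg.Agent.Leech.Basic.chi ((σ : Equiv.Perm GolayPt) • d) i = Cfsg.Agent.Leech.Basic.chi d ((σ : Equiv.Perm GolayPt).symm i) := by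
      unfold Cfsg.Agent.Leech.Basic.chi
      have : i ∈ (σ : Equiv.Perm GolayPt) • d ↔ (σ : Equiv.Perm GolayPt).symm i ∈ d := by
        rw [← Finset.inv_smul_mem_iff]; rfl
      simp only [this]
    rw [h2]
    exact h1
  · refine (hux.conj L hk).trans ?_
    rw [show k * (phi M θ x * s) * k⁻¹ = (k * phi M θ x * k⁻¹) * (k * s * k⁻¹) by group]
    exact (phi_conj L hk hkI x).mul L (phi_mem _) (Zq.refl _)

include L H in
/-- Reduction by Lemma X. -/
theorem form_or {c : golayCode} (hO : (support₂ (c : GolayPt → ZMod 2) :) ∈ octads) {s u : G}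
    (hs : s ∈ M.K) (hsY : InY M τ s) (hss : s * s = 1) (hI : Ind M s (signCo0 c)) (huK : u ∈ M.K)
    (huu : u * u = 1) {x : leechLattice} (hux : Zq M u (phi M θ x * s)) :
    ∃ k ∈ M.K, ∃ r w : leechLattice, k = phi M θ r ∧
      ((∀ i, (4 : ℤ) ∣ ((x + (r - signCo0 c • r) + 2 • w : leechLattice) : GolayPt → ℤ) i) ∧
        InY M τ (k * u * k⁻¹) ∨
      ∃ d ∈ octads, Disjoint (support₂ (c : GolayPt → ZMod 2)) d ∧ Form M θ τ c d (k * u * k⁻¹)) := by
  obtain ⟨r, w, d, hd, hdis, hcl⟩ := exists_form_mod hO (isEps_sign c) x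
    (congr_of_sq L hs hI hss huu hux)
  refine ⟨phi M θ r, phi_mem r, r, w, rfl, ?_⟩
  have h1 : Zq M (phi M θ r * u * (phi M θ r)⁻¹) (phi M θ (x + (r - signCo0 c • r) + 2 • w) * s) :=
    (hux.conj L (phi_mem r)).trans ((phi_conj_mul L hs hI r x).trans
      ((phi_two L _ w).symm.mul L (phi_mem _) (Zq.refl s)))
  rcases hd with rfl | hd
  · left
    exact ⟨hcl.dvd, InY.of_zq H h1 ((phi_inY L H hcl.dvd).mul hsY)⟩
  · right
    refine ⟨d, hd, hdis.symm, M.K.mul_mem (M.K.mul_mem (phi_mem r) huK) (M.K.inv_mem (phi_mem r)), ?_,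
      s, hs, hsY, hss, hI, _, hcl, h1⟩
    rw [show phi M θ r * u * (phi M θ r)⁻¹ * (phi M θ r * u * (phi M θ r)⁻¹) =
      phi M θ r * (u * u) * (phi M θ r)⁻¹ by group, huu, mul_one, mul_inv_cancel]

theorem exists_word {O : Finset GolayPt} (hO : O ∈ octads) :
    ∃ c : golayCode, support₂ (c : GolayPt → ZMod 2) = O := by
  obtain ⟨⟨w, hw, h⟩, -⟩ := hO
  exact ⟨⟨w, hw⟩, h⟩

open Cfsg.Agent.SporadicA.Xi in
include L H in
/-- **(T5c)** Some involution of the second form is conjugate to an element of `Y`. -/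
theorem exists_good_form : ∃ (c : golayCode) (d : Finset GolayPt) (u : G),
    (support₂ (c : GolayPt → ZMod 2) :) ∈ octads ∧ d ∈ octads ∧
    Disjoint (support₂ (c : GolayPt → ZMod 2)) d ∧ Form M θ τ c d u ∧ GY M τ u := by
  classical
  obtain ⟨S, hS⟩ : ∃ S : Finset GolayPt, S.card = 4 := by
    obtain ⟨S, -, hS⟩ := Finset.exists_subset_card_eq (s := (Finset.univ : Finset GolayPt)) (n := 4)
      (by rw [Finset.card_univ, Cfsg.Agent.Leech.Code.card_golayPt]; norm_num)
    exact ⟨S, hS⟩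
  obtain ⟨T, hT, -⟩ := Cfsg.Agent.SporadicA.XiSextet.exists_isSextet Cfsg.Agent.Leech.Code.steiner S hS
  have hdisj : ∀ k l, k ≠ l → Disjoint (fib T k) (fib T l) := by
    intro k l hkl
    rw [Finset.disjoint_left]
    intro i hi hi'
    exact hkl ((mem_fib.1 hi).symm.trans (mem_fib.1 hi'))
  have hoct : ∀ k l, k ≠ l → fib T k ∪ fib T l ∈ octads := fun k l hkl =>
    ⟨hT.code k l hkl, by rw [Finset.card_union_of_disjoint (hdisj k l hkl), hT.card, hT.card]⟩
  obtain ⟨c, hc⟩ := exists_word (hoct 0 1 (by decide))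
  have hO : (support₂ (c : GolayPt → ZMod 2) :) ∈ octads := by rw [hc]; exact hoct 0 1 (by decide)
  have hd2 : Disjoint (support₂ (c : GolayPt → ZMod 2)) (fib T 2 ∪ fib T 3) := by
    rw [hc, Finset.disjoint_union_left, Finset.disjoint_union_right, Finset.disjoint_union_right]
    exact ⟨⟨hdisj _ _ (by decide), hdisj _ _ (by decide)⟩,
      ⟨hdisj _ _ (by decide), hdisj _ _ (by decide)⟩⟩
  obtain ⟨o, ho⟩ : (fib T 0).Nonempty := by rw [← Finset.card_pos, hT.card]; norm_num
  obtain ⟨i, hi⟩ : (fib T 2).Nonempty := by rw [← Finset.card_pos, hT.card]; norm_num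
  obtain ⟨j, hj⟩ : (fib T 3).Nonempty := by rw [← Finset.card_pos, hT.card]; norm_num
  have hiO : i ∉ support₂ (c : GolayPt → ZMod 2) :=
    Finset.disjoint_right.1 hd2 (Finset.mem_union_left _ hi)
  have hjO : j ∉ support₂ (c : GolayPt → ZMod 2) :=
    Finset.disjoint_right.1 hd2 (Finset.mem_union_right _ hj)
  obtain ⟨s, hs, hsY, hss, hI⟩ := exists_s L H c (o := o) (p := i)
    (by rw [hc]; exact Finset.mem_union_left _ ho) hiO
  obtain ⟨k, hk, hkI⟩ := M.onto (xiCo0 T hT)
  have hkI : Ind M k (xiCo0 T hT) := hkI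
  have hcomm : xiCo0 T hT * signCo0 c * (xiCo0 T hT)⁻¹ = signCo0 c := by
    rw [xi_comm hT (by have := isEps_sign c; rwa [hc] at this), mul_inv_cancel_right]
  -- `u₀ = k s k⁻¹`
  set u₀ := k * s * k⁻¹ with hu₀
  have hu₀K : u₀ ∈ M.K := M.K.mul_mem (M.K.mul_mem hk hs) (M.K.inv_mem hk)
  have hu₀u₀ : u₀ * u₀ = 1 := by
    rw [hu₀, show k * s * k⁻¹ * (k * s * k⁻¹) = k * (s * s) * k⁻¹ by group, hss, mul_one,
      mul_inv_cancel]
  have hu₀I : Ind M u₀ (signCo0 c) := by
    rw [← hcomm]; exact (hkI.mul hI).mul hkI.inv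
  have hu₀G : GY M τ u₀ := ⟨k⁻¹, M.K.inv_mem hk, by
    rw [hu₀, show k⁻¹ * (k * s * k⁻¹) * k⁻¹⁻¹ = s by group]; exact hsY⟩
  obtain ⟨x₀, hx₀⟩ := exists_phi_mul L hu₀K hs hu₀I hI
  obtain ⟨l, hl, r, w, hlr, h | ⟨d, hd, hdis, hF⟩⟩ := form_or L H hO hs hsY hss hI hu₀K hu₀u₀ hx₀
  · -- use `u₁ = k φ(w₀) s k⁻¹`
    obtain ⟨hdvd, -⟩ := h
    set e := phi M θ (pr i j) with he
    have heY : InY M τ e := phi_inY L H (pr_dvd i j)
    have hee : e * e = 1 := sq_inter L H heY
    have hse : s * e * s⁻¹ = e := by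
      refine eq_of_both L H ((phi_conj L hs hI _).trans (Zq.of_eq ?_)) (comm_or_Y H hsY heY)
      rw [he]
      congr 1
      apply Subtype.ext
      funext m
      rw [isEps_sign c]
      by_cases hm : m ∈ (support₂ (c : GolayPt → ZMod 2) :)
      · have h1 : m ≠ i := fun e => hiO (e ▸ hm)
        have h2 : m ≠ j := fun e => hjO (e ▸ hm)
        rw [if_pos hm, pr_coe, if_neg h1, if_neg h2]; norm_num
      · rw [if_neg hm]
    have hes : e * s * (e * s) = 1 := by
      rw [show e * s * (e * s) = e * (s * e * s⁻¹) * (s * s) by group, hse, hss, hee, mul_one]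
    have heK : e * s ∈ M.K := M.K.mul_mem (phi_mem _) hs
    set u₁ := k * (e * s) * k⁻¹ with hu₁
    have hu₁K : u₁ ∈ M.K := M.K.mul_mem (M.K.mul_mem hk heK) (M.K.inv_mem hk)
    have hu₁u₁ : u₁ * u₁ = 1 := by
      rw [hu₁, show k * (e * s) * k⁻¹ * (k * (e * s) * k⁻¹) = k * (e * s * (e * s)) * k⁻¹ by group,
        hes, mul_one, mul_inv_cancel]
    have hu₁G : GY M τ u₁ := ⟨k⁻¹, M.K.inv_mem hk, by
      rw [hu₁, show k⁻¹ * (k * (e * s) * k⁻¹) * k⁻¹⁻¹ = e * s by group]
      exact heY.mul hsY⟩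
    have hx₁ : Zq M u₁ (phi M θ (xiCo0 T hT • pr i j + x₀) * s) := by
      rw [hu₁, show k * (e * s) * k⁻¹ = (k * e * k⁻¹) * (k * s * k⁻¹) by group]
      refine ((phi_conj L hk hkI _).mul L (phi_mem _) hx₀).trans ?_
      rw [← mul_assoc]
      exact (phi_add L _ _).symm.mul L (phi_mem _) (Zq.refl _)
    refine ⟨c, fib T 2 ∪ fib T 3, l * u₁ * l⁻¹, hO, hoct 2 3 (by decide), hd2, ?_,
      hu₁G.conj_inv hl⟩
    refine ⟨M.K.mul_mem (M.K.mul_mem hl hu₁K) (M.K.inv_mem hl), ?_, s, hs, hsY, hss, hI,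
      xiCo0 T hT • pr i j + (x₀ + (r - signCo0 c • r) + 2 • w), ?_, ?_⟩
    · rw [show l * u₁ * l⁻¹ * (l * u₁ * l⁻¹) = l * (u₁ * u₁) * l⁻¹ by group, hu₁u₁, mul_one,
        mul_inv_cancel]
    · exact (cl_xi_pr hT (mem_fib.1 hi) (mem_fib.1 hj)).of_congr fun m => by
        rw [coe_add, add_sub_cancel_left]; exact hdvd m
    · rw [hlr]
      refine (hx₁.conj L (phi_mem r)).trans ((phi_conj_mul L hs hI r _).trans ?_)
      rw [show xiCo0 T hT • pr i j + (x₀ + (r - signCo0 c • r) + 2 • w) =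
        xiCo0 T hT • pr i j + x₀ + (r - signCo0 c • r) + 2 • w by abel]
      exact (phi_two L _ w).symm.mul L (phi_mem _) (Zq.refl s)
  · exact ⟨c, d, l * u₀ * l⁻¹, hO, hd, hdis, hF, hu₀G.conj_inv hl⟩

include L H in
/-- **Involutions over the sign changes on octads are conjugate in `K` to elements of `Y`.** -/
theorem gy_oct {u : G} {c : golayCode} (hO : (support₂ (c : GolayPt → ZMod 2) :) ∈ octads)
    (hu : u ∈ M.K) (huu : u * u = 1) (hI : Ind M u (signCo0 c)) : GY M τ u := by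
  obtain ⟨o, ho⟩ : ((support₂ (c : GolayPt → ZMod 2)).Nonempty :) := by
    rw [← Finset.card_pos, hO.2]; norm_num
  obtain ⟨p, hp⟩ : ∃ p, p ∉ (support₂ (c : GolayPt → ZMod 2) :) := by
    by_contra hcon
    push Not at hcon
    have h1 := Finset.eq_univ_of_forall hcon
    have h2 := hO.2
    rw [h1, Finset.card_univ, Cfsg.Agent.Leech.Code.card_golayPt] at h2
    omega
  obtain ⟨s, hs, hsY, hss, hsI⟩ := exists_s L H c ho hp
  obtain ⟨x, hx⟩ := exists_phi_mul L hu hs hI hsI
  obtain ⟨k, hk, r, w, -, h | ⟨d, hd, hdis, hF⟩⟩ := form_or L H hO hs hsY hss hsI hu huu hx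
  · exact ⟨k, hk, h.2⟩
  · apply GY.conj hk
    obtain ⟨c₂, d₂, u₂, hO₂, hd₂, hdis₂, hF₂, hG₂⟩ := exists_good_form L H
    have third : ∀ {A B : Finset GolayPt}, Disjoint A B → Disjoint A (A ∪ B)ᶜ ∧ Disjoint B (A ∪ B)ᶜ := by
      intro A B _
      constructor
      · rw [Finset.disjoint_left]; intro i hi hi'
        rw [Finset.mem_compl, Finset.mem_union] at hi'
        exact hi' (Or.inl hi)
      · rw [Finset.disjoint_left]; intro i hi hi'
        rw [Finset.mem_compl, Finset.mem_union] at hi'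
        exact hi' (Or.inr hi)
    obtain ⟨g, hg, h1, h2, -⟩ := Cfsg.Agent.GolayTrio.Trans.exists_ordered hO hd
      (exists_third hO hd hdis) hdis (third hdis).1 (third hdis).2 hO₂ hd₂
      (exists_third hO₂ hd₂ hdis₂) hdis₂ (third hdis₂).1 (third hdis₂).2
    obtain ⟨k', hk', hF'⟩ := form_perm L H hF ⟨g, hg⟩
    have hc : wordPerm ⟨g, hg⟩ c = c₂ := by
      apply Subtype.ext
      have e1 : support₂ ((wordPerm ⟨g, hg⟩ c : golayCode) : GolayPt → ZMod 2) =
          support₂ (c₂ : GolayPt → ZMod 2) := by rw [support_wordPerm]; exact h1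
      rw [← Cfsg.Agent.Leech.Code.ind_support₂ ((wordPerm ⟨g, hg⟩ c : golayCode) : GolayPt → ZMod 2),
        e1, Cfsg.Agent.Leech.Code.ind_support₂]
    rw [hc] at hF'
    have hF' : Form M θ τ c₂ d₂ (k' * (k * u * k⁻¹) * k'⁻¹) := by
      have : ((⟨g, hg⟩ : M24) : Equiv.Perm GolayPt) • d = d₂ := h2
      rwa [this] at hF'
    obtain ⟨k'', hk'', hz⟩ := form_conj L H hO₂ hd₂ hdis₂ hF' hF₂
    exact (GY.of_zq L H hz hG₂).conj hk'' |>.conj hk'

end Cfsg.Agent.MonsterU.InvTwo
end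
end

-- part: MonsterU/TwoDod
section
prune_inst 0x3000000000180000000000000200000000000000c1000000048100012000000012400200000000440030800811000000020800002000820041180080040000000000000001000040c800000000000000000000000000000000000000000000000
set_option linter.all false
open scoped Cfsg.Agent.FastGrp

/-!
# Involutions of the Monster over the sign change on a dodecad
-/

set_option autoImplicit false

namespace Cfsg.Agent.MonsterU.TwoDod

open Cfsg Cfsg.Spor Cfsg.Agent.MonsterX.KSide Cfsg.Agent.MonsterX.KLift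
open Cfsg.Agent.MonsterX.FrameKS
open Cfsg.Agent.MonsterU.Lam2 Cfsg.Agent.MonsterU.TwoCls Cfsg.Agent.MonsterU.InvTwo
open Cfsg.Agent.MonsterU.TwoQ Cfsg.Agent.MonsterU.InvTwoLat
open Cfsg.Agent.SporadicA.Co0Mono Cfsg.Agent.SporadicA.Co1Simple
open Cfsg.Agent.CoOneType.ClosingFacts Cfsg.Agent.SporadicStructure.Co0Base
open Cfsg.Agent.Leech.Basic Cfsg.Agent.Leech.Code

/-! ### The lattice lemma -/

/-- **Lemma X** for dodecads: a vector whose class modulo `2Λ` is fixed is congruent modulo the commutators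
to a vector with all coordinates divisible by 4. -/
theorem exists_form_dod {O : Finset GolayPt} (hOw : O ∈ Words) (hO12 : O.card = 12) {ε : Co0}
    (hε : IsEps ε O) (x : leechLattice) (hx : ∃ t : leechLattice, x - ε • x = 2 • t) :
    ∃ (r w : leechLattice), Cl ((x + (r - ε • r) + 2 • w : leechLattice) : GolayPt → ℤ) ∅ := by
  obtain ⟨t, ht⟩ := hx
  have ht' : ∀ i, (t : GolayPt → ℤ) i = chi O i * (x : GolayPt → ℤ) i := by
    intro i
    have h1 := congrArg (fun v : leechLattice => (v : GolayPt → ℤ) i) ht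
    simp only [hε.sub, coe_two] at h1
    omega
  obtain ⟨i₀, hi₀⟩ : O.Nonempty := by rw [← Finset.card_pos]; omega
  obtain ⟨j₀, hj₀⟩ : ∃ j, j ∉ O := by
    by_contra hcon
    push Not at hcon
    have h1 : O = Finset.univ := Finset.eq_univ_of_forall hcon
    rw [h1, Finset.card_univ, card_golayPt] at hO12
    omega
  have ht0 : IsLeech 0 (t : GolayPt → ℤ) := even_of_zero (j := j₀) (by
    rw [ht', chi_not_mem hj₀, zero_mul])
  have hx0 : IsLeech 0 (x : GolayPt → ℤ) := by
    rcases isLeech_zero_or_one x.2 with h1 | h1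
    · exact h1
    · exfalso
      have h2 := h1.par i₀
      have h3 := ht0.par i₀
      rw [ht', chi_mem hi₀, one_mul] at h3
      unfold Int.ModEq at h2 h3
      omega
  obtain ⟨B, hB, hxB⟩ := exists_cl hx0
  have hBO : B ∩ O ∈ Words := by
    obtain ⟨B', hB', htB'⟩ := exists_cl ht0
    have h1 : Cl (t : GolayPt → ℤ) (B ∩ O) := by
      intro i
      have h2 := hxB i
      rw [ht']
      unfold chi at h2 ⊢
      by_cases h3 : i ∈ O <;> by_cases h4 : i ∈ B <;> simp only [h3, h4, Finset.mem_inter, if_true,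
        if_false, and_true, and_false, and_self] at h2 ⊢ <;> omega
    rwa [cl_unique h1 htB']
  -- no word of weight 8 inside a dodecad
  have hno : ∀ {A D : Finset GolayPt}, A ∈ Words → D ∈ Words → D.card = 12 → A ⊆ D →
      A = ∅ ∨ A = D := by
    intro A D hA hD hD12 hAD
    have h1 : symmDiff A D = D \ A := by
      ext i
      simp only [Finset.mem_symmDiff, Finset.mem_sdiff]
      constructor
      · rintro (⟨h, h'⟩ | h)
        · exact absurd (hAD h) h'
        · exact h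
      · exact fun h => Or.inr h
    have h2 := card_words (symmDiff_mem hA hD)
    rw [h1] at h2
    have h3 : (D \ A).card = D.card - A.card := by
      rw [Finset.card_sdiff, Finset.inter_eq_left.2 hAD]
    have h4 := card_words hA
    have h5 := Finset.card_le_card hAD
    have h6 : A.card = 0 ∨ A.card = 12 := by omega
    rcases h6 with h | h
    · exact Or.inl (Finset.card_eq_zero.1 h)
    · exact Or.inr (Finset.eq_of_subset_of_card_le hAD (by omega))
  -- make `B` disjoint from `O`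
  obtain ⟨r₁, B₁, hB₁, hB₁O, hx₁⟩ : ∃ (r : leechLattice) (B₁ : Finset GolayPt), B₁ ∈ Words ∧
      Disjoint B₁ O ∧ Cl ((x + (r - ε • r) : leechLattice) : GolayPt → ℤ) B₁ := by
    rcases hno hBO hOw hO12 Finset.inter_subset_right with h | h
    · refine ⟨0, B, hB, Finset.disjoint_iff_inter_eq_empty.2 h, ?_⟩
      have : x + (0 - ε • (0 : leechLattice)) = x := by
        rw [Cfsg.Agent.SporadicStructure.Co0Base.co0_smul_zero]; abel
      rw [this]
      exact hxB
    · have hsub : O ⊆ B := by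
        rw [← h]; exact Finset.inter_subset_left
      refine ⟨r₀, symmDiff B O, symmDiff_mem hB hOw, ?_, ?_⟩
      · rw [Finset.disjoint_left]
        intro i hi hiO
        rw [Finset.mem_symmDiff] at hi
        rcases hi with ⟨-, h2⟩ | ⟨-, h2⟩
        · exact h2 hiO
        · exact h2 (hsub hiO)
      · rw [add_coe]
        exact hxB.add (cl_r₀_sub hε)
  have hcompl : (Oᶜ).card = 12 := by rw [Finset.card_compl, card_golayPt]; omega
  have hsub : B₁ ⊆ Oᶜ := by
    intro i hi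
    rw [Finset.mem_compl]
    exact Finset.disjoint_left.1 hB₁O hi
  rcases hno hB₁ (compl_mem hOw) hcompl hsub with h | h
  · refine ⟨r₁, 0, ?_⟩
    rw [_root_.smul_zero, add_zero]
    rwa [h] at hx₁
  · have hB₁' : symmDiff B₁ (symmDiff O Finset.univ) = ∅ := by
      rw [h]
      ext i
      simp only [Finset.mem_symmDiff, Finset.mem_compl, Finset.mem_univ, Finset.notMem_empty,
        iff_false]
      tauto
    refine ⟨r₁ + r₀, r₀, ?_⟩
    have e : x + (r₁ + r₀ - ε • (r₁ + r₀)) + 2 • r₀ =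
        (x + (r₁ - ε • r₁)) + ((r₀ - ε • r₀) + 2 • r₀) := by
      rw [Cfsg.Agent.SporadicStructure.Co0Base.co0_smul_add]; abel
    rw [e, add_coe, ← hB₁']
    refine hx₁.add ?_
    rw [add_coe]
    exact (cl_r₀_sub hε).add cl_two_r₀

theorem cl_e8_ne (i : GolayPt) : cl (e8 i) ≠ 0 := by
  intro e
  obtain ⟨v, hv⟩ := cl_eq_zero.1 e
  have hv1 : ∀ j, 2 * (v : GolayPt → ℤ) j = if j = i then 8 else 0 := by
    intro j
    have h1 := congrArg (fun w : leechLattice => (w : GolayPt → ℤ) j) hv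
    simp only [coe_two] at h1
    rw [← h1, e8_coe, Pi.single_apply]
  have h5 : sqNorm (v : GolayPt → ℤ) = 16 := by
    unfold sqNorm
    rw [Finset.sum_eq_single i]
    · have := hv1 i
      rw [if_pos rfl] at this
      have h6 : (v : GolayPt → ℤ) i = 4 := by omega
      rw [h6]; norm_num
    · intro j _ hj
      have := hv1 j
      rw [if_neg hj] at this
      have h6 : (v : GolayPt → ℤ) j = 0 := by omega
      rw [h6]; norm_num
    · intro h; exact absurd (Finset.mem_univ _) h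
  have hv0 : (v : GolayPt → ℤ) ≠ 0 := by
    intro e0
    have := hv1 i
    rw [e0, if_pos rfl] at this
    norm_num at this
  have h8 := Cfsg.Agent.S0391.result v v.2 hv0
  omega

/-- The class of `4 e_i + 4 e_j` is moved by the sign change on `O` when `O` separates `i` and `j`. -/
theorem pr_moved {O : Finset GolayPt} {ε : Co0} (hε : IsEps ε O) {i j : GolayPt} (hi : i ∈ O)
    (hj : j ∉ O) : ε • cl (pr i j) ≠ cl (pr i j) := by
  intro e
  rw [smul_cl] at e
  apply cl_e8_ne i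
  have hij : i ≠ j := fun h => hj (h ▸ hi)
  have h1 : (pr i j - ε • pr i j : leechLattice) = e8 i := by
    apply Subtype.ext
    funext k
    rw [hε.sub, pr_coe, e8_coe, Pi.single_apply]
    by_cases hki : k = i
    · subst hki
      rw [chi_mem hi]
      simp [hij]
    · by_cases hkj : k = j
      · subst hkj
        rw [chi_not_mem hj]
        simp [hki]
      · simp [hki, hkj]
  rw [← h1, cl_sub, e, add_self]

theorem sqNorm_pr {i j : GolayPt} (hij : i ≠ j) : sqNorm ((pr i j : leechLattice) : GolayPt → ℤ) = 32 := by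
  unfold sqNorm
  have h4 : ∀ k, ((pr i j : leechLattice) : GolayPt → ℤ) k ^ 2 =
      (if k = i then 16 else 0) + (if k = j then 16 else 0) := by
    intro k
    rw [pr_coe]
    by_cases hki : k = i
    · subst hki
      simp [hij]
    · by_cases hkj : k = j
      · subst hkj
        simp [hki]
      · simp [hki, hkj]
  simp only [h4]
  rw [Finset.sum_add_distrib, Finset.sum_ite_eq', Finset.sum_ite_eq']
  simp

/-! ### The group part -/

variable {G V P W : Type*} [Group G] [AddCommGroup V] [Module ℚ V]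
  [DistribMulAction G V] [SMulCommClass G ℚ V] [Group P] [AddCommGroup W] [Module ℚ W]
  {M : KS G V P W} {θ : leechLattice → P} {Γ : Subgroup G} {τ : G} {y : P}

theorem four_dvd_pr (i j k : GolayPt) : (4 : ℤ) ∣ ((pr i j : leechLattice) : GolayPt → ℤ) k :=
  ⟨_, pr_coe i j k⟩

theorem Y_mul (a b : P) : τ * M.ι (a * b) * τ⁻¹ = (τ * M.ι a * τ⁻¹) * (τ * M.ι b * τ⁻¹) := by
  rw [map_mul]; group

/-- There is an involution in `Y ∩ K` over the sign change on a word which separates two points. -/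
theorem exists_inv_Y (L : Lift M θ) (H : TauHyp M θ Γ τ y) {c : golayCode} {O : Finset GolayPt}
    (hε : IsEps (signCo0 c) O) {i j : GolayPt} (hi : i ∈ O) (hj : j ∉ O) :
    ∃ q : P, q * q = 1 ∧ τ * M.ι q * τ⁻¹ ∈ M.K ∧ Ind M (τ * M.ι q * τ⁻¹) (signCo0 c) := by
  obtain ⟨q, hqK, hq⟩ := H.sgn c
  rcases L.sq q with h | h
  · exact ⟨q, h, hqK, hq⟩
  · have hij : i ≠ j := fun e => hj (e ▸ hi)
    obtain ⟨q', hq'⟩ := H.E_mem (pr i j) (four_dvd_pr i j)
    have hθ2 : θ (pr i j) * θ (pr i j) = 1 := by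
      rw [sq_iff_qf L, clP_θ, qf_cl_eq_zero, sqNorm_pr hij]
    have hq'2 : q' * q' = 1 := by
      apply ι_inj L
      have h1 : τ * M.ι (q' * q') * τ⁻¹ = 1 := by
        rw [Y_mul, ← hq', ← map_mul, hθ2, map_one]
      rw [mul_inv_eq_one, mul_eq_left] at h1
      rw [h1, map_one]
    have hs : τ * M.ι (q * q') * τ⁻¹ = (τ * M.ι q * τ⁻¹) * M.ι (θ (pr i j)) := by
      rw [Y_mul, hq']
    refine ⟨q * q', ?_, ?_, ?_⟩
    · by_contra hne
      -- then `q` and `q'` commute
      have hcomm : q * q' = q' * q := by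
        by_contra hnc
        have h2 := sq_mul_ncomm (M := M) hnc
        rw [h, hq'2, mul_one, M.zc_mul] at h2
        exact hne h2
      have h3 : (τ * M.ι q * τ⁻¹) * M.ι (θ (pr i j)) = M.ι (θ (pr i j)) * (τ * M.ι q * τ⁻¹) := by
        rw [hq', ← Y_mul, ← Y_mul, hcomm]
      obtain ⟨α, h4, h5⟩ := aut L hqK hq
      rw [h4] at h3
      have h6 : α (θ (pr i j)) = θ (pr i j) := ι_inj L (mul_right_cancel h3)
      have h7 := h5 (θ (pr i j))
      rw [h6, clP_θ] at h7
      exact pr_moved hε hi hj h7.symm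
    · rw [hs]
      exact M.K.mul_mem hqK (M.ι_mem _)
    · rw [hs]
      have := hq.mul (ind_ι (M := M) (θ (pr i j)))
      rwa [mul_one] at this

/-- **Involutions over the sign change on a dodecad.** -/
theorem two_dod (L : Lift M θ) (H : TauHyp M θ Γ τ y) {c : golayCode}
    (hc : (support₂ (c : GolayPt → ZMod 2)).card = 12) {u : G} (huK : u ∈ M.K) (hu2 : u * u = 1)
    (hu : Ind M u (signCo0 c)) : Con M Γ u := by
  obtain ⟨O, hO⟩ : ∃ O, O = support₂ (c : GolayPt → ZMod 2) := ⟨_, rfl⟩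
  have hε : IsEps (signCo0 c) O := hO ▸ isEps_sign c
  have hOw : O ∈ Words := hO ▸ ⟨c, c.2, rfl⟩
  rw [← hO] at hc
  obtain ⟨i, hi⟩ : O.Nonempty := by rw [← Finset.card_pos]; omega
  obtain ⟨j, hj⟩ : ∃ j, j ∉ O := by
    by_contra hcon
    push Not at hcon
    have h1 : O = Finset.univ := Finset.eq_univ_of_forall hcon
    rw [h1, Finset.card_univ, card_golayPt] at hc
    omega
  obtain ⟨q, hq2, hsK, hs⟩ := exists_inv_Y L H hε hi hj
  obtain ⟨s, hs_def⟩ : ∃ s, s = τ * M.ι q * τ⁻¹ := ⟨_, rfl⟩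
  rw [← hs_def] at hsK hs
  have hs2 : s * s = 1 := by
    rw [hs_def, ← Y_mul, hq2, map_one]; group
  obtain ⟨p, rfl⟩ := Ind_eq_ι huK hsK hu hs
  have hfix := fixed_of_sq L hsK hs (Or.inl hs2) (Or.inl hu2)
  obtain ⟨α, hα1, hα2⟩ := aut L hsK hs
  obtain ⟨x, hx⟩ := cl_surjective (clP L p)
  have hx2 : ∃ t : leechLattice, x - signCo0 c • x = 2 • t := by
    rw [← cl_eq, ← smul_cl, hx, hfix]
  obtain ⟨r, w, hrw⟩ := exists_form_dod hOw hc hε x hx2
  obtain ⟨x', hx'⟩ : ∃ x' : leechLattice, x' = x + (r - signCo0 c • r) + 2 • w := ⟨_, rfl⟩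
  rw [← hx'] at hrw
  have hcl : cl x' = clP L (θ r * p * (α (θ r))⁻¹) := by
    rw [hx', map_add, map_add, cl_two, add_zero, cl_sub, ← smul_cl, clP_mul, clP_mul, clP_inv, hα2,
      clP_θ, hx]
    abel
  have hconj : M.ι (θ r) * (M.ι p * s) * (M.ι (θ r))⁻¹ = M.ι (θ r * p * (α (θ r))⁻¹) * s := by
    have h9 : s * (M.ι (θ r))⁻¹ = (M.ι (α (θ r)))⁻¹ * s := by
      rw [← map_inv, hα1, map_inv, map_inv]
    rw [map_mul, map_mul, map_inv]
    calc M.ι (θ r) * (M.ι p * s) * (M.ι (θ r))⁻¹ = M.ι (θ r) * M.ι p * (s * (M.ι (θ r))⁻¹) := by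
          group
      _ = _ := by rw [h9]; group
  obtain ⟨q₁, hq₁⟩ := H.E_mem x' hrw.dvd
  obtain ⟨q₂, hq₂⟩ := H.z_mem
  have hY : ∃ q₃, M.ι (θ r) * (M.ι p * s) * (M.ι (θ r))⁻¹ = τ * M.ι q₃ * τ⁻¹ := by
    rw [hconj]
    have h1 : Eqz M (θ r * p * (α (θ r))⁻¹) (θ x') := (clP_eq_cl L).1 hcl.symm
    rcases h1 with e | e
    · exact ⟨q₁ * q, by rw [e, Y_mul, ← hq₁, hs_def]⟩
    · refine ⟨q₂ * q₁ * q, ?_⟩
      rw [e, Y_mul, Y_mul, ← hq₁, ← hq₂, hs_def, map_mul]
      rfl
  obtain ⟨q₃, hq₃⟩ := hY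
  have hΓ : τ⁻¹ * M.ι (θ r) ∈ Γ := Γ.mul_mem (Γ.inv_mem H.τ_mem) (H.K_le (M.ι_mem _))
  apply Con.conj hΓ
  have e1 : τ⁻¹ * M.ι (θ r) * (M.ι p * s) * (τ⁻¹ * M.ι (θ r))⁻¹ = M.ι q₃ := by
    calc τ⁻¹ * M.ι (θ r) * (M.ι p * s) * (τ⁻¹ * M.ι (θ r))⁻¹
        = τ⁻¹ * (M.ι (θ r) * (M.ι p * s) * (M.ι (θ r))⁻¹) * τ := by group
      _ = M.ι q₃ := by rw [hq₃]; group
  rw [e1]
  refine two_Q L H q₃ ?_ ?_
  · rw [← e1]
    calc τ⁻¹ * M.ι (θ r) * (M.ι p * s) * (τ⁻¹ * M.ι (θ r))⁻¹ *
        (τ⁻¹ * M.ι (θ r) * (M.ι p * s) * (τ⁻¹ * M.ι (θ r))⁻¹)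
        = τ⁻¹ * M.ι (θ r) * ((M.ι p * s) * (M.ι p * s)) * (τ⁻¹ * M.ι (θ r))⁻¹ := by group
      _ = 1 := by rw [hu2]; group
  · intro e
    rw [e, mul_inv_eq_one, mul_eq_left] at e1
    rw [e1] at hu
    have h2 := Ind_mk_eq hu (Ind.one M)
    have h3 : signCo0 c • cl (pr i j) = (1 : Co0) • cl (pr i j) := smul_eq_of_mk h2 _
    rw [one_smul] at h3
    exact pr_moved hε hi hj h3

end Cfsg.Agent.MonsterU.TwoDod
end
end
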