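import Cfsg.Agent.MonsterU.CoFrame23_mg
import Cfsg.Agent.MonsterU.Chart
set_option linter.all false

-- part: MonsterU/AmalSide
section
/-!
The facts on one group with a large extraspecial subgroup used for the uniqueness of the
amalgam, and the quotient `B / V` of the centraliser of the four group.
-/

set_option autoImplicit false

namespace Cfsg.Agent.MonsterU.AmalSide

open Cfsg.Agent.MonsterU.AmalPin

variable {G : Type*} [Group G]

/-- The centraliser of `z` and `y`. -/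
def cent2 (z y : G) : Subgroup G := Subgroup.centralizer {z} ⊓ Subgroup.centralizer {y}

theorem mem_cent2 {z y b : G} : b ∈ cent2 z y ↔ b * z = z * b ∧ b * y = y * b := by
  rw [cent2, Subgroup.mem_inf, Subgroup.mem_centralizer_singleton_iff,
    Subgroup.mem_centralizer_singleton_iff]

/-- The subgroup generated by `z` and `y`. -/
def four (z y : G) : Subgroup G := Subgroup.closure {z, y}

/-- no subgroup of index two -/
def NoTwo (B : Subgroup G) : Prop :=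
  ∀ S : Subgroup G, S ≤ B → (∀ a ∈ B, ∀ b ∈ B, a ∉ S → b ∉ S → a * b ∈ S) → B ≤ S

/-- The facts on one group. -/
structure Side (Q E : Subgroup G) (z y τ x u q₀ e₁ a₁ : G) : Prop where
  z_sq : z * z = 1
  z_ne : z ≠ 1
  y_sq : y * y = 1
  y_ne : y ≠ 1
  y_ne_z : y ≠ z
  yQ : y ∈ Q
  zQ : z ∈ Q
  Qz : ∀ q ∈ Q, q * z = z * q
  Qn : ∀ c, c * z = z * c → ∀ q ∈ Q, c * q * c⁻¹ ∈ Q
  Qsq : ∀ q ∈ Q, q * q = 1 ∨ q * q = z
  Qcomm : ∀ a ∈ Q, ∀ b ∈ Q, a * b * a⁻¹ * b⁻¹ = 1 ∨ a * b * a⁻¹ * b⁻¹ = z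
  centQ : ∀ c, c * z = z * c → (∀ q ∈ Q, c * q = q * c) → c = 1 ∨ c = z
  -- the element of order three
  τ3 : τ * τ * τ = 1
  τz : τ * z * τ⁻¹ = y
  τy : τ * y * τ⁻¹ = z * y
  -- the involution in `Q`
  q₀Q : q₀ ∈ Q
  q₀_sq : q₀ * q₀ = 1
  q₀y : q₀ * y * q₀⁻¹ = z * y
  q₀τ : q₀ * τ * q₀⁻¹ = τ⁻¹
  q₀x : q₀ * x = x * q₀
  -- the elements of orders 23 and 11
  xB : x ∈ cent2 z y
  uB : u ∈ cent2 z y
  x23 : x ^ 23 = 1
  τx : τ * x = x * τ
  ux : ∃ r ∈ Q, u * x = r * x ^ 2 * u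
  -- the subgroup `E`
  EQ : E ≤ Q
  En : ∀ b ∈ cent2 z y, ∀ e ∈ E, b * e * b⁻¹ ∈ E
  zE : z ∈ E
  yE : y ∈ E
  Ey : ∀ e ∈ E, e * y = y * e
  Eab : ∀ e ∈ E, ∀ f ∈ E, e * f = f * e
  Eτ : ∀ e ∈ E, τ * e * τ⁻¹ ∈ E
  Eself : ∀ q ∈ Q, (∀ e ∈ E, q * e = e * q) → q ∈ E
  Einf : ∀ a ∈ Q, τ⁻¹ * a * τ ∈ Q → a ∈ E
  cent : ∀ b ∈ cent2 z y, (∀ e ∈ E, b * e * b⁻¹ * e⁻¹ ∈ four z y) →
    ∃ r ∈ Q, ∃ s ∈ Q, s * y = y * s ∧ τ * s * τ⁻¹ * z = z * (τ * s * τ⁻¹) ∧ b = r * (τ * s * τ⁻¹)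
  sep0 : ∀ a ∈ Q, a * y = y * a →
    (∀ s ∈ Q, τ * s * τ⁻¹ ∈ cent2 z y → a * (τ * s * τ⁻¹) * a⁻¹ * (τ * s * τ⁻¹)⁻¹ ∈ four z y) →
    a ∈ E
  sep1 : ∀ s ∈ Q, τ * s * τ⁻¹ ∈ cent2 z y →
    (∀ a ∈ Q, a * y = y * a → a * (τ * s * τ⁻¹) * a⁻¹ * (τ * s * τ⁻¹)⁻¹ ∈ four z y) →
    τ * s * τ⁻¹ ∈ E
  e₁E : e₁ ∈ E
  genE : ∀ e ∈ E, e ∈ Subgroup.closure
    ((Set.range fun n : ℕ => x ^ n * e₁ * (x ^ n)⁻¹) ∪ (four z y : Set G))
  a₁Q : a₁ ∈ Q
  a₁y : a₁ * y = y * a₁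
  gen0 : ∀ a ∈ Q, a * y = y * a → a ∈ Subgroup.closure
    ((Set.range fun n : ℕ => x ^ n * a₁ * (x ^ n)⁻¹) ∪ (E : Set G))
  qrE : ∀ e ∈ E, qrProd x e * e⁻¹ ∈ four z y
  qr0 : ∀ a ∈ Q, a * y = y * a → qrProd x a ∈ E
  -- generation by commutators
  perf : NoTwo (cent2 z y)
  comm0 : ∀ a ∈ Q, a * y = y * a → a ∈ Subgroup.closure
    {t | ∃ q ∈ Q, q * y = y * q ∧ ∃ b ∈ cent2 z y, t = q * b * q⁻¹ * b⁻¹}
  commQ : ∀ a ∈ Q, a ∈ Subgroup.closure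
    {t | ∃ q ∈ Q, ∃ c, c * z = z * c ∧ t = q * c * q⁻¹ * c⁻¹}

namespace Side

variable {Q E : Subgroup G} {z y τ x u q₀ e₁ a₁ : G} (h : Side Q E z y τ x u q₀ e₁ a₁)
include h

theorem zy : z * y = y * z := (h.Qz y h.yQ).symm

theorem z_inv : z⁻¹ = z := inv_eq_of_mul_eq_one_left h.z_sq

theorem y_inv : y⁻¹ = y := inv_eq_of_mul_eq_one_left h.y_sq

theorem zy_sq : (z * y) * (z * y) = 1 := by
  have h1 : (z * y) * (z * y) = z * (y * z) * y := by group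
  rw [h1, ← h.zy]
  have h2 : z * (z * y) * y = (z * z) * (y * y) := by group
  rw [h2, h.z_sq, h.y_sq, one_mul]

theorem zy_inv : (z * y)⁻¹ = z * y := inv_eq_of_mul_eq_one_left h.zy_sq

theorem mem_four {v : G} : v ∈ four z y ↔ v = 1 ∨ v = z ∨ v = y ∨ v = z * y := by
  constructor
  · intro hv
    induction hv using Subgroup.closure_induction with
    | mem t ht =>
      rcases ht with rfl | ht
      · exact Or.inr (Or.inl rfl)
      · rw [Set.mem_singleton_iff] at ht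
        exact Or.inr (Or.inr (Or.inl ht))
    | one => exact Or.inl rfl
    | mul a b _ _ ha hb =>
      have e1 : z * (z * y) = y := by rw [← mul_assoc, h.z_sq, one_mul]
      have e2 : z * y * z = y := by rw [h.zy, mul_assoc, h.z_sq, mul_one]
      have e3 : y * (z * y) = z := by rw [h.zy, ← mul_assoc, h.y_sq, one_mul]
      have e4 : z * y * y = z := by rw [mul_assoc, h.y_sq, mul_one]
      rcases ha with rfl | rfl | rfl | rfl <;> rcases hb with rfl | rfl | rfl | rfl <;>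
        simp [h.z_sq, h.y_sq, h.zy_sq, e1, e2, e3, e4, ← h.zy]
    | inv a _ ha =>
      rcases ha with rfl | rfl | rfl | rfl
      · simp
      · simp [h.z_inv]
      · simp [h.y_inv]
      · right; right; right; exact h.zy_inv
  · rintro (rfl | rfl | rfl | rfl)
    · exact Subgroup.one_mem _
    · exact Subgroup.subset_closure (by simp)
    · exact Subgroup.subset_closure (by simp)
    · exact Subgroup.mul_mem _ (Subgroup.subset_closure (by simp)) (Subgroup.subset_closure (by simp))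

theorem z_four : z ∈ four z y := h.mem_four.2 (Or.inr (Or.inl rfl))

theorem y_four : y ∈ four z y := h.mem_four.2 (Or.inr (Or.inr (Or.inl rfl)))

theorem zy_four : z * y ∈ four z y := h.mem_four.2 (Or.inr (Or.inr (Or.inr rfl)))

theorem zyz : z * y * z⁻¹ = y := by rw [h.zy]; group

theorem τzy : τ * (z * y) * τ⁻¹ = z := by
  have : τ * (z * y) * τ⁻¹ = (τ * z * τ⁻¹) * (τ * y * τ⁻¹) := by group
  rw [this, h.τz, h.τy, h.zy, ← mul_assoc, h.y_sq, one_mul]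

theorem four_τ {v : G} (hv : v ∈ four z y) : τ * v * τ⁻¹ ∈ four z y := by
  rcases h.mem_four.1 hv with rfl | rfl | rfl | rfl
  · simp
  · rw [h.τz]; exact h.y_four
  · rw [h.τy]; exact h.zy_four
  · rw [h.τzy]; exact h.z_four

theorem τ_inv : τ⁻¹ = τ * τ := inv_eq_of_mul_eq_one_left h.τ3

theorem four_τ' {v : G} (hv : v ∈ four z y) : τ⁻¹ * v * τ ∈ four z y := by
  have : τ⁻¹ * v * τ = τ * (τ * v * τ⁻¹) * τ⁻¹ := by
    have h1 : τ = τ⁻¹ * τ⁻¹ := by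
      have : τ⁻¹ * τ⁻¹ = (τ * τ)⁻¹ := by group
      rw [this, ← h.τ_inv, inv_inv]
    calc τ⁻¹ * v * τ = (τ * τ) * v * (τ⁻¹ * τ⁻¹) := by rw [← h.τ_inv, ← h1]
      _ = _ := by group
  rw [this]
  exact h.four_τ (h.four_τ hv)

theorem mem_B_iff_four {b : G} : b ∈ cent2 z y ↔ ∀ v ∈ four z y, b * v = v * b := by
  rw [mem_cent2]
  constructor
  · rintro ⟨h1, h2⟩ v hv
    rcases h.mem_four.1 hv with rfl | rfl | rfl | rfl
    · simp
    · exact h1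
    · exact h2
    · rw [← mul_assoc, h1, mul_assoc, h2, mul_assoc]
  · intro hb
    exact ⟨hb z h.z_four, hb y h.y_four⟩

theorem B_τ {b : G} (hb : b ∈ cent2 z y) : τ * b * τ⁻¹ ∈ cent2 z y := by
  rw [h.mem_B_iff_four] at hb ⊢
  intro v hv
  have h1 := hb _ (h.four_τ' hv)
  have h2 : τ * b * τ⁻¹ * v = τ * (b * (τ⁻¹ * v * τ)) * τ⁻¹ := by group
  have h3 : v * (τ * b * τ⁻¹) = τ * ((τ⁻¹ * v * τ) * b) * τ⁻¹ := by group
  rw [h2, h3, h1]

theorem B_τ' {b : G} (hb : b ∈ cent2 z y) : τ⁻¹ * b * τ ∈ cent2 z y := by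
  rw [h.mem_B_iff_four] at hb ⊢
  intro v hv
  have h1 := hb _ (h.four_τ hv)
  have h2 : τ⁻¹ * b * τ * v = τ⁻¹ * (b * (τ * v * τ⁻¹)) * τ := by group
  have h3 : v * (τ⁻¹ * b * τ) = τ⁻¹ * ((τ * v * τ⁻¹) * b) * τ := by group
  rw [h2, h3, h1]

theorem Eτ' : ∀ e ∈ E, τ⁻¹ * e * τ ∈ E := by
  intro e he
  have h1 : τ⁻¹ * e * τ = τ * (τ * e * τ⁻¹) * τ⁻¹ := by
    have h1 : τ = τ⁻¹ * τ⁻¹ := by
      have : τ⁻¹ * τ⁻¹ = (τ * τ)⁻¹ := by group
      rw [this, ← h.τ_inv, inv_inv]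
    calc τ⁻¹ * e * τ = (τ * τ) * e * (τ⁻¹ * τ⁻¹) := by rw [← h.τ_inv, ← h1]
      _ = _ := by group
  rw [h1]
  exact h.Eτ _ (h.Eτ _ he)

theorem EB : E ≤ cent2 z y := fun e he => mem_cent2.2 ⟨h.Qz e (h.EQ he), h.Ey e he⟩

theorem fourE : four z y ≤ E := by
  rw [four, Subgroup.closure_le]
  rintro t (rfl | ht)
  · exact h.zE
  · rw [Set.mem_singleton_iff] at ht; rw [ht]; exact h.yE

theorem fourB : four z y ≤ cent2 z y := h.fourE.trans h.EB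

/-- `Q ∩ B` -/
theorem mem_K0 {a : G} : a ∈ Q ⊓ cent2 z y ↔ a ∈ Q ∧ a * y = y * a := by
  rw [Subgroup.mem_inf, mem_cent2]
  exact ⟨fun ⟨h1, h2, h3⟩ => ⟨h1, h3⟩, fun ⟨h1, h2⟩ => ⟨h1, h.Qz a h1, h2⟩⟩

omit h in
/-- The three conjugates of `Q ∩ B`. -/
def KK (Q : Subgroup G) (z y τ : G) : ℕ → Subgroup G
  | 0 => Q ⊓ cent2 z y
  | n + 1 => (KK Q z y τ n).map (MulAut.conj τ).toMonoidHom

omit h in
theorem mem_KK_succ {n : ℕ} {a : G} : a ∈ KK Q z y τ (n + 1) ↔ τ⁻¹ * a * τ ∈ KK Q z y τ n := by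
  rw [KK, Subgroup.mem_map]
  constructor
  · rintro ⟨b, hb, rfl⟩
    have : τ⁻¹ * ((MulAut.conj τ).toMonoidHom b) * τ = b := by
      show τ⁻¹ * (τ * b * τ⁻¹) * τ = b
      group
    rw [this]; exact hb
  · intro hb
    refine ⟨_, hb, ?_⟩
    show τ * (τ⁻¹ * a * τ) * τ⁻¹ = a
    group

omit h in
theorem KK_τ {n : ℕ} {a : G} (ha : a ∈ KK Q z y τ n) : τ * a * τ⁻¹ ∈ KK Q z y τ (n + 1) := by
  rw [mem_KK_succ]
  have : τ⁻¹ * (τ * a * τ⁻¹) * τ = a := by group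
  rwa [this]

theorem KK_three {a : G} (ha : a ∈ KK Q z y τ 3) : a ∈ KK Q z y τ 0 := by
  rw [mem_KK_succ, mem_KK_succ, mem_KK_succ] at ha
  have : τ⁻¹ * (τ⁻¹ * (τ⁻¹ * a * τ) * τ) * τ = a := by
    have h1 : τ⁻¹ * (τ⁻¹ * (τ⁻¹ * a * τ) * τ) * τ = (τ * τ * τ)⁻¹ * a * (τ * τ * τ) := by group
    rw [h1, h.τ3]; group
  rwa [this] at ha

theorem KK_le (n : ℕ) : KK Q z y τ n ≤ cent2 z y := by
  induction n with
  | zero => exact inf_le_right
  | succ n ih =>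
    intro a ha
    rw [mem_KK_succ] at ha
    have h1 := h.B_τ (ih ha)
    have : τ * (τ⁻¹ * a * τ) * τ⁻¹ = a := by group
    rwa [this] at h1

theorem E_KK (n : ℕ) : E ≤ KK Q z y τ n := by
  induction n with
  | zero => exact le_inf h.EQ h.EB
  | succ n ih =>
    intro e he
    rw [mem_KK_succ]
    exact ih (h.Eτ' e he)

theorem KK_conj (n : ℕ) {b : G} (hb : b ∈ cent2 z y) : ∀ a ∈ KK Q z y τ n,
    b * a * b⁻¹ ∈ KK Q z y τ n := by
  induction n generalizing b with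
  | zero =>
    rintro a ⟨ha, ha'⟩
    exact ⟨h.Qn b (mem_cent2.1 hb).1 a ha,
      Subgroup.mul_mem _ (Subgroup.mul_mem _ hb ha') (Subgroup.inv_mem _ hb)⟩
  | succ n ih =>
    intro a ha
    rw [mem_KK_succ] at ha ⊢
    have : τ⁻¹ * (b * a * b⁻¹) * τ = (τ⁻¹ * b * τ) * (τ⁻¹ * a * τ) * (τ⁻¹ * b * τ)⁻¹ := by group
    rw [this]
    exact ih (h.B_τ' hb) _ ha

/-- the central element of the `n`-th conjugate -/
theorem comm_KK (n : ℕ) : ∀ a ∈ KK Q z y τ n, ∀ b ∈ KK Q z y τ n,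
    a * b * a⁻¹ * b⁻¹ = 1 ∨ a * b * a⁻¹ * b⁻¹ = τ ^ n * z * (τ ^ n)⁻¹ := by
  induction n with
  | zero =>
    rintro a ⟨ha, -⟩ b ⟨hb, -⟩
    simpa using h.Qcomm a ha b hb
  | succ n ih =>
    intro a ha b hb
    rw [mem_KK_succ] at ha hb
    rcases ih _ ha _ hb with e | e
    · left
      have : a * b * a⁻¹ * b⁻¹ = τ * (τ⁻¹ * a * τ * (τ⁻¹ * b * τ) * (τ⁻¹ * a * τ)⁻¹ *
          (τ⁻¹ * b * τ)⁻¹) * τ⁻¹ := by group
      rw [this, e]; group
    · right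
      have : a * b * a⁻¹ * b⁻¹ = τ * (τ⁻¹ * a * τ * (τ⁻¹ * b * τ) * (τ⁻¹ * a * τ)⁻¹ *
          (τ⁻¹ * b * τ)⁻¹) * τ⁻¹ := by group
      rw [this, e, pow_succ']; group

theorem comm_K0 : ∀ a ∈ KK Q z y τ 0, ∀ b ∈ KK Q z y τ 0,
    a * b * a⁻¹ * b⁻¹ = 1 ∨ a * b * a⁻¹ * b⁻¹ = z := by
  intro a ha b hb
  simpa using h.comm_KK 0 a ha b hb

theorem comm_K1 : ∀ a ∈ KK Q z y τ 1, ∀ b ∈ KK Q z y τ 1,
    a * b * a⁻¹ * b⁻¹ = 1 ∨ a * b * a⁻¹ * b⁻¹ = y := by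
  intro a ha b hb
  have := h.comm_KK 1 a ha b hb
  rwa [pow_one, h.τz] at this

theorem comm_K2 : ∀ a ∈ KK Q z y τ 2, ∀ b ∈ KK Q z y τ 2,
    a * b * a⁻¹ * b⁻¹ = 1 ∨ a * b * a⁻¹ * b⁻¹ = z * y := by
  intro a ha b hb
  have := h.comm_KK 2 a ha b hb
  have e : τ ^ 2 * z * (τ ^ 2)⁻¹ = z * y := by
    have : τ ^ 2 * z * (τ ^ 2)⁻¹ = τ * (τ * z * τ⁻¹) * τ⁻¹ := by rw [pow_two]; group
    rw [this, h.τz, h.τy]
  rwa [e] at this

/-- `B` is the product with respect to the action on `E`. -/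
theorem cent' {b : G} (hb : b ∈ cent2 z y) (hE : ∀ e ∈ E, b * e * b⁻¹ * e⁻¹ ∈ four z y) :
    ∃ r ∈ KK Q z y τ 0, ∃ s ∈ KK Q z y τ 1, b = r * s := by
  obtain ⟨r, hr, s, hs, hsy, hsz, e⟩ := h.cent b hb hE
  have hs1 : s ∈ KK Q z y τ 0 := h.mem_K0.2 ⟨hs, hsy⟩
  have hs2 : τ * s * τ⁻¹ ∈ KK Q z y τ 1 := KK_τ hs1
  have hr' : r ∈ cent2 z y := by
    have : r = b * (τ * s * τ⁻¹)⁻¹ := by rw [e]; group
    rw [this]
    exact Subgroup.mul_mem _ hb (Subgroup.inv_mem _ (h.KK_le 1 hs2))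
  exact ⟨r, ⟨hr, hr'⟩, _, hs2, e⟩

theorem mem_K1_iff {s : G} : s ∈ KK Q z y τ 1 ↔ τ⁻¹ * s * τ ∈ Q ∧ s ∈ cent2 z y := by
  constructor
  · intro hs
    exact ⟨(mem_KK_succ.1 hs).1, h.KK_le 1 hs⟩
  · rintro ⟨h1, h2⟩
    rw [mem_KK_succ]
    exact ⟨h1, h.B_τ' h2⟩

theorem sep0' {a : G} (ha : a ∈ KK Q z y τ 0)
    (hc : ∀ s ∈ KK Q z y τ 1, a * s * a⁻¹ * s⁻¹ ∈ four z y) : a ∈ E := by
  obtain ⟨h1, h2⟩ := h.mem_K0.1 ha
  apply h.sep0 a h1 h2
  intro s hs hsB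
  apply hc
  rw [h.mem_K1_iff]
  refine ⟨?_, hsB⟩
  have : τ⁻¹ * (τ * s * τ⁻¹) * τ = s := by group
  rwa [this]

theorem sep1' {s : G} (hs : s ∈ KK Q z y τ 1)
    (hc : ∀ a ∈ KK Q z y τ 0, a * s * a⁻¹ * s⁻¹ ∈ four z y) : s ∈ E := by
  obtain ⟨h1, h2⟩ := h.mem_K1_iff.1 hs
  have e : τ * (τ⁻¹ * s * τ) * τ⁻¹ = s := by group
  have key := h.sep1 (τ⁻¹ * s * τ) h1 (by rw [e]; exact h2) (by
    intro a ha ha'
    rw [e]
    exact hc a (h.mem_K0.2 ⟨ha, ha'⟩))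
  rwa [e] at key

/-- Characterisation of the three subgroups by the action on `E`, first case. -/
theorem mem_K0_of {b : G} (hb : b ∈ cent2 z y)
    (hE : ∀ e ∈ E, b * e * b⁻¹ * e⁻¹ = 1 ∨ b * e * b⁻¹ * e⁻¹ = z) : b ∈ KK Q z y τ 0 := by
  obtain ⟨r, hr, s, hs, rfl⟩ := h.cent' hb (by
    intro e he
    rcases hE e he with e1 | e1 <;> rw [e1]
    · exact Subgroup.one_mem _
    · exact h.z_four)
  -- `s` centralises `E`
  have hs' : ∀ e ∈ E, s * e * s⁻¹ * e⁻¹ = 1 := by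
    intro e he
    have h1 := h.comm_K1 s hs e (h.E_KK 1 he)
    rcases h1 with h1 | h1
    · exact h1
    · exfalso
      have h2 := hE e he
      have h3 : r * s * e * (r * s)⁻¹ * e⁻¹ = r * (s * e * s⁻¹ * e⁻¹) * r⁻¹ * (r * e * r⁻¹ * e⁻¹) := by
        group
      have h4 := h.comm_K0 r hr e (h.E_KK 0 he)
      have h5 : r * y * r⁻¹ = y := by
        rw [(h.mem_K0.1 hr).2]; group
      rw [h3, h1, h5] at h2
      rcases h4 with h4 | h4 <;> rw [h4] at h2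
      · rw [mul_one] at h2
        rcases h2 with h2 | h2
        · exact h.y_ne h2
        · exact h.y_ne_z h2
      · rcases h2 with h2 | h2
        · have : y = z := by
            have := congrArg (· * z) h2
            simp only [mul_assoc, h.z_sq, mul_one, one_mul] at this
            exact this
          exact h.y_ne_z this
        · have : y = 1 := mul_eq_right.1 h2
          exact h.y_ne this
  have h6 : s ∈ E := by
    -- `s` is in the conjugate of `Q`, transport by `τ`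
    have h7 : τ⁻¹ * s * τ ∈ E := by
      apply h.Eself _ (h.mem_K1_iff.1 hs).1
      intro e he
      have h8 := hs' _ (h.Eτ e he)
      have h9 : s * (τ * e * τ⁻¹) = (τ * e * τ⁻¹) * s := by
        rw [mul_assoc (s * (τ * e * τ⁻¹)) s⁻¹, ← mul_inv_rev, mul_inv_eq_one] at h8
        exact h8
      calc τ⁻¹ * s * τ * e = τ⁻¹ * (s * (τ * e * τ⁻¹)) * τ := by group
        _ = τ⁻¹ * ((τ * e * τ⁻¹) * s) * τ := by rw [h9]
        _ = e * (τ⁻¹ * s * τ) := by group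
    have := h.Eτ _ h7
    have e : τ * (τ⁻¹ * s * τ) * τ⁻¹ = s := by group
    rwa [e] at this
  exact Subgroup.mul_mem _ hr (h.E_KK 0 h6)

theorem K0_act {b : G} (hb : b ∈ KK Q z y τ 0) :
    ∀ e ∈ E, b * e * b⁻¹ * e⁻¹ = 1 ∨ b * e * b⁻¹ * e⁻¹ = z :=
  fun e he => h.comm_K0 b hb e (h.E_KK 0 he)

theorem K1_act {b : G} (hb : b ∈ KK Q z y τ 1) :
    ∀ e ∈ E, b * e * b⁻¹ * e⁻¹ = 1 ∨ b * e * b⁻¹ * e⁻¹ = y :=
  fun e he => h.comm_K1 b hb e (h.E_KK 1 he)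

theorem K2_act {b : G} (hb : b ∈ KK Q z y τ 2) :
    ∀ e ∈ E, b * e * b⁻¹ * e⁻¹ = 1 ∨ b * e * b⁻¹ * e⁻¹ = z * y :=
  fun e he => h.comm_K2 b hb e (h.E_KK 2 he)

theorem mem_K1_of {b : G} (hb : b ∈ cent2 z y)
    (hE : ∀ e ∈ E, b * e * b⁻¹ * e⁻¹ = 1 ∨ b * e * b⁻¹ * e⁻¹ = y) : b ∈ KK Q z y τ 1 := by
  rw [mem_KK_succ]
  apply h.mem_K0_of (h.B_τ' hb)
  intro e he
  have h1 := hE _ (h.Eτ e he)
  have h2 : τ⁻¹ * b * τ * e * (τ⁻¹ * b * τ)⁻¹ * e⁻¹ =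
      τ⁻¹ * (b * (τ * e * τ⁻¹) * b⁻¹ * (τ * e * τ⁻¹)⁻¹) * τ := by group
  rw [h2]
  rcases h1 with h1 | h1 <;> rw [h1]
  · left; group
  · right; rw [← h.τz]; group

theorem mem_K2_of {b : G} (hb : b ∈ cent2 z y)
    (hE : ∀ e ∈ E, b * e * b⁻¹ * e⁻¹ = 1 ∨ b * e * b⁻¹ * e⁻¹ = z * y) : b ∈ KK Q z y τ 2 := by
  rw [mem_KK_succ]
  apply h.mem_K1_of (h.B_τ' hb)
  intro e he
  have h1 := hE _ (h.Eτ e he)
  have h2 : τ⁻¹ * b * τ * e * (τ⁻¹ * b * τ)⁻¹ * e⁻¹ =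
      τ⁻¹ * (b * (τ * e * τ⁻¹) * b⁻¹ * (τ * e * τ⁻¹)⁻¹) * τ := by group
  rw [h2]
  rcases h1 with h1 | h1 <;> rw [h1]
  · left; group
  · right; rw [← h.τy]; group

end Side

end Cfsg.Agent.MonsterU.AmalSide
end

-- part: MonsterU/AmalGen
section
/-!
# The subgroup `E` of a chart

`Q ∩ eta⁻¹ W12` : the elementary abelian group of order `2 ^ 13`, its generation by one orbit of
the element of order 23, the products over the quadratic residues.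
-/

set_option autoImplicit false

open Cfsg

namespace Cfsg.Agent.MonsterU.AmalGen

open Cfsg.Agent.SporadicA.Co0Mono hiding smul_add smul_sub smul_neg smul_zero
open Cfsg.Agent.SporadicStructure.Co0Base (e8 e8_coe)
open Cfsg.Agent.SporadicA
open Cfsg.Agent.SporadicA.Co1Simple
open Cfsg.Agent.CoOneType.CoOneE (pr)
open Cfsg.Agent.MonsterU.Lam2 (L2 cl cl_surjective bf qf bf_add_left bf_add_right bf_cl_eq_zero
  bf_comm bf_zero_left bf_zero_right bf_self add_self neg_eq cl_two)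
open Cfsg.Agent.MonsterU.CoFrame
open Cfsg.Agent.MonsterU.CoFrameAct
open Cfsg.Agent.MonsterU.CoFrameL2
open Cfsg.Agent.MonsterU.CoFrameIrr
open Cfsg.Agent.MonsterU.AmalPin (qr qrProd)
open Cfsg.Agent.MonsterU.AmalSide (cent2 four mem_cent2)
open Cfsg.Agent.MonsterU.Ch
open Cfsg.Spor (Co1)

/-! ### The flag and the form -/

theorem dot_four {v w : leechLattice} (hv : ∀ i, (4 : ℤ) ∣ (v : GolayPt → ℤ) i)
    (hw : ∀ i, (4 : ℤ) ∣ (w : GolayPt → ℤ) i) :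
    (16 : ℤ) ∣ dotInt (v : GolayPt → ℤ) (w : GolayPt → ℤ) := by
  refine Finset.dvd_sum fun i _ => ?_
  have := mul_dvd_mul (hv i) (hw i)
  norm_num at this
  exact this

/-- A vector of `V12` has coordinates divisible by `4` up to twice the lattice. -/
theorem exists_four {v : leechLattice} (hv : v ∈ V12) :
    ∃ w : leechLattice, cl w = cl v ∧ ∀ i, (4 : ℤ) ∣ (w : GolayPt → ℤ) i := by
  rcases (mem_V12_iff_hw (V12_le_V23 hv)).1 hv with h | h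
  · exact ⟨v, rfl, (hw_eq_zero_iff (V12_le_V23 hv)).1 h⟩
  · refine ⟨v + (2 : ℕ) • u0, by rw [map_add, cl_two, add_zero], ?_⟩
    have h23 : v + (2 : ℕ) • u0 ∈ V23 := V12_le_V23 (V12.add_mem hv (two_smul_mem_V12 _))
    rw [← hw_eq_zero_iff h23, hw_add (V12_le_V23 hv), h, CoFrame23.hw_two_u0]
    funext i
    show (1 : ZMod 2) + 1 = 0
    decide

/-- `W12` is totally isotropic. -/
theorem bf_W12 {x y : L2} (hx : x ∈ W12) (hy : y ∈ W12) : bf x y = 0 := by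
  obtain ⟨v, rfl⟩ := cl_surjective x
  obtain ⟨w, rfl⟩ := cl_surjective y
  obtain ⟨v', hv', h1⟩ := exists_four (cl_mem_W12.1 hx)
  obtain ⟨w', hw', h2⟩ := exists_four (cl_mem_W12.1 hy)
  rw [← hv', ← hw', bf_cl_eq_zero]
  exact dot_four h1 h2

theorem dot_duad (v : leechLattice) {i j : GolayPt} :
    dotInt (v : GolayPt → ℤ) (duad i j : GolayPt → ℤ) =
      4 * ((v : GolayPt → ℤ) i - (v : GolayPt → ℤ) j) := by
  have h : ∀ k, (v : GolayPt → ℤ) k * (duad i j : GolayPt → ℤ) k =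
      (if k = i then 4 * (v : GolayPt → ℤ) i else 0) - (if k = j then 4 * (v : GolayPt → ℤ) j else 0) := by
    intro k
    rw [duad_coe]
    split_ifs with h1 h2 h2
    · subst h1; subst h2; ring
    · subst h1; ring
    · subst h2; ring
    · ring
  show ∑ k, (v : GolayPt → ℤ) k * (duad i j : GolayPt → ℤ) k = _
  rw [Finset.sum_congr rfl fun k _ => h k, Finset.sum_sub_distrib, Finset.sum_ite_eq', Finset.sum_ite_eq',
    if_pos (Finset.mem_univ _), if_pos (Finset.mem_univ _)]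
  ring

/-- `W12` is its own orthogonal space. -/
theorem mem_W12_of_bf {x : L2} (h : ∀ y ∈ W12, bf x y = 0) : x ∈ W12 := by
  have h1 : x ∈ W23 := (mem_W23_iff_bf x).2 (h _ (W1_le_W12 f0_mem_W1))
  obtain ⟨v, rfl⟩ := cl_surjective x
  rw [cl_mem_W12]
  refine (mem_V12 v).2 ⟨cl_mem_W23.1 h1, fun i j => ?_⟩
  have h2 := h _ (cl_mem_W12.2 (duad_mem i j))
  rw [bf_cl_eq_zero, dot_duad] at h2
  obtain ⟨k, hk⟩ := h2
  exact ⟨k, by omega⟩

/-! ### Generation by one orbit -/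

theorem X_pow_smul_mem {W : AddSubgroup L2} (hW : ∀ x ∈ W, X • x ∈ W) (n : ℕ) {x : L2} (hx : x ∈ W) :
    X ^ n • x ∈ W := by
  induction n with
  | zero => rwa [pow_zero, one_smul]
  | succ n ih => rw [pow_succ', mul_smul]; exact hW _ ih

theorem gen_of_irr {W W' : AddSubgroup L2} (hW : ∀ x ∈ W, X • x ∈ W) (hW' : ∀ x ∈ W', X • x ∈ W')
    (hle : W ≤ W')
    (hirr : ∀ U : AddSubgroup L2, W ≤ U → U ≤ W' → (∀ x ∈ U, X • x ∈ U) → U = W ∨ U = W')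
    {v : L2} (hv : v ∈ W') (hv' : v ∉ W) :
    W' ≤ AddSubgroup.closure ((Set.range fun n : ℕ => X ^ n • v) ∪ (W : Set L2)) := by
  set U := AddSubgroup.closure ((Set.range fun n : ℕ => X ^ n • v) ∪ (W : Set L2)) with hU
  have h1 : W ≤ U := fun x hx => AddSubgroup.subset_closure (Or.inr hx)
  have h2 : U ≤ W' := by
    rw [hU, AddSubgroup.closure_le]
    rintro _ (⟨n, rfl⟩ | hx)
    · exact X_pow_smul_mem hW' n hv
    · exact hle hx
  have h3 : ∀ x ∈ U, X • x ∈ U := by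
    intro x hx
    rw [hU] at hx
    refine AddSubgroup.closure_induction (p := fun x _ => X • x ∈ U) ?_ ?_ ?_ ?_ hx
    · rintro y (⟨n, rfl⟩ | hy)
      · refine AddSubgroup.subset_closure (Or.inl ⟨n + 1, ?_⟩)
        show X ^ (n + 1) • v = X • X ^ n • v
        rw [pow_succ', mul_smul]
      · exact h1 (hW y hy)
    · show X • (0 : L2) ∈ U
      rw [smul_zero]; exact U.zero_mem
    · intro a b _ _ ha hb
      rw [smul_add]; exact U.add_mem ha hb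
    · intro a _ ha
      rw [smul_neg]; exact U.neg_mem ha
  have h4 : v ∈ U := by
    refine AddSubgroup.subset_closure (Or.inl ⟨0, ?_⟩)
    show X ^ 0 • v = v
    rw [pow_zero, one_smul]
  rcases hirr U h1 h2 h3 with h5 | h5
  · exact absurd (h5 ▸ h4) hv'
  · exact h5.ge

theorem gen_W12 {v : L2} (hv : v ∈ W12) (hv' : v ∉ W1) :
    W12 ≤ AddSubgroup.closure ((Set.range fun n : ℕ => X ^ n • v) ∪ (W1 : Set L2)) :=
  gen_of_irr (fun _ => F_mem_W1 X_mem_F) (fun _ => F_mem_W12 X_mem_F) W1_le_W12 irr_W12 hv hv'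

theorem gen_W23 {v : L2} (hv : v ∈ W23) (hv' : v ∉ W12) :
    W23 ≤ AddSubgroup.closure ((Set.range fun n : ℕ => X ^ n • v) ∪ (W12 : Set L2)) :=
  gen_of_irr (fun _ => F_mem_W12 X_mem_F) (fun _ => F_mem_W23 X_mem_F) W12_le_W23 irr_W23 hv hv'

/-! ### The chart -/

variable {G : Type*} [Group G] {Q : Subgroup G} {z : G} {eta : G → L2}
  {pi : Subgroup.centralizer ({z} : Set G) →* Co1}

section

variable (h : Chart Q z eta pi)
include h

/-- The inverse image in `Q` of a subgroup of `Λ/2Λ`. -/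
def pre (W : AddSubgroup L2) : Subgroup G where
  carrier := {q | q ∈ Q ∧ eta q ∈ W}
  one_mem' := ⟨Q.one_mem, by rw [h.eta_one]; exact W.zero_mem⟩
  mul_mem' := by
    rintro a b ⟨ha, ha'⟩ ⟨hb, hb'⟩
    exact ⟨Q.mul_mem ha hb, by rw [h.eta_mul a ha b hb]; exact W.add_mem ha' hb'⟩
  inv_mem' := by
    rintro a ⟨ha, ha'⟩
    exact ⟨Q.inv_mem ha, by rw [h.eta_inv ha]; exact ha'⟩

theorem mem_pre {W : AddSubgroup L2} {q : G} : q ∈ pre h W ↔ q ∈ Q ∧ eta q ∈ W := Iff.rfl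

theorem pre_mono {W W' : AddSubgroup L2} (hW : W ≤ W') : pre h W ≤ pre h W' :=
  fun _ hq => ⟨hq.1, hW hq.2⟩

theorem pre_le {W : AddSubgroup L2} : pre h W ≤ Q := fun _ hq => hq.1

theorem z_mem_pre (W : AddSubgroup L2) : z ∈ pre h W :=
  ⟨h.large.z_mem, by rw [h.eta_z]; exact W.zero_mem⟩

theorem pre_conj {W : AddSubgroup L2} (c : Subgroup.centralizer ({z} : Set G))
    (hW : ∀ x ∈ W, pi c • x ∈ W) {q : G} (hq : q ∈ pre h W) :
    (c : G) * q * (c : G)⁻¹ ∈ pre h W := by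
  refine ⟨?_, ?_⟩
  · exact h.large.conj_mem c (Subgroup.mem_centralizer_singleton_iff.1 c.2) q hq.1
  · rw [h.eta_conj c q hq.1]
    exact hW _ hq.2

theorem eta_pow_conj (c : Subgroup.centralizer ({z} : Set G)) {q : G} (hq : q ∈ Q) (n : ℕ) :
    (c : G) ^ n * q * ((c : G) ^ n)⁻¹ ∈ Q ∧
      eta ((c : G) ^ n * q * ((c : G) ^ n)⁻¹) = pi c ^ n • eta q := by
  have h1 := h.eta_conj (c ^ n) q hq
  rw [map_pow] at h1
  exact ⟨h.large.conj_mem _ (Subgroup.mem_centralizer_singleton_iff.1 (c ^ n).2) q hq, h1⟩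

/-- Generation lifts. -/
theorem closure_pre {W W' : AddSubgroup L2} (c : Subgroup.centralizer ({z} : Set G)) {a : G}
    (ha : a ∈ Q)
    (hgen : W' ≤ AddSubgroup.closure ((Set.range fun n : ℕ => pi c ^ n • eta a) ∪ (W : Set L2))) :
    ∀ q ∈ pre h W', q ∈ Subgroup.closure
      ((Set.range fun n : ℕ => (c : G) ^ n * a * ((c : G) ^ n)⁻¹) ∪ (pre h W : Set G)) := by
  set K := Subgroup.closure
    ((Set.range fun n : ℕ => (c : G) ^ n * a * ((c : G) ^ n)⁻¹) ∪ (pre h W : Set G)) with hK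
  have hz : z ∈ K := Subgroup.subset_closure (Or.inr (z_mem_pre h W))
  have key : ∀ v, v ∈ AddSubgroup.closure
      ((Set.range fun n : ℕ => pi c ^ n • eta a) ∪ (W : Set L2)) →
      ∃ q ∈ Q, eta q = v ∧ q ∈ K := by
    intro v hv
    refine AddSubgroup.closure_induction (p := fun v _ => ∃ q ∈ Q, eta q = v ∧ q ∈ K)
      ?_ ?_ ?_ ?_ hv
    · rintro w (⟨n, rfl⟩ | hw)
      · obtain ⟨h1, h2⟩ := eta_pow_conj h c ha n
        exact ⟨_, h1, h2, Subgroup.subset_closure (Or.inl ⟨n, rfl⟩)⟩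
      · obtain ⟨q, hq, hqw⟩ := h.eta_surj w
        exact ⟨q, hq, hqw, Subgroup.subset_closure (Or.inr ⟨hq, by rw [hqw]; exact hw⟩)⟩
    · exact ⟨1, Q.one_mem, h.eta_one, K.one_mem⟩
    · rintro x y _ _ ⟨q, hq, hqx, hqK⟩ ⟨r, hr, hry, hrK⟩
      exact ⟨q * r, Q.mul_mem hq hr, by rw [h.eta_mul q hq r hr, hqx, hry], K.mul_mem hqK hrK⟩
    · rintro x _ ⟨q, hq, hqx, hqK⟩
      exact ⟨q, hq, by rw [hqx, neg_eq], hqK⟩
  intro q hq
  obtain ⟨r, hr, hrq, hrK⟩ := key _ (hgen hq.2)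
  rcases (h.eta_eq hq.1 hr).1 hrq.symm with rfl | rfl
  · exact hrK
  · exact K.mul_mem hrK hz

/-- Products over the residues. -/
theorem eta_qrProd (c : Subgroup.centralizer ({z} : Set G)) {q : G} (hq : q ∈ Q) :
    qrProd (c : G) q ∈ Q ∧ eta (qrProd (c : G) q) = (qr.map fun i => pi c ^ i • eta q).sum := by
  have hl : ∀ l : List ℕ, (l.map fun i => (c : G) ^ i * q * ((c : G) ^ i)⁻¹).prod ∈ Q ∧
      eta (l.map fun i => (c : G) ^ i * q * ((c : G) ^ i)⁻¹).prod =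
        (l.map fun i => pi c ^ i • eta q).sum := by
    intro l
    induction l with
    | nil => exact ⟨Q.one_mem, h.eta_one⟩
    | cons n l ih =>
      obtain ⟨h1, h2⟩ := eta_pow_conj h c hq n
      rw [List.map_cons, List.prod_cons, List.map_cons, List.sum_cons]
      exact ⟨Q.mul_mem h1 ih.1, by rw [h.eta_mul _ h1 _ ih.1, h2, ih.2]⟩
  exact hl qr

end

/-! ### The element of order 23 -/

theorem X_pow_smul_cl (n : ℕ) (v : leechLattice) : X ^ n • cl v = cl (x23 ^ n • v) := by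
  rw [X, ← map_pow]
  rfl

theorem sum_X_cl (v : leechLattice) :
    (qr.map fun i => X ^ i • cl v).sum = cl (CoFrame23.qrSum v) := by
  unfold CoFrame23.qrSum
  rw [map_list_sum, List.map_map]
  congr 1

theorem sum_X_W12 {x : L2} (hx : x ∈ W12) : (qr.map fun i => X ^ i • x).sum + x ∈ W1 := by
  obtain ⟨v, rfl⟩ := cl_surjective x
  rw [sum_X_cl, ← Lam2.cl_sub]
  exact cl_mem_W1.2 (CoFrame23.qrSum_V12 (cl_mem_W12.1 hx))

theorem sum_X_W23 {x : L2} (hx : x ∈ W23) : (qr.map fun i => X ^ i • x).sum ∈ W12 := by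
  obtain ⟨v, rfl⟩ := cl_surjective x
  rw [sum_X_cl]
  exact cl_mem_W12.2 (CoFrame23.qrSum_V23 (cl_mem_W23.1 hx))

section

variable (h : Chart Q z eta pi)
include h

/-- The elementary abelian subgroup of order `2 ^ 13`. -/
noncomputable abbrev EE : Subgroup G := pre h W12

variable {y : G} (hyQ : y ∈ Q) (hy : eta y = f0)

theorem EQ : EE h ≤ Q := pre_le h

theorem zE : z ∈ EE h := z_mem_pre h _

include hyQ hy in
theorem yE : y ∈ EE h := ⟨hyQ, by rw [hy]; exact W1_le_W12 f0_mem_W1⟩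

include hyQ hy in
/-- The elements of `Q` commuting with `y`. -/
theorem comm_y {a : G} (ha : a ∈ Q) : a * y = y * a ↔ eta a ∈ W23 := by
  rw [h.comm_iff ha hyQ, hy, mem_W23_iff_bf]

include hyQ hy in
theorem Ey : ∀ e ∈ EE h, e * y = y * e :=
  fun _ he => (comm_y h hyQ hy he.1).2 (W12_le_W23 he.2)

theorem Eab : ∀ e ∈ EE h, ∀ f ∈ EE h, e * f = f * e :=
  fun _ he _ hf => (h.comm_iff he.1 hf.1).2 (bf_W12 he.2 hf.2)

theorem Eself : ∀ q ∈ Q, (∀ e ∈ EE h, q * e = e * q) → q ∈ EE h := by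
  intro q hq hc
  refine ⟨hq, mem_W12_of_bf fun w hw => ?_⟩
  obtain ⟨e, he, rfl⟩ := h.eta_surj w
  exact (h.comm_iff hq he).1 (hc e ⟨he, hw⟩)

include hyQ hy in
/-- `pi` maps `C(z, y)` to the stabiliser of the frame. -/
theorem pi_mem_F (c : Subgroup.centralizer ({z} : Set G)) (hc : (c : G) * y = y * c) : pi c ∈ F := by
  rw [mem_F_iff, ← hy, ← h.eta_conj c y hyQ, hc]
  congr 1
  group

include hyQ hy in
theorem pi_mem_F_iff (c : Subgroup.centralizer ({z} : Set G)) :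
    pi c ∈ F ↔ (c : G) * y = y * c ∨ (c : G) * y = y * z * c := by
  have hcQ := h.large.conj_mem c (Subgroup.mem_centralizer_singleton_iff.1 c.2) y hyQ
  rw [mem_F_iff, ← hy, ← h.eta_conj c y hyQ, h.eta_eq hcQ hyQ, mul_inv_eq_iff_eq_mul,
    mul_inv_eq_iff_eq_mul]

include hyQ hy in
theorem En : ∀ b ∈ cent2 z y, ∀ e ∈ EE h, b * e * b⁻¹ ∈ EE h := by
  intro b hb e he
  obtain ⟨h1, h2⟩ := mem_cent2.1 hb
  have h3 := pi_mem_F h hyQ hy ⟨b, Subgroup.mem_centralizer_singleton_iff.2 h1⟩ h2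
  exact pre_conj h ⟨b, Subgroup.mem_centralizer_singleton_iff.2 h1⟩ (fun x hx => F_mem_W12 h3 hx) he

include hyQ hy in
/-- The four group is the inverse image of `W1`. -/
theorem pre_W1 : pre h W1 = four z y := by
  have hzz := h.large.z_sq
  have hzy : z * y = y * z := (h.large.comm_z y hyQ).symm
  apply le_antisymm
  · rintro q ⟨hq, hq'⟩
    have hz : z ∈ four z y := Subgroup.subset_closure (by simp)
    have hy' : y ∈ four z y := Subgroup.subset_closure (by simp)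
    rcases (mem_W1 _).1 hq' with h0 | h0
    · rcases (h.eta_zero q hq).1 h0 with rfl | rfl
      · exact Subgroup.one_mem _
      · exact hz
    · rw [← hy] at h0
      rcases (h.eta_eq hq hyQ).1 h0 with rfl | rfl
      · exact hy'
      · exact Subgroup.mul_mem _ hy' hz
  · rw [four, Subgroup.closure_le]
    rintro t (rfl | ht)
    · exact z_mem_pre h _
    · rw [Set.mem_singleton_iff] at ht
      subst ht
      exact ⟨hyQ, by rw [hy]; exact f0_mem_W1⟩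

section

variable {x : G} (hxc : x ∈ Subgroup.centralizer ({z} : Set G)) (hx : pi ⟨x, hxc⟩ = X)

include hyQ hy hx in
theorem genE {e₁ : G} (he : e₁ ∈ Q) (h1 : eta e₁ ∈ W12) (h2 : eta e₁ ∉ W1) :
    ∀ e ∈ EE h, e ∈ Subgroup.closure
      ((Set.range fun n : ℕ => x ^ n * e₁ * (x ^ n)⁻¹) ∪ (four z y : Set G)) := by
  intro e he'
  have := closure_pre h (W := W1) (W' := W12) ⟨x, hxc⟩ he (by rw [hx]; exact gen_W12 h1 h2) e he'
  rwa [pre_W1 h hyQ hy] at this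

include hyQ hy hx in
theorem gen0 {a₁ : G} (ha : a₁ ∈ Q) (h1 : eta a₁ ∈ W23) (h2 : eta a₁ ∉ W12) :
    ∀ a ∈ Q, a * y = y * a → a ∈ Subgroup.closure
      ((Set.range fun n : ℕ => x ^ n * a₁ * (x ^ n)⁻¹) ∪ (EE h : Set G)) := by
  intro a ha' hay
  exact closure_pre h (W := W12) (W' := W23) ⟨x, hxc⟩ ha (by rw [hx]; exact gen_W23 h1 h2) a
    ⟨ha', (comm_y h hyQ hy ha').1 hay⟩

include hyQ hy hx in
theorem qrE : ∀ e ∈ EE h, qrProd x e * e⁻¹ ∈ four z y := by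
  intro e he
  rw [← pre_W1 h hyQ hy]
  obtain ⟨h1, h2⟩ := eta_qrProd h ⟨x, hxc⟩ he.1
  refine ⟨Q.mul_mem h1 (Q.inv_mem he.1), ?_⟩
  rw [h.eta_mul _ h1 _ (Q.inv_mem he.1), h.eta_inv he.1, h2, hx]
  exact sum_X_W12 he.2

include hyQ hy hx in
theorem qr0 : ∀ a ∈ Q, a * y = y * a → qrProd x a ∈ EE h := by
  intro a ha hay
  obtain ⟨h1, h2⟩ := eta_qrProd h ⟨x, hxc⟩ ha
  refine ⟨h1, ?_⟩
  rw [h2, hx]
  exact sum_X_W23 ((comm_y h hyQ hy ha).1 hay)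

end

/-- The elements `e₁` and `a₁` exist. -/
theorem exists_e₁ : ∃ e₁ ∈ Q, eta e₁ ∈ W12 ∧ eta e₁ ∉ W1 := by
  by_contra hn
  push Not at hn
  have h1 : W12 ≤ W1 := by
    intro w hw
    obtain ⟨q, hq, rfl⟩ := h.eta_surj w
    exact hn q hq hw
  have h2 := AddSubgroup.card_dvd_of_le h1
  rw [card_W12, card_W1] at h2
  norm_num at h2

theorem exists_a₁ : ∃ a₁ ∈ Q, eta a₁ ∈ W23 ∧ eta a₁ ∉ W12 := by
  by_contra hn
  push Not at hn
  have h1 : W23 ≤ W12 := by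
    intro w hw
    obtain ⟨q, hq, rfl⟩ := h.eta_surj w
    exact hn q hq hw
  have h2 := AddSubgroup.card_dvd_of_le h1
  rw [card_W23, card_W12] at h2
  norm_num at h2

end

end Cfsg.Agent.MonsterU.AmalGen
end
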